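import Cfsg.Agent.Lib.CIT.Classification
import Cfsg.Agent.Lib.ZTIso.Zassenhaus
import Cfsg.Agent.Lib.SuzukiMatrix.Bridge
import Cfsg.Agent.Lib.CITFilter.Assemble

/-!
# Simple CIT groups up to isomorphism, in the form used by the element-order filters
-/

set_option autoImplicit false

namespace CfsgLib.TwoR

/-- A simple CIT group is a `PSL₂`, `PSL₃(4)` or a Suzuki group up to isomorphism. -/
theorem cit_list_iso {G : Type*} [Group G] [Finite G] [IsSimpleGroup G]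
    (hab : ∃ a b : G, a * b ≠ b * a) (hC : CfsgLib.CIT.IsCIT G) :
    (∃ (F : Type) (_ : Field F) (_ : Fintype F),
        Nonempty (G ≃* Matrix.ProjectiveSpecialLinearGroup (Fin 2) F)) ∨
    (∃ (F : Type) (_ : Field F) (_ : Fintype F), Fintype.card F = 4 ∧
        Nonempty (G ≃* Matrix.ProjectiveSpecialLinearGroup (Fin 3) F)) ∨
    Cfsg.Lie.IsoSuzuki G := by
  rcases CfsgLib.CIT.nonTI_or_exists_isTI hab hC with (⟨F, i1, i2, -, he⟩ | h) | ⟨S, hTI⟩
  · exact Or.inl ⟨F, i1, i2, he⟩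
  · exact Or.inr (Or.inl h)
  · rcases CfsgLib.ZTIso.zassenhaus_simple_iso
      (CfsgLib.CIT.isZassenhausGroup_of_isTI hab (CfsgLib.CIT.two_dvd_card hab) hC S hTI) with h | h
    · exact Or.inl h
    · exact Or.inr (Or.inr h)

theorem candidate_of_isCIT {G : Type*} [Group G] [Finite G] [IsSimpleGroup G]
    (hab : ∃ a b : G, a * b ≠ b * a) (hC : CfsgLib.CIT.IsCIT G) :
    CfsgLib.CITFilter.Candidate G := by
  rcases cit_list_iso hab hC with h | h | ⟨F, i1, i2, m, hm, hF, ⟨e⟩⟩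
  · exact Or.inl h
  · exact Or.inr (Or.inl h)
  · exact Or.inr (Or.inr ⟨F, i1, i2, m, ⟨hm, hF⟩,
      ⟨e.trans (CfsgLib.SuzukiMatrix.szEquiv ⟨hm, hF⟩).symm⟩⟩)

end CfsgLib.TwoR
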