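import Cfsg.Agent.Lib.TwoR.Basic

/-!
# The setting with TI Sylow 2-subgroups
-/

set_option autoImplicit false

namespace CfsgLib.TwoR

/-- `S` is elementary abelian of order at least four and contains every centraliser of its
involutions in its (proper) normaliser. -/
structure TISetting (G : Type*) [Group G] (r : ℕ) (S : Sylow 2 G) : Prop where
  hyp : Hyp G r
  exp_two : ∀ e ∈ (S : Subgroup G), e * e = 1
  four_le : 4 ≤ Nat.card (S : Subgroup G)
  centralizer_le : ∀ t ∈ (S : Subgroup G), t ≠ 1 → ∀ g : G, Commute g t →
    g ∈ Subgroup.normalizer ((S : Subgroup G) : Set G)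
  ne_top : Subgroup.normalizer ((S : Subgroup G) : Set G) ≠ ⊤

end CfsgLib.TwoR
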