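import Mathlib.GroupTheory.Transfer
import Cfsg.Agent.Lib.Signalizer.LocalCore
import Cfsg.Agent.Lib.Signalizer.Transitivity
import Cfsg.Agent.Lib.Components.AutQuotient
import Cfsg.Agent.Lib.CIT.TISylow
import Cfsg.Agent.Lib.TwoR.Defs

/-!
# The involution centralisers lie in the Sylow normaliser
-/

set_option autoImplicit false
set_option linter.style.haveILetI false
set_option linter.unusedSectionVars false

open Subgroup
open CfsgLib.Balance (coreP coreP_le le_coreP coreP_coprime le_normalizer_coreP)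

namespace CfsgLib.TwoR

variable {G : Type*} [Group G] [Finite G]

omit [Finite G] in
theorem commute_of_sq_one {S : Subgroup G} (hexp : ∀ e ∈ S, e * e = 1) {a b : G} (ha : a ∈ S)
    (hb : b ∈ S) : Commute a b := by
  have h1 := inv_eq_of_mul_eq_one_right (hexp _ (mul_mem ha hb))
  rw [mul_inv_rev, inv_eq_of_mul_eq_one_right (hexp a ha),
    inv_eq_of_mul_eq_one_right (hexp b hb)] at h1
  exact h1.symm

theorem mem_normalizer_of_conj_le {H : Subgroup G} {g : G} (h : ∀ x ∈ H, g * x * g⁻¹ ∈ H) :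
    g ∈ normalizer (H : Set G) := by
  have heq : H.map (MulAut.conj g).toMonoidHom = H :=
    Subgroup.eq_of_le_of_card_ge (by rintro _ ⟨x, hx, rfl⟩; exact h x hx)
      (Nat.card_congr (H.equivMapOfInjective _ (MulAut.conj g).injective).toEquiv).le
  refine mem_normalizer_iff.mpr fun x => ⟨h x, fun hx => ?_⟩
  rw [← heq] at hx
  obtain ⟨y, hy, he⟩ := hx
  obtain rfl : y = x := by
    simpa using he
  exact hy

/-- A solvable overgroup of an abelian Sylow 2-subgroup is `O_{2'}` times a normaliser. -/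
theorem exists_core_mul_normalizer (S : Sylow 2 G) (hS : IsMulCommutative (S : Subgroup G))
    {K : Subgroup G} (hSK : (S : Subgroup G) ≤ K) (hK : Group.IsSolvable K) {c : G} (hc : c ∈ K) :
    ∃ o ∈ coreP 2 K, ∃ n ∈ normalizer ((S : Subgroup G) : Set G), c = o * n := by
  haveI := hK
  set T : Sylow 2 K := S.subtype hSK with hTdef
  have hT : IsMulCommutative (T : Subgroup K) :=
    ⟨⟨fun a b => by
      apply Subtype.ext
      apply Subtype.ext
      show ((a : K) : G) * ((b : K) : G) = ((b : K) : G) * ((a : K) : G)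
      exact congrArg Subtype.val
        (hS.is_comm.comm (⟨((a : K) : G), a.2⟩ : (S : Subgroup G)) ⟨((b : K) : G), b.2⟩)⟩⟩
  haveI : ((T : Subgroup K) ⊔ Cfsg.pPrimeCore 2 K).Normal := Cfsg.Agent.S0018.result 2 T hT
  have htop := Sylow.normalizer_sup_eq_top' (N := (T : Subgroup K) ⊔ Cfsg.pPrimeCore 2 K) T
    le_sup_left
  change normalizer ((T : Subgroup K) : Set K) ⊔ ((T : Subgroup K) ⊔ Cfsg.pPrimeCore 2 K) = ⊤ at htop
  rw [← sup_assoc, sup_eq_left.mpr le_normalizer] at htop
  haveI : (Cfsg.pPrimeCore 2 K).Normal := Cfsg.pPrimeCore_normal 2 K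
  have hmem : (⟨c, hc⟩ : K) ∈ normalizer ((T : Subgroup K) : Set K) ⊔ Cfsg.pPrimeCore 2 K :=
    htop ▸ mem_top _
  rw [sup_comm, mem_sup_of_normal_left] at hmem
  obtain ⟨o, ho, n, hn, he⟩ := hmem
  refine ⟨o, ⟨o, ho, rfl⟩, n, mem_normalizer_iff.mpr fun x => ?_,
    congrArg Subtype.val he.symm⟩
  rw [mem_normalizer_iff] at hn
  constructor
  · intro hx
    exact (hn ⟨x, hSK hx⟩).mp hx
  · intro hx
    have h2 : (n : G)⁻¹ * ((n : G) * x * (n : G)⁻¹) * n ∈ K :=
      mul_mem (mul_mem (inv_mem n.2) (hSK hx)) n.2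
    simp only [mul_assoc, inv_mul_cancel, mul_one, inv_mul_cancel_left] at h2
    exact (hn ⟨x, h2⟩).mpr hx

/-- In a simple group the normaliser of an elementary abelian Sylow 2-subgroup fixes none of its
involutions. -/
theorem eq_one_of_normalizer_fixed [IsSimpleGroup G] (hab : ∃ a b : G, a * b ≠ b * a)
    (S : Sylow 2 G) (hexp : ∀ e ∈ (S : Subgroup G), e * e = 1) {e : G} (he : e ∈ (S : Subgroup G))
    (hfix : ∀ n ∈ normalizer ((S : Subgroup G) : Set G), Commute n e) : e = 1 := by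
  have hcomm : ∀ a ∈ (S : Subgroup G), ∀ b ∈ (S : Subgroup G), a * b = b * a := fun a ha b hb =>
    commute_of_sq_one hexp ha hb
  let _ : CommGroup (S : Subgroup G) :=
    { (inferInstance : Group (S : Subgroup G)) with
      mul_comm := fun a b => Subtype.ext (hcomm a a.2 b b.2) }
  let τ : G →* (S : Subgroup G) := MonoidHom.transfer (MonoidHom.id (S : Subgroup G))
  have hkey : ∀ (k : ℕ) (g₀ : G), g₀⁻¹ * e ^ k * g₀ ∈ (S : Subgroup G) →
      g₀⁻¹ * e ^ k * g₀ = e ^ k := fun k g₀ hk => by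
    have hSc : (S : Subgroup G) ≤ centralizer ((S : Subgroup G) : Set G) :=
      fun a ha => mem_centralizer_iff.mpr fun b hb => hcomm b hb a ha
    obtain ⟨n, hn, hne⟩ := CfsgLib.Transfer.burnside_fusion_central S (hSc (pow_mem he k))
      (hSc hk) (g := g₀⁻¹) (by simp)
    rw [← hne, ((hfix n hn).pow_right k).eq, mul_inv_cancel_right]
  have hτ : τ e = ⟨e ^ (S : Subgroup G).index, MonoidHom.transfer_eq_pow_aux e hkey⟩ :=
    MonoidHom.transfer_eq_pow _ e hkey
  have hone : τ = 1 := by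
    rcases Subgroup.Normal.eq_bot_or_eq_top (H := τ.ker) inferInstance with h0 | h0
    · obtain ⟨a, b, hne⟩ := hab
      exact absurd ((MonoidHom.ker_eq_bot_iff τ).mp h0
        (by rw [map_mul, map_mul, mul_comm])) hne
    · exact MonoidHom.ext fun g => (MonoidHom.mem_ker).mp (h0 ▸ mem_top g)
  rw [hone, MonoidHom.one_apply] at hτ
  have hpow : e ^ (S : Subgroup G).index = 1 := (congrArg Subtype.val hτ).symm
  obtain ⟨j, hj⟩ : Odd (S : Subgroup G).index :=
    Nat.not_even_iff_odd.mp fun hev => S.not_dvd_index (even_iff_two_dvd.mp hev)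
  rw [hj, pow_succ, pow_mul, pow_two, hexp e he, one_pow, one_mul] at hpow
  exact hpow

variable {r : ℕ}

/-- An `r`-group normalised by the normaliser of the Sylow 2-subgroup is centralised by it. -/
theorem centralized_of_rgroup [IsSimpleGroup G] (hab : ∃ a b : G, a * b ≠ b * a) (h : Hyp G r)
    (S : Sylow 2 G) (hexp : ∀ e ∈ (S : Subgroup G), e * e = 1) {D : Subgroup G}
    (hD : IsPGroup r D)
    (hN : normalizer ((S : Subgroup G) : Set G) ≤ normalizer (D : Set G)) :
    ∀ e ∈ (S : Subgroup G), ∀ w ∈ D, Commute e w := by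
  haveI := Fact.mk h.prime
  set N := normalizer ((S : Subgroup G) : Set G) with hNdef
  have hcomm : ∀ a ∈ (S : Subgroup G), ∀ b ∈ (S : Subgroup G), Commute a b := fun a ha b hb =>
    commute_of_sq_one hexp ha hb
  set Z := (S : Subgroup G) ⊓ centralizer (D : Set G) with hZ
  have hconj : ∀ {z}, z ∈ N → ∀ {e}, e ∈ (S : Subgroup G) → z * e * z⁻¹ ∈ (S : Subgroup G) :=
    fun hz e he => (mem_normalizer_iff.mp hz e).mp he
  have hstep : ∀ z : G, z ∈ N → ∀ s : ℕ, s.Prime → s ≠ 2 → orderOf z = s →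
      ∀ e ∈ (S : Subgroup G), e * (z * e * z⁻¹) ∈ Z := by
    intro z hz s hs hs2 ho e0 he0
    let E' : Subgroup G :=
      { carrier := {f | ∃ e ∈ (S : Subgroup G), f = e * (z * e * z⁻¹)}
        one_mem' := ⟨1, one_mem _, by simp⟩
        mul_mem' := by
          rintro _ _ ⟨a, ha, rfl⟩ ⟨b, hb, rfl⟩
          refine ⟨a * b, mul_mem ha hb, ?_⟩
          calc a * (z * a * z⁻¹) * (b * (z * b * z⁻¹))
              = a * ((z * a * z⁻¹) * b) * (z * b * z⁻¹) := by simp [mul_assoc]
            _ = a * (b * (z * a * z⁻¹)) * (z * b * z⁻¹) := by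
                rw [(hcomm _ (hconj hz ha) b hb).eq]
            _ = a * b * (z * (a * b) * z⁻¹) := by group
        inv_mem' := by
          rintro _ ⟨a, ha, rfl⟩
          refine ⟨a⁻¹, inv_mem ha, ?_⟩
          rw [mul_inv_rev, (hcomm _ (inv_mem (hconj hz ha)) _ (inv_mem ha)).eq]
          group }
    have hE'S : E' ≤ (S : Subgroup G) := by
      rintro _ ⟨a, ha, rfl⟩
      exact mul_mem ha (hconj hz ha)
    haveI : IsMulCommutative E' :=
      ⟨⟨fun a b => Subtype.ext (hcomm a (hE'S a.2) b (hE'S b.2)).eq⟩⟩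
    have hzE' : z ∈ normalizer (E' : Set G) := by
      refine mem_normalizer_of_conj_le fun f hf => ?_
      obtain ⟨a, ha, rfl⟩ := hf
      exact ⟨z * a * z⁻¹, hconj hz ha, by group⟩
    have hfpf : ∀ f ∈ E', Commute z f → f = 1 := by
      rintro _ ⟨a, ha, rfl⟩ hc
      have hza := hconj hz ha
      have h2 : Commute (z ^ 2) a := by
        have h1 : z * (a * (z * a * z⁻¹)) * z⁻¹ = a * (z * a * z⁻¹) := by
          rw [hc.eq, mul_inv_cancel_right]
        have h3 : (z * a * z⁻¹) * (z * (z * a * z⁻¹) * z⁻¹) = (z * a * z⁻¹) * a :=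
          calc (z * a * z⁻¹) * (z * (z * a * z⁻¹) * z⁻¹)
              = z * (a * (z * a * z⁻¹)) * z⁻¹ := by group
            _ = a * (z * a * z⁻¹) := h1
            _ = (z * a * z⁻¹) * a := (hcomm _ ha _ hza).eq
        have h4 : z * (z * a * z⁻¹) * z⁻¹ = a := mul_left_cancel h3
        show z ^ 2 * a = a * z ^ 2
        calc z ^ 2 * a = z * (z * a * z⁻¹) * z⁻¹ * z ^ 2 := by simp [pow_two, mul_assoc]
          _ = a * z ^ 2 := by rw [h4]
      obtain ⟨j, hj⟩ := exists_pow_eq_self_of_coprime (x := z) (n := 2)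
        (ho ▸ Nat.coprime_two_left.mpr (hs.odd_of_ne_two hs2))
      have h5 : Commute z a := hj ▸ h2.pow_left j
      rw [h5.eq, mul_inv_cancel_right, hexp a ha]
    have key := h.commute_of_fpf (E := E') (S.isPGroup'.to_le hE'S) hs hs2 ho hzE' hfpf hD
      (hE'S.trans (le_normalizer.trans hN)) (hN hz)
    refine mem_inf.mpr ⟨mul_mem he0 (hconj hz he0), mem_centralizer_iff.mpr fun w hw => ?_⟩
    exact (key _ ⟨e0, he0, rfl⟩ w hw).symm.eq
  suffices hall : ∀ e ∈ (S : Subgroup G), e ∈ Z from fun e he w hw =>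
    (Commute.symm (mem_centralizer_iff.mp (mem_inf.mp (hall e he)).2 w hw : Commute w e))
  by_cases hfp : ∃ z : G, z ∈ N ∧ ∃ s : ℕ, s.Prime ∧ s ≠ 2 ∧ orderOf z = s ∧
      ∀ e ∈ (S : Subgroup G), Commute z e → e = 1
  · -- a fixed-point-free element
    obtain ⟨z, hz, s, hs, hs2, ho, hfpf⟩ := hfp
    intro e he
    let f : ↥(S : Subgroup G) → ↥(S : Subgroup G) := fun a =>
      ⟨(a : G) * (z * a * z⁻¹), mul_mem a.2 (hconj hz a.2)⟩
    have hf : Function.Injective f := by
      intro a b hab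
      have h1 : (a : G) * (z * a * z⁻¹) = b * (z * b * z⁻¹) := congrArg Subtype.val hab
      have hd : ((b : G)⁻¹ * a) = z * ((b : G)⁻¹ * a) * z⁻¹ := by
        calc (b : G)⁻¹ * a = (b : G)⁻¹ * ((a : G) * (z * a * z⁻¹)) * (z * a * z⁻¹)⁻¹ := by group
          _ = (z * b * z⁻¹) * (z * a * z⁻¹)⁻¹ := by rw [h1]; group
          _ = (z * b * z⁻¹)⁻¹ * (z * a * z⁻¹) := by
              rw [inv_eq_of_mul_eq_one_right (hexp _ (hconj hz a.2)),
                inv_eq_of_mul_eq_one_right (hexp _ (hconj hz b.2))]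
          _ = z * ((b : G)⁻¹ * a) * z⁻¹ := by group
      refine Subtype.ext (inv_mul_eq_one.mp (hfpf _ (mul_mem (inv_mem b.2) a.2) ?_)).symm
      show z * _ = _ * z
      conv_rhs => rw [hd]
      group
    obtain ⟨a, ha⟩ := (Finite.injective_iff_surjective.mp hf) ⟨e, he⟩
    rw [← (show (a : G) * (z * a * z⁻¹) = e from congrArg Subtype.val ha)]
    exact hstep z hz s hs hs2 ho a a.2
  · push Not at hfp
    have hprime : ∀ z ∈ N, ∀ s : ℕ, s.Prime → s ≠ 2 → orderOf z = s → s = r := by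
      intro z hz s hs hs2 ho
      obtain ⟨e, he, hce, he1⟩ := hfp z hz s hs hs2 ho
      have h1 := h.pow_eq_one_of_commute_invol (orderOf_eq_prime (by rw [pow_two]; exact hexp e he) he1)
        hce (ho.symm ▸ hs.odd_of_ne_two hs2)
      have h2 := orderOf_dvd_of_pow_eq_one h1
      rw [ho] at h2
      exact (Nat.prime_dvd_prime_iff_eq hs h.prime).mp h2
    have hordN : ∀ g ∈ N, g ^ (2 * r) = 1 := by
      intro g hg
      by_cases hd : 2 ∣ orderOf g
      · rcases h.even g hd with e | e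
        · exact orderOf_dvd_iff_pow_eq_one.mp (e ▸ dvd_mul_right 2 r)
        · exact orderOf_dvd_iff_pow_eq_one.mp e.dvd
      · rcases eq_or_ne (orderOf g) 1 with e | e
        · exact orderOf_dvd_iff_pow_eq_one.mp (e ▸ one_dvd _)
        · obtain ⟨s, hs, hsd⟩ := Nat.exists_prime_and_dvd e
          have hs2 : s ≠ 2 := fun h2 => hd (h2 ▸ hsd)
          have ho : orderOf (g ^ (orderOf g / s)) = s :=
            orderOf_pow_orderOf_div (orderOf_pos g).ne' hsd
          obtain rfl := hprime _ (pow_mem hg _) s hs hs2 ho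
          rcases h.div g hsd with e' | e'
          · exact orderOf_dvd_iff_pow_eq_one.mp (e' ▸ dvd_mul_left s 2)
          · exact absurd ⟨s, e'⟩ hd
    intro e0 he0
    have hgood : ∀ g ∈ N, ∀ e ∈ (S : Subgroup G),
        e * (g ^ (r + 1) * e * (g ^ (r + 1))⁻¹) ∈ Z := by
      intro g hg e he
      have hp : (g ^ (r + 1)) ^ r = 1 := by
        obtain ⟨j, hj⟩ := h.odd_r
        rw [← pow_mul, show (r + 1) * r = (2 * r) * (j + 1) by rw [hj]; ring, pow_mul,
          hordN g hg, one_pow]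
      rcases eq_or_ne (g ^ (r + 1)) 1 with h1 | h1
      · rw [h1]
        simp only [one_mul, inv_one, mul_one]
        rw [hexp e he]
        exact one_mem _
      · exact hstep _ (pow_mem hg _) r h.prime h.ne_two (orderOf_eq_prime hp h1) e he
    -- the action of `N` on `S` is by an `r`-group
    set ρ := (S : Subgroup G).normalizerMonoidHom with hρ
    have hρr : ∀ g : N, ρ g ^ r = 1 := by
      intro g
      have hp : ((g : G) ^ r) * ((g : G) ^ r) = 1 := by
        rw [← pow_add, show r + r = 2 * r by ring, hordN g g.2]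
      have hS : (g : G) ^ r ∈ (S : Subgroup G) := by
        refine CfsgLib.CIT.le_sylow_of_le_normalizer S (P := zpowers ((g : G) ^ r)) ?_
          (zpowers_le.mpr (pow_mem g.2 r)) (mem_zpowers _)
        rcases eq_or_ne ((g : G) ^ r) 1 with h1 | h1
        · exact IsPGroup.of_card (n := 0) (by rw [Nat.card_zpowers, h1, orderOf_one, pow_zero])
        · exact IsPGroup.of_card (n := 1) (by
            rw [Nat.card_zpowers, orderOf_eq_prime (by rw [pow_two]; exact hp) h1, pow_one])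
      rw [← map_pow]
      refine MulEquiv.ext fun x => Subtype.ext ?_
      show (g : G) ^ r * x * ((g : G) ^ r)⁻¹ = x
      rw [(hcomm _ hS x x.2).eq, mul_inv_cancel_right]
    have hρeq : ∀ g : N, ρ g = ρ (g ^ (r + 1)) := fun g => by
      rw [map_pow, pow_succ, hρr, one_mul]
    set Q := ρ.range with hQ
    have hQr : IsPGroup r Q := fun q => ⟨1, by
      obtain ⟨q, g, rfl⟩ := q
      exact Subtype.ext (by rw [pow_one, SubmonoidClass.coe_pow, Subgroup.coe_one, hρr])⟩
    -- the coset of `Z`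
    let Ω := {f : (S : Subgroup G) // (f : G) * e0 ∈ Z}
    have hmove : ∀ (q : Q) (f : Ω), ((q.1 f.1 : (S : Subgroup G)) : G) * e0 ∈ Z := by
      rintro ⟨_, g, rfl⟩ ⟨⟨f, hf⟩, hfZ⟩
      show ((ρ g ⟨f, hf⟩ : (S : Subgroup G)) : G) * e0 ∈ Z
      rw [hρeq]
      show ((g : G) ^ (r + 1) * f * ((g : G) ^ (r + 1))⁻¹) * e0 ∈ Z
      have hz : (g : G) ^ (r + 1) * f * ((g : G) ^ (r + 1))⁻¹ ∈ (S : Subgroup G) :=
        hconj (pow_mem g.2 _) hf
      rw [show ((g : G) ^ (r + 1) * f * ((g : G) ^ (r + 1))⁻¹) * e0 =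
        (f * ((g : G) ^ (r + 1) * f * ((g : G) ^ (r + 1))⁻¹)) * (f * e0) by
          rw [(hcomm f hf _ hz).eq, mul_assoc _ f (f * e0), ← mul_assoc f f, hexp f hf, one_mul]]
      exact mul_mem (hgood g g.2 f hf) hfZ
    letI : MulAction Q Ω :=
      { smul := fun q f => ⟨q.1 f.1, hmove q f⟩
        one_smul := fun f => Subtype.ext rfl
        mul_smul := fun a b f => Subtype.ext rfl }
    have hΩ : Nat.card Ω = Nat.card Z := by
      refine Nat.card_congr
        { toFun := fun f => ⟨(f.1 : G) * e0, f.2⟩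
          invFun := fun z => ⟨⟨(z : G) * e0, mul_mem (mem_inf.mp z.2).1 he0⟩, ?_⟩
          left_inv := fun f => Subtype.ext (Subtype.ext ?_)
          right_inv := fun z => Subtype.ext ?_ }
      · show (z : G) * e0 * e0 ∈ Z
        rw [mul_assoc, hexp e0 he0, mul_one]; exact z.2
      · show (f.1 : G) * e0 * e0 = f.1
        rw [mul_assoc, hexp e0 he0, mul_one]
      · show (z : G) * e0 * e0 = z
        rw [mul_assoc, hexp e0 he0, mul_one]
    have hnd : ¬ r ∣ Nat.card Ω := by
      rw [hΩ]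
      intro hd
      obtain ⟨n, hn⟩ := (S.isPGroup'.to_le (inf_le_left : Z ≤ (S : Subgroup G))).exists_card_eq
      rw [hn] at hd
      exact h.ne_two ((Nat.prime_dvd_prime_iff_eq h.prime Nat.prime_two).mp
        (h.prime.dvd_of_dvd_pow hd))
    obtain ⟨⟨⟨f, hf⟩, hfZ⟩, hfix⟩ := hQr.nonempty_fixed_point_of_prime_not_dvd_card Ω hnd
    have hf1 : f = 1 := eq_one_of_normalizer_fixed hab S hexp hf fun n hn => by
      have hq := hfix ⟨ρ ⟨n, hn⟩, ⟨⟨n, hn⟩, rfl⟩⟩
      have : n * f * n⁻¹ = f := congrArg (fun x : Ω => ((x.1 : (S : Subgroup G)) : G)) hq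
      exact mul_inv_eq_iff_eq_mul.mp this
    simpa [hf1] using hfZ

/-- The case of a Sylow 2-subgroup of order at least eight. -/
theorem centralizer_le_of_eight_le [IsSimpleGroup G] (hab : ∃ a b : G, a * b ≠ b * a)
    (h : Hyp G r) (S : Sylow 2 G) (hexp : ∀ e ∈ (S : Subgroup G), e * e = 1)
    (h8 : 8 ≤ Nat.card (S : Subgroup G)) :
    ∀ t ∈ (S : Subgroup G), t ≠ 1 → ∀ g : G, Commute g t →
      g ∈ normalizer ((S : Subgroup G) : Set G) := by
  haveI := Fact.mk h.prime
  haveI hS : IsMulCommutative (S : Subgroup G) :=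
    ⟨⟨fun a b => Subtype.ext (commute_of_sq_one hexp a.2 b.2).eq⟩⟩
  have hA : Cfsg.IsElementaryAbelian 2 (S : Subgroup G) :=
    ⟨hS, fun a ha => by rw [pow_two]; exact hexp a ha⟩
  have hinv : ∀ a ∈ (S : Subgroup G), a ≠ 1 → orderOf a = 2 := fun a ha ha1 =>
    orderOf_eq_prime (hA.2 a ha) ha1
  have hpow : ∀ a ∈ (S : Subgroup G), a ≠ 1 → ∀ g ∈ centralizer ({a} : Set G), g ^ (2 * r) = 1 :=
    fun a ha ha1 g hg => h.pow_two_r_of_commute_invol (hinv a ha ha1)
      (mem_centralizer_singleton_iff.mp hg)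
  have hsolv : ∀ a ∈ (S : Subgroup G), a ≠ 1 → Group.IsSolvable (centralizer ({a} : Set G)) :=
    fun a ha ha1 => h.isSolvable_of_pow _ (hpow a ha ha1)
  set θ : G → Subgroup G := fun a => Cfsg.centralizerPPrimeCore 2 a with hθdef
  have hθ := CfsgLib.Signalizer.solvable_functor_of_solvable_centralizers (p := 2) hA hsolv
  have hθr : ∀ a ∈ (S : Subgroup G), a ≠ 1 → IsPGroup r (θ a) := fun a ha ha1 =>
    h.isPGroup_of_pow _ (Nat.coprime_two_right.mp (coreP_coprime 2 _))
      fun g hg => hpow a ha ha1 g (coreP_le 2 (centralizer ({a} : Set G)) hg)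
  obtain ⟨-, X, hXinv, hX2, hXC⟩ := CfsgLib.Signalizer.complete_of_isPGroup (p := 2) hA h8 hθ hθr
  have hSX : (S : Subgroup G) ≤ normalizer (X : Set G) := fun b hb =>
    mem_normalizer_of_conj_le fun x hx => hXinv b hb x hx
  have h4 : 2 ^ 2 ≤ Nat.card (S : Subgroup G) := by omega
  have hXr : IsPGroup r X := by
    rw [IsPGroup.iff_card]
    refine ⟨_, Nat.eq_prime_pow_of_unique_prime_dvd (Nat.card_pos (α := X)).ne' fun {σ} hσ hd => ?_⟩
    haveI := Fact.mk hσ
    obtain ⟨P, hP⟩ := CfsgLib.Solvable.exists_invariant_sylow hSX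
      (CfsgLib.Signalizer.elementary_coprime hA hX2) (Or.inl (Group.isSolvable_of_comm fun a b => hS.is_comm.comm a b)) σ
    by_contra hne
    have hPb : (P : Subgroup X).map X.subtype ≤ ⊥ := by
      refine CfsgLib.Signalizer.le_of_centralizers hA h4
        (fun h2 => hX2 (h2.trans ((card_dvd_of_le (map_subtype_le _))))) hP fun a ha ha1 => ?_
      rintro g ⟨⟨⟨g', hg'X⟩, hg'P, rfl⟩, hga⟩
      obtain ⟨i, hi⟩ := P.isPGroup' ⟨_, hg'P⟩
      obtain ⟨j, hj⟩ := hθr a ha ha1 ⟨g', (hXC a ha ha1).le ⟨hg'X, hga⟩⟩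
      refine mem_bot.mpr (orderOf_eq_one_iff.mp (Nat.eq_one_of_dvd_coprimes
        (((Nat.coprime_primes hσ h.prime).mpr hne).pow i j) ?_ ?_))
      · exact orderOf_dvd_of_pow_eq_one (congrArg (fun x : (P : Subgroup X) => ((x : X) : G)) hi)
      · exact orderOf_dvd_of_pow_eq_one (congrArg Subtype.val hj)
    have hbot : (P : Subgroup X) = ⊥ :=
      map_injective X.subtype_injective (by rw [le_bot_iff.mp hPb, Subgroup.map_bot])
    exact P.ne_bot_of_dvd_card hd hbot
  -- `X` is generated by the values of `θ`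
  set W : Subgroup G := ⨆ (a : G) (_ : a ∈ (S : Subgroup G) ∧ a ≠ 1), θ a with hW
  have hWX : W = X := le_antisymm
    (iSup₂_le fun a ha => (hXC a ha.1 ha.2).ge.trans inf_le_left)
    (CfsgLib.Signalizer.le_of_centralizers hA h4 hX2 hSX fun a ha ha1 =>
      (hXC a ha ha1).le.trans (le_iSup₂ (f := fun a (_ : a ∈ (S : Subgroup G) ∧ a ≠ 1) => θ a) a
        ⟨ha, ha1⟩))
  have hNX : normalizer ((S : Subgroup G) : Set G) ≤ normalizer (X : Set G) := by
    intro n hn
    refine mem_normalizer_of_conj_le fun x hx => ?_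
    have hle : W.map (MulAut.conj n).toMonoidHom ≤ W := by
      rw [hW, Subgroup.map_iSup]
      refine iSup_le fun a => ?_
      rw [Subgroup.map_iSup]
      refine iSup_le fun ha => ?_
      rw [hθdef]
      simp only [CfsgLib.Components.centralizerPPrimeCore_map_equiv]
      refine le_iSup₂ (f := fun a (_ : a ∈ (S : Subgroup G) ∧ a ≠ 1) =>
        Cfsg.centralizerPPrimeCore 2 a) (MulAut.conj n a) ⟨?_, ?_⟩
      · exact (mem_normalizer_iff.mp hn a).mp ha.1
      · simpa using ha.2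
    rw [hWX] at hle
    exact hle ⟨x, hx, rfl⟩
  have hcent := centralized_of_rgroup hab h S hexp hXr hNX
  intro t ht ht1 g hg
  have hSC : (S : Subgroup G) ≤ centralizer ({t} : Set G) := fun e he =>
    mem_centralizer_singleton_iff.mpr (commute_of_sq_one hexp he ht).eq
  obtain ⟨o, ho, n, hn, rfl⟩ := exists_core_mul_normalizer S hS hSC (hsolv t ht ht1)
    (mem_centralizer_singleton_iff.mpr hg.eq)
  refine mul_mem ?_ hn
  have hoX : o ∈ X := ((hXC t ht ht1).ge ho).1
  refine centralizer_le_normalizer _ (mem_centralizer_iff.mpr fun e he => ?_)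
  exact (hcent e he o hoX).eq

end CfsgLib.TwoR
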