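import Mathlib.LinearAlgebra.Matrix.ProjectiveSpecialLinearGroup
import Cfsg.Agent.Lib.CIT.TISylow
import Cfsg.Agent.Lib.TwoR.Local

/-!
# Simple groups with even element orders `2` and `2r`: assembly

The three branch theorems (four groups, regular automiser, field automiser) are parameters here.
-/

set_option autoImplicit false
set_option linter.style.haveILetI false

open Subgroup

namespace CfsgLib.TwoR

universe u

/-- The odd `PSL₂` conclusion. -/
def OddPSL (G : Type*) [Group G] : Prop :=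
  ∃ (F : Type) (_ : Field F) (_ : Fintype F), Odd (Fintype.card F) ∧
    Nonempty (G ≃* Matrix.ProjectiveSpecialLinearGroup (Fin 2) F)

variable {G : Type u} [Group G] [Finite G]

theorem isCIT_or_psl_of [IsSimpleGroup G] (hab : ∃ a b : G, a * b ≠ b * a) {r : ℕ} (h : Hyp G r)
    (hfour : ∀ S : Sylow 2 G, (∀ e ∈ (S : Subgroup G), e * e = 1) →
      Nat.card (S : Subgroup G) = 4 →
      (∀ t ∈ (S : Subgroup G), t ≠ 1 → ∀ g : G, Commute g t →
        g ∈ normalizer ((S : Subgroup G) : Set G)) ∨ OddPSL G)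
    (hregular : ∀ S : Sylow 2 G, TISetting G r S →
      (∀ t ∈ (S : Subgroup G), t ≠ 1 → ∀ g : G, Commute g t →
        g ∈ centralizer ((S : Subgroup G) : Set G)) →
      ∀ a : G, a ∈ centralizer ((S : Subgroup G) : Set G) → a ^ r = 1 → a ≠ 1 → False)
    (hfield : ∀ S : Sylow 2 G, TISetting G r S → ∀ t g : G, t ∈ (S : Subgroup G) → t ≠ 1 →
      Commute g t → g ∉ centralizer ((S : Subgroup G) : Set G) → False) :
    CfsgLib.CIT.IsCIT G ∨ OddPSL G := by
  by_cases hC : CfsgLib.CIT.IsCIT G
  · exact Or.inl hC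
  refine Or.inr ?_
  simp only [CfsgLib.CIT.IsCIT, not_forall] at hC
  obtain ⟨t, ht, hnp⟩ := hC
  -- an element of order `r` in the centraliser
  obtain ⟨a, hat, har, ha1⟩ : ∃ a : G, Commute a t ∧ a ^ r = 1 ∧ a ≠ 1 := by
    by_contra hno
    push Not at hno
    refine hnp fun g => ⟨1, Subtype.ext ?_⟩
    rw [SubmonoidClass.coe_pow, Subgroup.coe_one, pow_one]
    have hgc : Commute (g : G) t := mem_centralizer_singleton_iff.mp g.2
    exact hno _ (hgc.pow_left 2) (by rw [← pow_mul]; exact h.pow_two_r_of_commute_invol ht hgc)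
  obtain ⟨S, hS⟩ := (IsPGroup.of_card (n := 1)
    (by rw [Nat.card_zpowers, ht, pow_one] : Nat.card (zpowers t) = 2 ^ 1)).exists_le_sylow
  have htS : t ∈ (S : Subgroup G) := hS (mem_zpowers t)
  have ht1 : t ≠ 1 := fun e => by simp [e] at ht
  have hexp : ∀ e ∈ (S : Subgroup G), e * e = 1 := fun e he => by
    obtain ⟨k, hk⟩ := S.isPGroup' ⟨e, he⟩
    exact h.two_pow_sq (k := k) (congrArg Subtype.val hk)
  have h4 : 4 ≤ Nat.card (S : Subgroup G) := by
    obtain ⟨m, hm⟩ := S.isPGroup'.exists_card_eq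
    rcases Nat.lt_or_ge m 2 with h2 | h2
    · exfalso
      refine ht1 (eq_one_of_normalizer_fixed hab S hexp htS fun n hn => ?_)
      have hm1 : m = 1 := by
        rcases Nat.eq_zero_or_pos m with rfl | h0
        · rw [pow_zero] at hm
          exact absurd (mem_bot.mp (Subgroup.eq_bot_of_card_eq _ hm ▸ htS)) ht1
        · omega
      rw [hm1, pow_one] at hm
      have heq : zpowers t = (S : Subgroup G) :=
        Subgroup.eq_of_le_of_card_ge hS (by rw [hm, Nat.card_zpowers, ht])
      have hmem : n * t * n⁻¹ ∈ zpowers t := heq ▸ (mem_normalizer_iff.mp hn t).mp htS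
      obtain ⟨k, hk⟩ := mem_zpowers_iff.mp hmem
      rcases Int.even_or_odd k with ⟨j, hj⟩ | ⟨j, hj⟩
      · rw [hj, ← two_mul, zpow_mul, zpow_ofNat, pow_two, hexp t htS, one_zpow] at hk
        exact absurd (conj_eq_one_iff.mp hk.symm) ht1
      · rw [hj, zpow_add_one, zpow_mul, zpow_ofNat, pow_two, hexp t htS, one_zpow, one_mul] at hk
        exact mul_inv_eq_iff_eq_mul.mp hk.symm
    · calc 4 = 2 ^ 2 := rfl
        _ ≤ Nat.card (S : Subgroup G) := hm ▸ Nat.pow_le_pow_right (by omega) h2
  have hle : (∀ t ∈ (S : Subgroup G), t ≠ 1 → ∀ g : G, Commute g t →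
      g ∈ normalizer ((S : Subgroup G) : Set G)) ∨ OddPSL G := by
    rcases h4.eq_or_lt with h | h'
    · exact hfour S hexp h.symm
    · refine Or.inl (centralizer_le_of_eight_le hab h S hexp ?_)
      obtain ⟨m, hm⟩ := S.isPGroup'.exists_card_eq
      rw [hm] at h' ⊢
      rcases Nat.lt_or_ge m 3 with h3 | h3
      · interval_cases m <;> omega
      · exact le_trans (le_refl (2 ^ 3)) (Nat.pow_le_pow_right (by omega) h3)
  rcases hle with hle | hpsl
  swap
  · exact hpsl
  exfalso
  have hT : TISetting G r S :=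
    { hyp := h, exp_two := hexp, four_le := h4, centralizer_le := hle
      ne_top := fun htop => by
        haveI := normalizer_eq_top_iff.mp htop
        rcases Subgroup.Normal.eq_bot_or_eq_top (H := (S : Subgroup G)) inferInstance with e | e
        · exact ht1 (mem_bot.mp (e ▸ htS))
        · obtain ⟨x, y, hxy⟩ := hab
          exact hxy (commute_of_sq_one hexp (e ▸ mem_top x) (e ▸ mem_top y)).eq }
  by_cases hcase : ∃ t' ∈ (S : Subgroup G), t' ≠ 1 ∧
      ∃ g : G, Commute g t' ∧ g ∉ centralizer ((S : Subgroup G) : Set G)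
  · obtain ⟨t', ht', ht'1, g, hg, hgn⟩ := hcase
    exact hfield S hT t' g ht' ht'1 hg hgn
  · push Not at hcase
    exact hregular S hT hcase a (hcase t htS ht1 a hat) har ha1

end CfsgLib.TwoR
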