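import Mathlib.GroupTheory.Subgroup.Centralizer
import Mathlib.GroupTheory.Abelianization.Defs
import Mathlib.GroupTheory.Solvable
import Mathlib.GroupTheory.Index
import Mathlib.GroupTheory.Sylow
import Mathlib.Algebra.Group.Subgroup.Finite
import Mathlib.Data.Nat.Prime.Basic
import Mathlib.Algebra.BigOperators.Group.Finset.Basic
import Mathlib.Tactic.Group

/-!
# The norm lemma

Let an abelian group `E` and an element `y` of prime order `s`, fixed-point-free on `E`, act
coprimely on a solvable group `D`.  If every element of the coset `D y` has order dividing `s`,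
then `E` centralises `D`.
-/

set_option autoImplicit false
set_option linter.style.haveILetI false

namespace CfsgLib.TwoR

variable {G : Type*} [Group G]

/-- The action of the normaliser of `D` on the abelianisation of `D`. -/
noncomputable def abAct (D : Subgroup G) :
    Subgroup.normalizer (D : Set G) →* MulAut (Abelianization D) where
  toFun g := (D.normalizerMonoidHom g).abelianizationCongr
  map_one' := by
    rw [map_one]; exact abelianizationCongr_refl (G := D)
  map_mul' g h := by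
    rw [map_mul]
    exact (abelianizationCongr_trans _ _).symm

theorem abAct_of (D : Subgroup G) (g : Subgroup.normalizer (D : Set G)) (w : D) :
    abAct D g (Abelianization.of w) =
      Abelianization.of (⟨(g : G) * w * (g : G)⁻¹,
        (Subgroup.mem_normalizer_iff.mp g.2 w).mp w.2⟩ : D) := rfl

theorem norm_eq_one {D : Subgroup G} {g : G} (hg : g ∈ Subgroup.normalizer (D : Set G)) (w : D)
    (n : ℕ) (h1 : g ^ n = 1) (h2 : ((w : G) * g) ^ n = 1) :
    ∏ i ∈ Finset.range n, abAct D (⟨g, hg⟩ ^ i) (Abelianization.of w) = 1 := by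
  have key : ∀ n : ℕ, ∃ hn : ((w : G) * g) ^ n * (g ^ n)⁻¹ ∈ D,
      ∏ i ∈ Finset.range n, abAct D (⟨g, hg⟩ ^ i) (Abelianization.of w) =
        Abelianization.of (⟨_, hn⟩ : D) := by
    intro n
    induction n with
    | zero =>
      refine ⟨by simp, ?_⟩
      rw [Finset.prod_range_zero, ← map_one (Abelianization.of (G := D))]
      exact congrArg _ (Subtype.ext (by simp))
    | succ n ih =>
      obtain ⟨hn, ihn⟩ := ih
      have he : ((w : G) * g) ^ (n + 1) * (g ^ (n + 1))⁻¹ =
          (w : G) * (g * (((w : G) * g) ^ n * (g ^ n)⁻¹) * g⁻¹) := by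
        rw [pow_succ' ((w : G) * g), pow_succ g]
        group
      have hn' : g * (((w : G) * g) ^ n * (g ^ n)⁻¹) * g⁻¹ ∈ D :=
        (Subgroup.mem_normalizer_iff.mp hg _).mp hn
      refine ⟨he ▸ mul_mem w.2 hn', ?_⟩
      rw [Finset.prod_range_succ']
      simp only [pow_zero, map_one, MulAut.one_apply, pow_succ', map_mul, MulAut.mul_apply]
      rw [← map_prod, ihn, abAct_of, mul_comm, ← map_mul]
      refine congrArg _ (Subtype.ext ?_)
      show (w : G) * (g * (((w : G) * g) ^ n * (g ^ n)⁻¹) * g⁻¹) =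
        (w : G) * g * ((w : G) * g) ^ n * (g * g ^ n)⁻¹
      group
  obtain ⟨hn, h⟩ := key n
  rw [h, ← map_one (Abelianization.of (G := D))]
  exact congrArg _ (Subtype.ext (by simp [h1, h2]))

variable [Finite G]

set_option maxHeartbeats 1000000 in
theorem commute_of_norm_aux (s : ℕ) (hs : s.Prime) (E : Subgroup G) [IsMulCommutative E] (y : G)
    (hy : y ^ s = 1) (hyE : y ∈ Subgroup.normalizer (E : Set G))
    (hfpf : ∀ i : ℕ, ¬ s ∣ i → ∀ e ∈ E, Commute (y ^ i) e → e = 1) (m : ℕ) :
    ∀ D : Subgroup G, Nat.card D = m → Group.IsSolvable D →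
      (Nat.card D).Coprime (Nat.card E) → E ≤ Subgroup.normalizer (D : Set G) →
      y ∈ Subgroup.normalizer (D : Set G) → (∀ w ∈ D, (w * y) ^ s = 1) →
      ∀ e ∈ E, ∀ w ∈ D, Commute e w := by
  classical
  induction m using Nat.strong_induction_on with
  | _ m IH =>
  intro D hDm hsol hcop hED hyD hord e0 he0 w0 hw0
  subst hDm
  haveI : Fintype E := Fintype.ofFinite E
  haveI : Fintype D := Fintype.ofFinite D
  haveI := hsol
  rcases Decidable.eq_or_ne D ⊥ with rfl | hD
  · rw [Subgroup.mem_bot.mp hw0]; exact Commute.one_right _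
  haveI : Nontrivial D := (Subgroup.nontrivial_iff_ne_bot D).mpr hD
  set D' := (commutator D).map D.subtype with hD'
  have hD'le : D' ≤ D := Subgroup.map_subtype_le _
  have hD'card : Nat.card D' = Nat.card (commutator D) :=
    Nat.card_congr (Subgroup.equivMapOfInjective _ _ D.subtype_injective).toEquiv.symm
  have hlt : Nat.card D' < Nat.card D := by
    rw [hD'card]
    refine lt_of_le_of_ne (Subgroup.card_le_card_group _) fun h => ?_
    exact (Group.IsSolvable.commutator_lt_top_of_nontrivial (G := D)).ne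
      (Subgroup.eq_top_of_card_eq _ h)
  have hnorm : ∀ g ∈ Subgroup.normalizer (D : Set G), g ∈ Subgroup.normalizer (D' : Set G) := by
    intro g hg
    have hmap : ∀ g ∈ Subgroup.normalizer (D : Set G), ∀ x ∈ D', g * x * g⁻¹ ∈ D' := by
      rintro g hg _ ⟨x, hx, rfl⟩
      refine ⟨D.normalizerMonoidHom ⟨g, hg⟩ x, ?_, rfl⟩
      have := Subgroup.characteristic_iff_map_le.mp (inferInstance : (commutator D).Characteristic)
        (D.normalizerMonoidHom ⟨g, hg⟩) (Subgroup.mem_map_of_mem _ hx)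
      exact this
    rw [Subgroup.mem_normalizer_iff]
    refine fun x => ⟨hmap g hg x, fun hx => ?_⟩
    simpa [mul_assoc] using hmap g⁻¹ (inv_mem hg) _ hx
  haveI : Group.IsSolvable D' :=
    Group.isSolvable_of_isSolvable_injective (f := Subgroup.inclusion hD'le) (Subgroup.inclusion_injective _)
  have hIH := IH _ hlt D' rfl inferInstance (hcop.coprime_dvd_left (Subgroup.card_dvd_of_le hD'le))
    (fun g hg => hnorm g (hED hg)) (hnorm y hyD) (fun w hw => hord w (hD'le hw))
  -- the abelianisation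
  set a : Abelianization D := Abelianization.of ⟨w0, hw0⟩ with ha
  let ρ : E →* MulAut (Abelianization D) := (abAct D).comp (Subgroup.inclusion hED)
  let yN : Subgroup.normalizer (D : Set G) := ⟨y, hyD⟩
  let Nf : Abelianization D → Abelianization D := fun b => ∏ f : E, ρ f b
  have hNf_mul : ∀ b c, Nf (b * c) = Nf b * Nf c := fun b c => by
    simp only [Nf, map_mul, Finset.prod_mul_distrib]
  have hNf_one : Nf 1 = 1 := by simp [Nf]
  have h0 : ∏ i ∈ Finset.range s, abAct D (yN ^ i) a = 1 :=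
    norm_eq_one hyD _ s hy (hord w0 hw0)
  have hprod : ∀ f : E, ∏ i ∈ Finset.range s,
      abAct D ((Subgroup.inclusion hED f * yN * (Subgroup.inclusion hED f)⁻¹) ^ i) a = 1 := by
    intro f
    refine norm_eq_one (Subtype.mem (Subgroup.inclusion hED f * yN * (Subgroup.inclusion hED f)⁻¹))
      ⟨w0, hw0⟩ s ?_ ?_
    · show ((f : G) * y * (f : G)⁻¹) ^ s = 1
      rw [conj_pow, hy, mul_one, mul_inv_cancel]
    · show (w0 * ((f : G) * y * (f : G)⁻¹)) ^ s = 1
      rw [show w0 * ((f : G) * y * (f : G)⁻¹) =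
        (f : G) * ((f : G)⁻¹ * w0 * (f : G) * y) * (f : G)⁻¹ by group, conj_pow,
        hord _ (by simpa using
          (Subgroup.mem_normalizer_iff.mp (inv_mem (hED f.2)) w0).mp hw0),
        mul_one, mul_inv_cancel]
  have hi : ∀ i ∈ Finset.range s, i ≠ 0 →
      ∏ f : E, abAct D ((Subgroup.inclusion hED f * yN * (Subgroup.inclusion hED f)⁻¹) ^ i) a =
        Nf (abAct D (yN ^ i) a) := by
    intro i hi hi0
    have hyi : y ^ i ∈ Subgroup.normalizer (E : Set G) := pow_mem hyE i
    let ψ : E → E := fun f => ⟨(f : G) * (y ^ i * (f : G)⁻¹ * (y ^ i)⁻¹),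
      mul_mem f.2 ((Subgroup.mem_normalizer_iff.mp hyi _).mp (inv_mem f.2))⟩
    have hψ : Function.Bijective ψ := by
      refine Finite.injective_iff_bijective.mp fun f f' h => ?_
      have hh : (f : G) * (y ^ i * (f : G)⁻¹ * (y ^ i)⁻¹) =
          (f' : G) * (y ^ i * (f' : G)⁻¹ * (y ^ i)⁻¹) := congrArg Subtype.val h
      have h1 := hfpf i (fun hd => absurd (Nat.le_of_dvd (by omega) hd)
        (by have := Finset.mem_range.mp hi; omega)) ((f' : G)⁻¹ * f) (mul_mem (inv_mem f'.2) f.2)
      refine Subtype.ext (inv_mul_eq_one.mp (h1 ?_)).symm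
      show y ^ i * ((f' : G)⁻¹ * f) = (f' : G)⁻¹ * f * y ^ i
      calc y ^ i * ((f' : G)⁻¹ * f)
          = (f' : G)⁻¹ * ((f' : G) * (y ^ i * (f' : G)⁻¹ * (y ^ i)⁻¹)) * y ^ i * f := by group
        _ = (f' : G)⁻¹ * f * y ^ i := by rw [← hh]; group
    show _ = ∏ f : E, ρ f (abAct D (yN ^ i) a)
    rw [← hψ.prod_comp (fun f => ρ f (abAct D (yN ^ i) a))]
    refine Finset.prod_congr rfl fun f _ => ?_
    rw [conj_pow, ← MulAut.mul_apply]
    simp only [ρ, MonoidHom.comp_apply, ← map_mul]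
    refine congrArg (fun g => abAct D g a) (Subtype.ext ?_)
    show (f : G) * y ^ i * (f : G)⁻¹ = (f : G) * (y ^ i * (f : G)⁻¹ * (y ^ i)⁻¹) * y ^ i
    group
  have h0mem : 0 ∈ Finset.range s := Finset.mem_range.mpr hs.pos
  have hall : a ^ Nat.card E *
      ∏ i ∈ (Finset.range s).erase 0, Nf (abAct D (yN ^ i) a) = 1 := by
    have h := Finset.prod_eq_one (s := (Finset.univ : Finset E)) fun f _ => hprod f
    rw [Finset.prod_comm, ← Finset.mul_prod_erase _ _ h0mem] at h
    rw [← h]
    congr 1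
    · simp [Nat.card_eq_fintype_card]
    · exact (Finset.prod_congr rfl fun i hi' =>
        hi i (Finset.mem_of_mem_erase hi') (Finset.ne_of_mem_erase hi')).symm
  have hall' : Nf a * ∏ i ∈ (Finset.range s).erase 0, Nf (abAct D (yN ^ i) a) = 1 := by
    have h := congrArg Nf h0
    rw [← Finset.mul_prod_erase _ _ h0mem, hNf_mul, hNf_one, pow_zero, map_one,
      MulAut.one_apply] at h
    rw [← h]
    congr 1
    exact (map_prod (MonoidHom.mk' Nf hNf_mul) _ _).symm
  have hpow : a ^ Nat.card E = Nf a := mul_right_cancel (hall.trans hall'.symm)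
  have hfix : ρ ⟨e0, he0⟩ a = a := by
    have h1 : ρ ⟨e0, he0⟩ (Nf a) = Nf a := by
      show ρ ⟨e0, he0⟩ (∏ f : E, ρ f a) = ∏ f : E, ρ f a
      rw [map_prod]
      refine Fintype.prod_equiv (Equiv.mulLeft (⟨e0, he0⟩ : E)) _ _ fun f => ?_
      show ρ ⟨e0, he0⟩ (ρ f a) = ρ (⟨e0, he0⟩ * f) a
      rw [map_mul]
      rfl
    rw [← hpow, map_pow] at h1
    have hc : (Nat.card (Abelianization D)).Coprime (Nat.card E) :=
      hcop.coprime_dvd_left (Subgroup.card_quotient_dvd_card (commutator D))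
    exact (powCoprime hc).injective h1
  -- back in `D`
  have hz : e0 * w0 * e0⁻¹ ∈ D := (Subgroup.mem_normalizer_iff.mp (hED he0) w0).mp hw0
  set d := w0⁻¹ * (e0 * w0 * e0⁻¹) with hd
  have hdD' : d ∈ D' := by
    refine ⟨(⟨w0, hw0⟩ : D)⁻¹ * ⟨_, hz⟩, QuotientGroup.eq.mp ?_, rfl⟩
    exact hfix.symm
  have hiter : ∀ n : ℕ, e0 ^ n * w0 * (e0 ^ n)⁻¹ = w0 * d ^ n := by
    intro n
    induction n with
    | zero => simp
    | succ n ih =>
      have hcd : e0 * d ^ n * e0⁻¹ = d ^ n := by
        rw [(hIH e0 he0 _ (pow_mem hdD' n)).eq, mul_inv_cancel_right]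
      calc e0 ^ (n + 1) * w0 * (e0 ^ (n + 1))⁻¹ = e0 * (e0 ^ n * w0 * (e0 ^ n)⁻¹) * e0⁻¹ := by
            rw [pow_succ' e0]; group
        _ = (e0 * w0 * e0⁻¹) * (e0 * d ^ n * e0⁻¹) := by rw [ih]; group
        _ = w0 * d ^ (n + 1) := by rw [hcd, pow_succ' d, ← mul_assoc w0 d, show w0 * d = e0 * w0 * e0⁻¹ by rw [hd]; group]
  have hd1 : d = 1 := by
    have h := hiter (Nat.card E)
    have he : e0 ^ Nat.card E = 1 :=
      congrArg Subtype.val (pow_card_eq_one' (x := (⟨e0, he0⟩ : E)))
    rw [he, one_mul, inv_one, mul_one] at h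
    have hdn : d ^ Nat.card E = 1 := by
      conv at h => lhs; rw [← mul_one w0]
      exact (mul_left_cancel h).symm
    exact orderOf_eq_one_iff.mp (Nat.eq_one_of_dvd_coprimes hcop
      (Subgroup.orderOf_dvd_natCard D (hD'le hdD')) (orderOf_dvd_of_pow_eq_one hdn))
  rw [hd, inv_mul_eq_one] at hd1
  exact (mul_inv_eq_iff_eq_mul.mp hd1.symm)

/-- The norm lemma. -/
theorem commute_of_norm {s : ℕ} (hs : s.Prime) {E D : Subgroup G} [IsMulCommutative E] {y : G}
    (hy : y ^ s = 1) (hyE : y ∈ Subgroup.normalizer (E : Set G))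
    (hfpf : ∀ i : ℕ, ¬ s ∣ i → ∀ e ∈ E, Commute (y ^ i) e → e = 1) (hsol : Group.IsSolvable D)
    (hcop : (Nat.card D).Coprime (Nat.card E)) (hED : E ≤ Subgroup.normalizer (D : Set G))
    (hyD : y ∈ Subgroup.normalizer (D : Set G)) (hord : ∀ w ∈ D, (w * y) ^ s = 1) :
    ∀ e ∈ E, ∀ w ∈ D, Commute e w :=
  commute_of_norm_aux s hs E y hy hyE hfpf _ D rfl hsol hcop hED hyD hord

omit [Finite G] in
/-- For an element of prime order, fixed-point-freeness only has to be checked once. -/
theorem pow_fpf {s : ℕ} (hs : s.Prime) {E : Set G} {y : G} (hy : y ^ s = 1)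
    (h : ∀ e ∈ E, Commute y e → e = 1) :
    ∀ i : ℕ, ¬ s ∣ i → ∀ e ∈ E, Commute (y ^ i) e → e = 1 := by
  intro i hi e he hc
  obtain ⟨j, hj⟩ := exists_pow_eq_self_of_coprime (x := y) (n := i) (by
    refine Nat.Coprime.coprime_dvd_right (orderOf_dvd_of_pow_eq_one hy) ?_
    exact ((Nat.Prime.coprime_iff_not_dvd hs).mpr hi).symm)
  exact h e he (hj ▸ hc.pow_left j)

end CfsgLib.TwoR
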