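import Mathlib.GroupTheory.Transfer
import Cfsg.Agent.S0018
import Cfsg.Agent.S0205
import Cfsg.Agent.Lib.Balance.Orbit
import Cfsg.Agent.Lib.Char.Burnside
import Cfsg.Agent.Lib.Transfer.Fusion
import Cfsg.Agent.Lib.Solvable.CoprimeAction
import Cfsg.Agent.Lib.Solvable.CoprimeGeneration
import Cfsg.Agent.Lib.Invol.Dihedral
import Cfsg.Agent.Lib.TwoR.Norm

/-!
# Groups in which even element orders are `2` or `2r`

`Hyp G r` says: an element of even order has order `2` or `2r`, and an element of order divisible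
by the odd prime `r` has order `r` or `2r`.
-/

set_option autoImplicit false
set_option linter.style.haveILetI false
set_option linter.unusedSectionVars false

open Subgroup
open CfsgLib.Balance (coreP coreP_le le_coreP coreP_coprime le_normalizer_coreP
  normalizer_le_normalizer_coreP)

namespace CfsgLib.TwoR

variable {G : Type*} [Group G]

/-- Even element orders lie in `{2, 2r}`, orders divisible by `r` in `{r, 2r}`. -/
structure Hyp (G : Type*) [Group G] (r : ℕ) : Prop where
  prime : r.Prime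
  ne_two : r ≠ 2
  even : ∀ g : G, 2 ∣ orderOf g → orderOf g = 2 ∨ orderOf g = 2 * r
  div : ∀ g : G, r ∣ orderOf g → orderOf g = r ∨ orderOf g = 2 * r

namespace Hyp

variable [Finite G] {r : ℕ} (h : Hyp G r)
include h

theorem odd_r : Odd r := h.prime.odd_of_ne_two h.ne_two

theorem coprime_two : Nat.Coprime r 2 := Nat.coprime_two_right.mpr h.odd_r

omit [Finite G] in
theorem two_pow_sq {g : G} {k : ℕ} (hg : g ^ 2 ^ k = 1) : g * g = 1 := by
  obtain ⟨j, -, hj⟩ := (Nat.dvd_prime_pow Nat.prime_two).mp (orderOf_dvd_of_pow_eq_one hg)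
  rw [← pow_two]
  refine orderOf_dvd_iff_pow_eq_one.mp ?_
  rcases Nat.eq_zero_or_pos j with rfl | hj0
  · rw [hj, pow_zero]; exact one_dvd _
  · rcases h.even g (hj ▸ dvd_pow_self 2 hj0.ne') with h2 | h2
    · rw [h2]
    · exact absurd ((Nat.prime_dvd_prime_iff_eq h.prime Nat.prime_two).mp
        (h.prime.dvd_of_dvd_pow (hj ▸ h2.symm ▸ dvd_mul_left r 2))) h.ne_two

omit [Finite G] in
theorem pow_eq_one_of_r_elem {g : G} {k : ℕ} (hg : g ^ r ^ k = 1) : g ^ r = 1 := by
  obtain ⟨j, -, hj⟩ := (Nat.dvd_prime_pow h.prime).mp (orderOf_dvd_of_pow_eq_one hg)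
  refine orderOf_dvd_iff_pow_eq_one.mp ?_
  rcases Nat.eq_zero_or_pos j with rfl | hj0
  · rw [hj, pow_zero]; exact one_dvd _
  · rcases h.div g (hj ▸ dvd_pow_self r hj0.ne') with h2 | h2
    · rw [h2]
    · exact absurd ((Nat.prime_dvd_prime_iff_eq Nat.prime_two h.prime).mp
        (Nat.prime_two.dvd_of_dvd_pow (hj ▸ h2.symm ▸ dvd_mul_right 2 r))) (Ne.symm h.ne_two)

theorem pow_eq_one_of_commute_invol {g t : G} (ht : orderOf t = 2) (hc : Commute g t)
    (hg : Odd (orderOf g)) : g ^ r = 1 := by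
  have ho : orderOf (g * t) = orderOf g * 2 := by
    rw [hc.orderOf_mul_eq_mul_orderOf_of_coprime (ht.symm ▸ Nat.coprime_two_right.mpr hg), ht]
  refine orderOf_dvd_iff_pow_eq_one.mp ?_
  rcases h.even (g * t) (ho ▸ dvd_mul_left 2 _) with h2 | h2
  · rw [show orderOf g = 1 by omega]; exact one_dvd _
  · rw [show orderOf g = r by omega]

theorem pow_two_r_of_commute_invol {g t : G} (ht : orderOf t = 2) (hc : Commute g t) :
    g ^ (2 * r) = 1 := by
  refine orderOf_dvd_iff_pow_eq_one.mp ?_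
  rcases Nat.even_or_odd (orderOf g) with he | ho
  · rcases h.even g (even_iff_two_dvd.mp he) with h2 | h2 <;> rw [h2]
    exact dvd_mul_right 2 r
  · exact (orderOf_dvd_of_pow_eq_one (h.pow_eq_one_of_commute_invol ht hc ho)).trans
      (dvd_mul_left r 2)

theorem pow_two_r_of_commute_relem {g x : G} (hx : x ^ r = 1) (hx1 : x ≠ 1) (hc : Commute g x) :
    g ^ (2 * r) = 1 := by
  haveI := Fact.mk h.prime
  have hxo : orderOf x = r := orderOf_eq_prime hx hx1
  refine orderOf_dvd_iff_pow_eq_one.mp ?_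
  by_cases hd : r ∣ orderOf g
  · rcases h.div g hd with h2 | h2 <;> rw [h2]
    exact dvd_mul_left r 2
  · have ho : orderOf (g * x) = orderOf g * r := by
      rw [hc.orderOf_mul_eq_mul_orderOf_of_coprime
        (hxo.symm ▸ ((Nat.Prime.coprime_iff_not_dvd h.prime).mpr hd).symm), hxo]
    rcases h.div (g * x) (ho ▸ dvd_mul_left r _) with h2 | h2
    · rw [show orderOf g = 1 from
        Nat.eq_of_mul_eq_mul_right h.prime.pos (by rw [← ho, h2, one_mul])]
      exact one_dvd _
    · rw [show orderOf g = 2 from Nat.eq_of_mul_eq_mul_right h.prime.pos (by rw [← ho, h2])]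
      exact dvd_mul_right 2 r

theorem isSolvable_of_pow (K : Subgroup G) (hK : ∀ g ∈ K, g ^ (2 * r) = 1) :
    Group.IsSolvable K := by
  refine CfsgLib.Char.isSolvable_of_two_primes 2 r Nat.prime_two h.prime _ K rfl fun p hp hd => ?_
  haveI := Fact.mk hp
  obtain ⟨g, hg⟩ := exists_prime_orderOf_dvd_card' p hd
  have hd' : p ∣ 2 * r := by
    rw [← hg, ← Subgroup.orderOf_coe]
    exact orderOf_dvd_of_pow_eq_one (hK g g.2)
  rcases hp.dvd_mul.mp hd' with h2 | h2
  · exact Or.inl ((Nat.prime_dvd_prime_iff_eq hp Nat.prime_two).mp h2)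
  · exact Or.inr ((Nat.prime_dvd_prime_iff_eq hp h.prime).mp h2)

theorem isPGroup_of_pow (K : Subgroup G) (hodd : Odd (Nat.card K))
    (hK : ∀ g ∈ K, g ^ (2 * r) = 1) : IsPGroup r K := by
  intro g
  refine ⟨1, Subtype.ext ?_⟩
  rw [SubmonoidClass.coe_pow, Subgroup.coe_one, pow_one]
  refine orderOf_dvd_iff_pow_eq_one.mp ?_
  exact (Nat.coprime_two_right.mpr (hodd.of_dvd_nat (Subgroup.orderOf_dvd_natCard K g.2))).dvd_of_dvd_mul_left
    (orderOf_dvd_of_pow_eq_one (hK g g.2))

theorem pow_r_of_isPGroup {K : Subgroup G} (hK : IsPGroup r K) {g : G} (hg : g ∈ K) :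
    g ^ r = 1 := by
  obtain ⟨k, hk⟩ := hK ⟨g, hg⟩
  exact h.pow_eq_one_of_r_elem (k := k) (congrArg Subtype.val hk)

/-- An element of odd prime order `s` acting fixed-point-freely on an abelian 2-group kills every
odd-order group it normalises together with that 2-group, when no element has order `rs`. -/
theorem commute_of_fpf {E D : Subgroup G} [IsMulCommutative E] (hE : IsPGroup 2 E)
    {y : G} {s : ℕ} (hs : s.Prime) (hs2 : s ≠ 2) (hy : orderOf y = s) (hyE : y ∈ normalizer (E : Set G))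
    (hfpf : ∀ e ∈ E, Commute y e → e = 1) (hDr : IsPGroup r D)
    (hED : E ≤ normalizer (D : Set G)) (hyD : y ∈ normalizer (D : Set G)) :
    ∀ e ∈ E, ∀ w ∈ D, Commute e w := by
  haveI := Fact.mk h.prime
  obtain ⟨n, hn⟩ := hE.exists_card_eq
  obtain ⟨m, hm⟩ := hDr.exists_card_eq
  have hy' : y ^ s = 1 := hy ▸ pow_orderOf_eq_one y
  refine commute_of_norm hs hy' hyE (pow_fpf hs hy' hfpf) ?_ ?_ hED hyD fun w hw => ?_
  · haveI := hDr.isNilpotent
    infer_instance
  · rw [hm, hn]; exact (h.coprime_two.pow_right n).pow_left m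
  · have key : ∀ i : ℕ, (w * y) ^ i * (y ^ i)⁻¹ ∈ D := by
      intro i
      induction i with
      | zero => simp
      | succ i ih =>
        rw [show (w * y) ^ (i + 1) * (y ^ (i + 1))⁻¹ =
          w * (y * ((w * y) ^ i * (y ^ i)⁻¹) * y⁻¹) by
            rw [pow_succ' (w * y), pow_succ y]; group]
        exact mul_mem hw ((mem_normalizer_iff.mp hyD _).mp ih)
    by_contra hne
    have hz : ((w * y) ^ s) ^ r = 1 := h.pow_r_of_isPGroup hDr (by simpa [hy'] using key s)
    have hzo : orderOf ((w * y) ^ s) = r := orderOf_eq_prime hz hne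
    have hord := h.div (w * y) (hzo ▸ orderOf_pow_dvd s)
    rcases eq_or_ne s r with rfl | hsr
    · rcases hord with e | e
      · exact hne (orderOf_dvd_iff_pow_eq_one.mp e.dvd)
      · have h2 : orderOf ((w * y) ^ s) = 2 := by
          rw [orderOf_pow_of_dvd hs.ne_zero (e ▸ dvd_mul_left s 2), e,
            Nat.mul_div_cancel _ hs.pos]
        exact h.ne_two (hzo ▸ h2)
    · have hg : (w * y) ^ (2 * r) = 1 := by
        refine orderOf_dvd_iff_pow_eq_one.mp ?_
        rcases hord with e | e <;> rw [e]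
        exact dvd_mul_left r 2
      have hD' : y ^ (2 * r) ∈ D := by simpa [hg] using key (2 * r)
      have hd : orderOf y ∣ 2 * r * r :=
        orderOf_dvd_of_pow_eq_one (by rw [pow_mul]; exact h.pow_r_of_isPGroup hDr hD')
      rw [hy] at hd
      rcases hs.dvd_mul.mp hd with h1 | h1
      · rcases hs.dvd_mul.mp h1 with h3 | h3
        · exact hs2 ((Nat.prime_dvd_prime_iff_eq hs Nat.prime_two).mp h3)
        · exact hsr ((Nat.prime_dvd_prime_iff_eq hs h.prime).mp h3)
      · exact hsr ((Nat.prime_dvd_prime_iff_eq hs h.prime).mp h1)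

end Hyp

end CfsgLib.TwoR
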