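import Mathlib.GroupTheory.Solvable
import Mathlib.GroupTheory.PGroup
import Mathlib.GroupTheory.Perm.Cycle.Type
import Mathlib.Algebra.Group.Action.End
import Mathlib.Algebra.Ring.GeomSum
import Mathlib.FieldTheory.Finite.Basic
import Mathlib.RingTheory.RootsOfUnity.PrimitiveRoots
import Mathlib.Tactic.Group
import Cfsg.Agent.S0205

/-!
# Odd automorphism groups transitive on the involutions, with fixing elements of order `r`

`X` acts on the elementary abelian 2-group `V`, transitively on `V \ {1}`; every element fixing an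
involution has order dividing the prime `r`, no element has order `rs`, and some nontrivial element
fixes an involution.  Then `X` is an extension of a regular `r'`-group (the kernel of the action on
a normal subgroup of prime order) by a group of order `r`.
-/

set_option autoImplicit false
set_option linter.style.haveILetI false
set_option linter.unusedSectionVars false

namespace CfsgLib.TwoR

variable {V : Type*} [CommGroup V] [Finite V]

/-- The hypotheses on the automiser. -/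
structure Act (X : Subgroup (MulAut V)) (r : ℕ) : Prop where
  prime : r.Prime
  ne_two : r ≠ 2
  exp_two : ∀ v : V, v * v = 1
  four_le : 4 ≤ Nat.card V
  odd : Odd (Nat.card X)
  div : ∀ g ∈ X, r ∣ orderOf g → orderOf g = r
  fix : ∀ g ∈ X, ∀ v : V, v ≠ 1 → g v = v → g ^ r = 1
  trans : ∀ v w : V, v ≠ 1 → w ≠ 1 → ∃ g ∈ X, g v = w
  moved : ∃ x ∈ X, x ≠ 1 ∧ ∃ t : V, t ≠ 1 ∧ x t = t

theorem norm_fpf_eq_one {g : MulAut V} {n : ℕ} (hg : g ^ n = 1) (hfpf : ∀ v, g v = v → v = 1) (v : V) :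
    ∏ i ∈ Finset.range n, (g ^ i) v = 1 := by
  refine hfpf _ ?_
  have h1 : g (∏ i ∈ Finset.range n, (g ^ i) v) = ∏ i ∈ Finset.range n, (g ^ (i + 1)) v := by
    rw [map_prod]
    exact Finset.prod_congr rfl fun i _ => by rw [pow_succ', MulAut.mul_apply]
  have h2 := Finset.prod_range_succ' (fun i => (g ^ i) v) n
  rw [Finset.prod_range_succ, hg, pow_zero] at h2
  simp only [MulAut.one_apply] at h2
  rw [h1]
  exact (mul_right_cancel h2).symm

/-- A power of two minus one is a prime power only if it is a prime. -/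
theorem mersenne_eq {r b m : ℕ} (hr : Odd r) (hm : 2 ≤ m) (h : r ^ b + 1 = 2 ^ m) : r ^ b = r := by
  obtain ⟨m', rfl⟩ : ∃ m', m = m' + 2 := ⟨m - 2, by omega⟩
  have hb : Odd b := by
    rcases Nat.even_or_odd b with ⟨c, rfl⟩ | hb
    · exfalso
      obtain ⟨d, hd⟩ := hr.pow (n := c)
      rw [← two_mul, mul_comm, pow_mul, hd, pow_add] at h
      ring_nf at h
      omega
    · exact hb
  obtain ⟨j, hj, hj'⟩ := (Nat.dvd_prime_pow Nat.prime_two).mp
    (h ▸ (by simpa using hb.nat_add_dvd_pow_add_pow r 1) : r + 1 ∣ 2 ^ (m' + 2))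
  rcases eq_or_lt_of_le hj with rfl | hlt
  · omega
  exfalso
  have hr2 : r % 2 = 1 := Nat.odd_iff.mp hr
  have hj1 : 1 ≤ j := by
    by_contra hc
    obtain rfl : j = 0 := by omega
    rw [pow_zero] at hj'
    omega
  obtain ⟨c, hc⟩ := hb
  have hdvd : 2 ^ (j + 1) ∣ r ^ b + 1 := h ▸ pow_dvd_pow 2 (by omega)
  have hmod : r ^ b + 1 ≡ r + 1 [MOD 2 ^ (j + 1)] := by
    refine Nat.ModEq.add_right 1 ?_
    have hsq : r * r ≡ 1 [MOD 2 ^ (j + 1)] := by
      refine ((Nat.modEq_iff_dvd' (Nat.mul_pos hr.pos hr.pos)).mpr ?_).symm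
      obtain ⟨i, hi⟩ : ∃ i, j = i + 1 := ⟨j - 1, by omega⟩
      have h2i : 0 < 2 ^ i := by positivity
      have hrr : r + 1 = 2 * 2 ^ i := by rw [hj', hi, pow_succ]; ring
      refine ⟨2 ^ i - 1, ?_⟩
      rw [pow_succ, hi, pow_succ]
      obtain ⟨w, hw⟩ : ∃ w, 2 ^ i = w + 1 := ⟨2 ^ i - 1, by omega⟩
      obtain rfl : r = 2 * w + 1 := by omega
      rw [hw, Nat.add_sub_cancel]
      ring_nf
      omega
    have e : r ^ (2 * c + 1) = (r * r) ^ c * r := by rw [pow_succ, pow_mul, pow_two]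
    rw [hc, e]
    simpa using (hsq.pow c).mul_right r
  have hd : 2 ^ (j + 1) ∣ r + 1 :=
    Nat.modEq_zero_iff_dvd.mp (hmod.symm.trans (Nat.modEq_zero_iff_dvd.mpr hdvd))
  rw [hj'] at hd
  have := Nat.le_of_dvd (by positivity) hd
  rw [pow_succ] at this
  have : 0 < 2 ^ j := by positivity
  omega

namespace Act

variable {X : Subgroup (MulAut V)} {r : ℕ} (h : Act X r)
include h

theorem orderOf_odd {g : MulAut V} (hg : g ∈ X) : Odd (orderOf g) :=
  h.odd.of_dvd_nat (Subgroup.orderOf_dvd_natCard X hg)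

theorem pow_r_of_commute {g x : MulAut V} (hg : g ∈ X) (hx : x ∈ X) (hxr : x ^ r = 1) (hx1 : x ≠ 1)
    (hc : Commute g x) : g ^ r = 1 := by
  haveI := Fact.mk h.prime
  have hxo : orderOf x = r := orderOf_eq_prime hxr hx1
  refine orderOf_dvd_iff_pow_eq_one.mp ?_
  by_cases hd : r ∣ orderOf g
  · rw [h.div g hg hd]
  · have ho : orderOf (g * x) = orderOf g * r := by
      rw [hc.orderOf_mul_eq_mul_orderOf_of_coprime
        (hxo.symm ▸ ((Nat.Prime.coprime_iff_not_dvd h.prime).mpr hd).symm), hxo]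
    have h2 := h.div (g * x) (mul_mem hg hx) (ho ▸ dvd_mul_left r _)
    rw [show orderOf g = 1 from Nat.eq_of_mul_eq_mul_right h.prime.pos (by rw [← ho, h2, one_mul])]
    exact one_dvd _

theorem eq_one_of_coprime_pow {g : MulAut V} {q : ℕ} (hq : q.Prime) (hqr : q ≠ r) (hgr : g ^ r = 1)
    (hgq : g ^ q = 1) : g = 1 :=
  orderOf_eq_one_iff.mp (Nat.eq_one_of_dvd_coprimes ((Nat.coprime_primes h.prime hq).mpr hqr.symm)
    (orderOf_dvd_of_pow_eq_one hgr) (orderOf_dvd_of_pow_eq_one hgq))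

theorem fpf_of_pow {g : MulAut V} {q : ℕ} (hq : q.Prime) (hqr : q ≠ r) (hg : g ∈ X) (hgq : g ^ q = 1)
    (hg1 : g ≠ 1) : ∀ v, g v = v → v = 1 := by
  intro v hv
  by_contra hv1
  exact hg1 (h.eq_one_of_coprime_pow hq hqr (h.fix g hg v hv1 hv) hgq)

theorem exists_ne_one : ∃ v : V, v ≠ 1 := by
  haveI : Nontrivial V := Finite.one_lt_card_iff_nontrivial.mp (by have := h.four_le; omega)
  exact exists_ne 1

/-- Commuting elements of prime order `q ≠ r` generate a cyclic group. -/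
theorem mem_zpowers_of_commute {a b : MulAut V} {q : ℕ} (hq : q.Prime) (hqr : q ≠ r) (ha : a ∈ X)
    (hb : b ∈ X) (haq : a ^ q = 1) (hbq : b ^ q = 1) (ha1 : a ≠ 1) (hc : Commute a b) :
    b ∈ Subgroup.zpowers a := by
  by_contra hnot
  obtain ⟨v, hv⟩ := h.exists_ne_one
  have key : ∏ j ∈ Finset.range q, ∏ i ∈ Finset.range q, ((a ^ j * b) ^ i) v = 1 := by
    refine Finset.prod_eq_one fun j _ => norm_fpf_eq_one ?_ ?_ v
    · rw [(hc.pow_left j).mul_pow, ← pow_mul, mul_comm, pow_mul, haq, hbq, one_pow, one_mul]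
    · refine h.fpf_of_pow hq hqr (mul_mem (pow_mem ha j) hb) ?_ fun e => hnot ?_
      · rw [(hc.pow_left j).mul_pow, ← pow_mul, mul_comm, pow_mul, haq, hbq, one_pow, one_mul]
      · rw [show b = (a ^ j)⁻¹ from eq_inv_of_mul_eq_one_right e]
        exact inv_mem (pow_mem (Subgroup.mem_zpowers a) j)
  rw [Finset.prod_comm, Finset.prod_eq_single_of_mem 0 (Finset.mem_range.mpr hq.pos)] at key
  · simp only [pow_zero, MulAut.one_apply, Finset.prod_const, Finset.card_range] at key
    obtain ⟨c, hc'⟩ := h.odd.of_dvd_nat ((orderOf_eq_prime (hp := ⟨hq⟩) haq ha1) ▸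
      Subgroup.orderOf_dvd_natCard X ha)
    rw [hc', pow_succ, pow_mul, pow_two, h.exp_two, one_pow, one_mul] at key
    exact hv key
  · intro i hi hi0
    have hne : a ^ i ≠ 1 := fun e => by
      have h1 := orderOf_dvd_of_pow_eq_one e
      rw [orderOf_eq_prime (hp := ⟨hq⟩) haq ha1] at h1
      have := Nat.le_of_dvd (Nat.pos_of_ne_zero hi0) h1
      have := Finset.mem_range.mp hi
      omega
    have hN := norm_fpf_eq_one (g := a ^ i) (n := q) (by rw [← pow_mul, mul_comm, pow_mul, haq, one_pow])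
      (h.fpf_of_pow hq hqr (pow_mem ha i) (by rw [← pow_mul, mul_comm, pow_mul, haq, one_pow]) hne) v
    calc ∏ j ∈ Finset.range q, ((a ^ j * b) ^ i) v
        = ∏ j ∈ Finset.range q, (b ^ i) (((a ^ i) ^ j) v) := by
          refine Finset.prod_congr rfl fun j _ => ?_
          rw [(hc.pow_left j).mul_pow, ((hc.pow_left j).pow_pow i i).eq, MulAut.mul_apply,
            ← pow_mul, ← pow_mul, mul_comm j i]
      _ = 1 := by rw [← map_prod, hN, map_one]

/-- `X` is not an `r`-group. -/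
theorem exists_prime_ne : ∃ s : ℕ, s.Prime ∧ s ≠ r ∧ s ∣ Nat.card X := by
  by_contra hno
  push Not at hno
  haveI := Fact.mk h.prime
  have hcard : Nat.card X = r ^ _ := Nat.eq_prime_pow_of_unique_prime_dvd (Nat.card_pos (α := X)).ne'
    fun {s} hs hd => by_contra fun hne => hno s hs hne hd
  obtain ⟨x, hxX, hx1, t, ht, hxt⟩ := h.moved
  have horbit : MulAction.orbit X t = {v : V | v ≠ 1} := by
    ext v
    constructor
    · rintro ⟨g, rfl⟩ hv
      exact ht ((map_eq_one_iff g.1 g.1.injective).mp hv)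
    · intro hv
      obtain ⟨g, hg, hgv⟩ := h.trans t v ht hv
      exact ⟨⟨g, hg⟩, hgv⟩
  have hk : Nat.card {v : V | v ≠ 1} = Nat.card V - 1 := by
    have := Set.ncard_compl ({1} : Set V)
    rw [Set.ncard_singleton] at this
    rw [Nat.card_coe_set_eq]
    exact this
  have hdvd : Nat.card V - 1 ∣ Nat.card X := by
    rw [← hk, ← horbit, Nat.card_congr (MulAction.orbitEquivQuotientStabilizer X t)]
    exact Subgroup.card_quotient_dvd_card _
  rw [hcard] at hdvd
  obtain ⟨b, -, hb⟩ := (Nat.dvd_prime_pow h.prime).mp hdvd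
  obtain ⟨m, hm⟩ : ∃ m, Nat.card V = 2 ^ m := (IsPGroup.iff_card (G := V)).mp (fun v : V => ⟨1, by
    rw [pow_one, pow_two]; exact h.exp_two v⟩)
  have hm2 : 2 ≤ m := by
    by_contra hc
    have := h.four_le
    interval_cases m <;> omega
  have hr' : r ^ b = r := mersenne_eq (h.prime.odd_of_ne_two h.ne_two) hm2 (by
    have := h.four_le
    omega)
  -- the fixed points of `x`
  have hxr : x ^ r = 1 := h.fix x hxX t ht hxt
  let P : Subgroup (MulAut V) := Subgroup.zpowers x
  have hP : IsPGroup r P := IsPGroup.of_card (n := 1)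
    (by rw [Nat.card_zpowers, orderOf_eq_prime hxr hx1, pow_one])
  have hmod := hP.card_modEq_card_fixedPoints V
  have hle : Nat.card (MulAction.fixedPoints P V) ≤ Nat.card V := Finite.card_subtype_le _
  have h2 : 2 ≤ Nat.card (MulAction.fixedPoints P V) := by
    have hfix : ∀ g : P, g.1 t = t := by
      rintro ⟨g, hg⟩
      exact (Subgroup.zpowers_le.mpr (show x ∈ MulAction.stabilizer (MulAut V) t from hxt)) hg
    haveI : Nontrivial (MulAction.fixedPoints P V) :=
      ⟨⟨1, fun g => map_one g.1⟩, ⟨t, hfix⟩, fun e => ht (congrArg Subtype.val e).symm⟩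
    exact Finite.one_lt_card
  have hVr : Nat.card V = r + 1 := by have := h.four_le; omega
  have hfull : Nat.card (MulAction.fixedPoints P V) = Nat.card V := by
    rw [hVr] at hmod hle ⊢
    have h1 : Nat.card (MulAction.fixedPoints P V) % r = 1 % r := by
      rw [← hmod, Nat.add_mod_left]
    rcases Nat.lt_or_ge (Nat.card (MulAction.fixedPoints P V)) (r + 1) with hlt | hge
    · exfalso
      have hr := h.prime.two_le
      rcases Nat.lt_or_ge (Nat.card (MulAction.fixedPoints P V)) r with hlt' | hge'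
      · rw [Nat.mod_eq_of_lt hlt', Nat.mod_eq_of_lt (by omega)] at h1; omega
      · rw [show Nat.card (MulAction.fixedPoints P V) = r by omega, Nat.mod_self,
          Nat.mod_eq_of_lt (by omega)] at h1
        omega
    · omega
  refine hx1 (MulEquiv.ext fun v => ?_)
  have huniv := Set.eq_univ_of_forall (s := MulAction.fixedPoints P V) fun w => by
    by_contra hw
    exact absurd hfull (Finite.card_subtype_lt hw).ne
  exact (huniv.symm ▸ Set.mem_univ v : v ∈ MulAction.fixedPoints P V) ⟨x, Subgroup.mem_zpowers x⟩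

/-- An abelian normal subgroup of exponent `r` is trivial. -/
theorem eq_one_of_normal_r (T : Subgroup X) [T.Normal] (hT : ∀ a ∈ T, ∀ b ∈ T, Commute a b)
    (hTr : ∀ a ∈ T, a ^ r = 1) : T = ⊥ := by
  classical
  obtain ⟨s, hs, hsr, hsd⟩ := h.exists_prime_ne
  haveI := Fact.mk hs
  haveI := Fact.mk h.prime
  obtain ⟨w, hw⟩ := exists_prime_orderOf_dvd_card' s hsd
  have hws : w ^ s = 1 := hw ▸ pow_orderOf_eq_one w
  have hw1 : w ≠ 1 := fun e => by rw [e, orderOf_one] at hw; exact hs.ne_one hw.symm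
  have hord : ∀ a ∈ T, (w * a) ^ s = 1 := by
    intro a ha
    have hmem : (w * a) ^ s ∈ T := by
      rw [← QuotientGroup.eq_one_iff, QuotientGroup.mk_pow, QuotientGroup.mk_mul,
        (QuotientGroup.eq_one_iff a).mpr ha, mul_one, ← QuotientGroup.mk_pow, hws, QuotientGroup.mk_one]
    by_contra hne
    have hc : Commute (w * a) ((w * a) ^ s) := (Commute.refl _).pow_right s
    have hr' : (w * a) ^ r = 1 := Subtype.ext (h.pow_r_of_commute (w * a).2 ((w * a) ^ s).2
      (congrArg Subtype.val (hTr _ hmem)) (fun e => hne (Subtype.ext e)) (congrArg Subtype.val hc))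
    have hwr : w ^ r ∈ T := by
      rw [← QuotientGroup.eq_one_iff, QuotientGroup.mk_pow,
        show (w : X ⧸ T) = ((w * a : X) : X ⧸ T) by
          rw [QuotientGroup.mk_mul, (QuotientGroup.eq_one_iff a).mpr ha, mul_one],
        ← QuotientGroup.mk_pow, hr', QuotientGroup.mk_one]
    have hd : orderOf w ∣ r * r := orderOf_dvd_of_pow_eq_one (by rw [pow_mul]; exact hTr _ hwr)
    rw [hw] at hd
    rcases hs.dvd_mul.mp hd with h1 | h1 <;>
      exact hsr ((Nat.prime_dvd_prime_iff_eq hs h.prime).mp h1)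
  have hfpf : ∀ g : X, g ^ s = 1 → g ≠ 1 → ∀ v, g.1 v = v → v = 1 := fun g hg hg1 =>
    h.fpf_of_pow hs hsr g.2 (congrArg Subtype.val hg) (fun e => hg1 (Subtype.ext e))
  haveI : Fintype T := Fintype.ofFinite T
  refine (Subgroup.eq_bot_iff_forall T).mpr fun a₀ ha₀ => Subtype.ext (MulEquiv.ext fun v => ?_)
  set m : V := ∏ a : T, (a : X).1 v with hm
  have hm0 : (a₀ : X).1 m = m := by
    rw [hm, map_prod]
    refine Fintype.prod_equiv (Equiv.mulLeft (⟨a₀, ha₀⟩ : T)) _ _ fun a => ?_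
    rfl
  have key : ∏ a : T, ∏ i ∈ Finset.range s, (((w * a : X) ^ i : X)).1 v = 1 := by
    refine Finset.prod_eq_one fun a _ => ?_
    have := norm_fpf_eq_one (g := (w * a : X).1) (n := s) (congrArg Subtype.val (hord a a.2))
      (hfpf _ (hord a a.2) fun e => hw1 ?_) v
    · simpa using this
    · have hwT : w ∈ T := by rw [eq_inv_of_mul_eq_one_left e]; exact inv_mem a.2
      exact Subtype.ext (h.eq_one_of_coprime_pow hs hsr (congrArg Subtype.val (hTr w hwT))
        (congrArg Subtype.val hws))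
  rw [Finset.prod_comm, ← Finset.mul_prod_erase _ _ (Finset.mem_range.mpr hs.pos)] at key
  have hrow : ∀ i ∈ (Finset.range s).erase 0, ∏ a : T, (((w * a : X) ^ i : X)).1 v = (w ^ i : X).1 m := by
    intro i hi
    rw [Finset.mem_erase, Finset.mem_range] at hi
    have hmem : ∀ a : T, (w ^ i)⁻¹ * (w * a) ^ i ∈ T := fun a => by
      rw [← QuotientGroup.eq_one_iff, QuotientGroup.mk_mul, QuotientGroup.mk_inv, QuotientGroup.mk_pow,
        QuotientGroup.mk_pow, QuotientGroup.mk_mul, (QuotientGroup.eq_one_iff _).mpr a.2, mul_one,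
        inv_mul_cancel]
    let ψ : T → T := fun a => ⟨_, hmem a⟩
    have hψ : Function.Bijective ψ := by
      refine Finite.injective_iff_bijective.mp fun a b hab => ?_
      have hab' : (w * a : X) ^ i = (w * b : X) ^ i := mul_left_cancel (congrArg Subtype.val hab)
      have hcop : Nat.Coprime i s := ((Nat.Prime.coprime_iff_not_dvd hs).mpr fun hd =>
        absurd (Nat.le_of_dvd (Nat.pos_of_ne_zero hi.1) hd) (by omega)).symm
      obtain ⟨c, -, hc⟩ := Nat.exists_mul_mod_eq_one_of_coprime hcop hs.one_lt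
      have hred : ∀ a : T, ((w * a : X) ^ i) ^ c = w * a := fun a => by
        rw [← pow_mul, ← pow_mod_orderOf]
        rcases (Nat.dvd_prime hs).mp (orderOf_dvd_of_pow_eq_one (hord a a.2)) with h1 | h1
        · rw [orderOf_eq_one_iff.mp h1, one_pow]
        · rw [h1, hc, pow_one]
      refine Subtype.ext (mul_left_cancel (a := w) ?_)
      rw [← hred a, hab', hred b]
    rw [hm, map_prod, ← hψ.prod_comp (fun a => (w ^ i : X).1 ((a : X).1 v))]
    refine Finset.prod_congr rfl fun a _ => ?_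
    show _ = ((w ^ i : X) * ((w ^ i)⁻¹ * (w * a) ^ i : X)).1 v
    rw [mul_inv_cancel_left]
  rw [Finset.prod_congr rfl hrow] at key
  have hwm := norm_fpf_eq_one (g := w.1) (n := s) (congrArg Subtype.val hws) (hfpf w hws hw1) m
  rw [← Finset.mul_prod_erase _ _ (Finset.mem_range.mpr hs.pos)] at hwm
  simp only [pow_zero, MulAut.one_apply, OneMemClass.coe_one, Finset.prod_const, Finset.card_univ,
    SubmonoidClass.coe_pow] at key hwm
  have hv : v ^ Fintype.card T = m := mul_right_cancel (key.trans hwm.symm)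
  obtain ⟨c, hc⟩ := h.odd.of_dvd_nat (Subgroup.card_subgroup_dvd_card T)
  rw [Nat.card_eq_fintype_card] at hc
  rw [hc, pow_succ, pow_mul, pow_two, h.exp_two, one_pow, one_mul] at hv
  show (a₀ : X).1 v = v
  rw [hv, hm0]

end Act

/-- A normal subgroup `⟨τ⟩` of prime order `q ≠ r` and the exponents by which `X` acts on it. -/
structure Frame (X : Subgroup (MulAut V)) (r : ℕ) where
  q : ℕ
  prime_q : q.Prime
  ne : q ≠ r
  τ : MulAut V
  τ_mem : τ ∈ X
  τ_order : orderOf τ = q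
  χ : X →* (ZMod q)ˣ
  conj : ∀ g : X, (g : MulAut V) * τ * (g : MulAut V)⁻¹ = τ ^ ((χ g : (ZMod q)ˣ) : ZMod q).val

theorem Act.exists_frame {X : Subgroup (MulAut V)} {r : ℕ} (h : Act X r) : Nonempty (Frame X r) := by
  classical
  haveI : Group.IsSolvable X := Cfsg.Agent.S0205.result h.odd
  haveI : Nontrivial X := by
    obtain ⟨x, hx, hx1, -⟩ := h.moved
    exact ⟨⟨x, hx⟩, 1, fun e => hx1 (congrArg Subtype.val e)⟩
  obtain ⟨W, hWn, hW1, hWab⟩ : ∃ W : Subgroup X, W.Normal ∧ W ≠ ⊥ ∧ ∀ a ∈ W, ∀ b ∈ W, Commute a b := by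
    obtain ⟨n, hn⟩ := (Group.IsSolvable.solvable : ∃ n, derivedSeries X n = ⊥)
    induction n with
    | zero => exact absurd hn top_ne_bot
    | succ n ih =>
      by_cases h0 : derivedSeries X n = ⊥
      · exact ih h0
      · refine ⟨derivedSeries X n, derivedSeries_normal X n, h0, fun a ha b hb => ?_⟩
        have := Subgroup.commutator_mem_commutator ha hb
        rw [← derivedSeries_succ, hn, Subgroup.mem_bot] at this
        exact commutatorElement_eq_one_iff_mul_comm.mp this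
  obtain ⟨q, hq, hqd⟩ := Nat.exists_prime_and_dvd
    (fun e : Nat.card W = 1 => hW1 (Subgroup.eq_bot_of_card_eq _ e))
  haveI := Fact.mk hq
  obtain ⟨a, ha⟩ := exists_prime_orderOf_dvd_card' q hqd
  let T : Subgroup X :=
    { carrier := {g | g ∈ W ∧ g ^ q = 1}
      one_mem' := ⟨one_mem W, one_pow q⟩
      mul_mem' := fun {g g'} hg hg' => ⟨mul_mem hg.1 hg'.1, by
        rw [(hWab g hg.1 g' hg'.1).mul_pow, hg.2, hg'.2, one_mul]⟩
      inv_mem' := fun {g} hg => ⟨inv_mem hg.1, by rw [inv_pow, hg.2, inv_one]⟩ }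
  haveI : T.Normal := ⟨fun g hg y => ⟨hWn.conj_mem g hg.1 y, by rw [conj_pow, hg.2, mul_one, mul_inv_cancel]⟩⟩
  have haT : (a : X) ∈ T := ⟨a.2, by rw [← ha, ← Subgroup.orderOf_coe, pow_orderOf_eq_one]⟩
  have ha1 : (a : X) ≠ 1 := fun e => by
    rw [← Subgroup.orderOf_coe, e, orderOf_one] at ha; exact hq.ne_one ha.symm
  have hqr : q ≠ r := by
    rintro rfl
    exact ha1 (Subgroup.mem_bot.mp
      (h.eq_one_of_normal_r T (fun x hx y hy => hWab x hx.1 y hy.1) (fun x hx => hx.2) ▸ haT))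
  set τ : MulAut V := ((a : X) : MulAut V) with hτ
  have hτo : orderOf τ = q := by rw [hτ, Subgroup.orderOf_coe, Subgroup.orderOf_coe, ha]
  have hex : ∀ g : X, ∃ c : ZMod q, (g : MulAut V) * τ * (g : MulAut V)⁻¹ = τ ^ c.val := by
    intro g
    have hg := (inferInstance : T.Normal).conj_mem a haT g
    have hm := h.mem_zpowers_of_commute hq hqr (a : X).2 (g * a * g⁻¹ : X).2
      (congrArg Subtype.val haT.2) (congrArg Subtype.val hg.2) (fun e => ha1 (Subtype.ext e))
      (congrArg Subtype.val (hWab a a.2 _ hg.1))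
    obtain ⟨k, hk⟩ := Subgroup.mem_zpowers_iff.mp hm
    refine ⟨(k : ZMod q), ?_⟩
    show ((g * a * g⁻¹ : X) : MulAut V) = τ ^ (k : ZMod q).val
    rw [← hk, ← zpow_natCast, ZMod.val_intCast, ← hτo, zpow_mod_orderOf]
  choose c hc using hex
  have hinj : ∀ c c' : ZMod q, τ ^ c.val = τ ^ c'.val → c = c' := fun c c' e => by
    rw [pow_eq_pow_iff_modEq, hτo] at e
    exact ZMod.val_injective q (e.eq_of_lt_of_lt c.val_lt c'.val_lt)
  let χ₀ : X →* ZMod q :=
    { toFun := c
      map_one' := by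
        refine hinj _ _ ?_
        rw [← hc 1, ZMod.val_one, pow_one]
        simp
      map_mul' := fun g g' => by
        refine hinj _ _ ?_
        calc τ ^ (c (g * g')).val
            = (g : MulAut V) * ((g' : MulAut V) * τ * (g' : MulAut V)⁻¹) * (g : MulAut V)⁻¹ := by
              rw [← hc (g * g'), Subgroup.coe_mul]; group
          _ = ((g : MulAut V) * τ * (g : MulAut V)⁻¹) ^ (c g').val := by rw [hc g', conj_pow]
          _ = τ ^ (c g * c g').val := by
              rw [hc g, ← pow_mul, ZMod.val_mul]; conv_lhs => rw [← pow_mod_orderOf, hτo] }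
  exact ⟨⟨q, hq, hqr, τ, (a : X).2, hτo, χ₀.toHomUnits, hc⟩⟩

namespace Frame

variable {X : Subgroup (MulAut V)} {r : ℕ} (F : Frame X r) (h : Act X r)
include h

theorem τ_pow : F.τ ^ F.q = 1 := F.τ_order ▸ pow_orderOf_eq_one F.τ

theorem τ_ne : F.τ ≠ 1 := fun e => by
  have := F.τ_order
  rw [e, orderOf_one] at this
  exact F.prime_q.ne_one this.symm

theorem τ_fpf : ∀ v, F.τ v = v → v = 1 :=
  h.fpf_of_pow F.prime_q F.ne F.τ_mem (F.τ_pow h) (F.τ_ne h)

theorem commute_of_ker {g : X} (hg : F.χ g = 1) : Commute (g : MulAut V) F.τ := by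
  haveI := Fact.mk F.prime_q
  have := F.conj g
  rw [hg, Units.val_one, ZMod.val_one, pow_one] at this
  exact mul_inv_eq_iff_eq_mul.mp this

theorem ker_pow_r {g : X} (hg : F.χ g = 1) (hgr : (g : MulAut V) ^ r = 1) : g = 1 := by
  by_contra hne
  refine F.τ_ne h (h.eq_one_of_coprime_pow F.prime_q F.ne ?_ (F.τ_pow h))
  exact h.pow_r_of_commute F.τ_mem g.2 hgr (fun e => hne (Subtype.ext e)) (F.commute_of_ker h hg).symm

theorem ker_fix {g : X} (hg : F.χ g = 1) {v : V} (hv : v ≠ 1) (hgv : (g : MulAut V) v = v) : g = 1 :=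
  F.ker_pow_r h hg (h.fix g g.2 v hv hgv)

theorem exists_x : ∃ x : X, F.χ x ≠ 1 ∧ (x : MulAut V) ^ r = 1 ∧ ∃ t : V, t ≠ 1 ∧ (x : MulAut V) t = t := by
  obtain ⟨x, hx, hx1, t, ht, hxt⟩ := h.moved
  exact ⟨⟨x, hx⟩, fun e => hx1 (congrArg Subtype.val (F.ker_fix h (g := ⟨x, hx⟩) e ht hxt)),
    h.fix x hx t ht hxt, t, ht, hxt⟩

/-- Conjugation by `y` outside the kernel has a displacement bijective on the kernel. -/
theorem exists_twist {y : X} (hy : F.χ y ≠ 1) (hyr : (y : MulAut V) ^ r = 1) {e : X} (he : F.χ e = 1) :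
    ∃ c : X, F.χ c = 1 ∧ c * (y * c * y⁻¹)⁻¹ = e := by
  let f : F.χ.ker → F.χ.ker := fun c => ⟨(c : X) * (y * c * y⁻¹)⁻¹,
    mul_mem c.2 (inv_mem ((inferInstance : F.χ.ker.Normal).conj_mem _ c.2 y))⟩
  have hf : Function.Injective f := by
    intro a b hab
    have h1 : (a : X) * (y * a * y⁻¹)⁻¹ = b * (y * b * y⁻¹)⁻¹ := congrArg Subtype.val hab
    have h2 : Commute ((b : X)⁻¹ * a) y := by
      show _ * y = y * _
      calc (b : X)⁻¹ * a * y = (b : X)⁻¹ * ((a : X) * (y * a * y⁻¹)⁻¹) * y * a := by group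
        _ = y * ((b : X)⁻¹ * a) := by rw [h1]; group
    have hy1 : (y : MulAut V) ≠ 1 := fun e => hy (by rw [show y = 1 from Subtype.ext e, map_one])
    exact Subtype.ext (inv_mul_eq_one.mp (F.ker_pow_r h (g := (b : X)⁻¹ * a)
      (mul_mem (inv_mem b.2) a.2) (h.pow_r_of_commute ((b : X)⁻¹ * a).2 y.2 hyr hy1
        (congrArg Subtype.val h2)))).symm
  obtain ⟨c, hc⟩ := Finite.injective_iff_surjective.mp hf ⟨e, he⟩
  exact ⟨c, c.2, congrArg Subtype.val hc⟩

/-- Every coset of the kernel meets the centraliser of `x`. -/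
theorem χ_pow_r {x : X} (hx : F.χ x ≠ 1) (hxr : (x : MulAut V) ^ r = 1) (g : X) :
    F.χ g ^ r = 1 := by
  obtain ⟨c, hc, hce⟩ := F.exists_twist h hx hxr (e := g⁻¹ * (x * g * x⁻¹))
    (by simp only [map_mul, map_inv]; rw [mul_inv_cancel_comm, inv_mul_cancel])
  have hcomm : Commute (g * c) x := by
    show g * c * x = x * (g * c)
    calc g * c * x = g * (c * (x * c * x⁻¹)⁻¹) * x * c := by group
      _ = x * (g * c) := by rw [hce]; group
  have hx1 : (x : MulAut V) ≠ 1 := fun e => hx (by rw [show x = 1 from Subtype.ext e, map_one])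
  have := h.pow_r_of_commute (g * c).2 x.2 hxr hx1 (congrArg Subtype.val hcomm)
  rw [show F.χ g = F.χ (g * c) by rw [map_mul, hc, mul_one], ← map_pow,
    show (g * c) ^ r = 1 from Subtype.ext this, map_one]

theorem orderOf_χ {x : X} (hx : F.χ x ≠ 1) (hxr : (x : MulAut V) ^ r = 1) : orderOf (F.χ x) = r :=
  haveI := Fact.mk h.prime
  orderOf_eq_prime (F.χ_pow_r h hx hxr x) hx

theorem eq_pow_mul {x : X} (hx : F.χ x ≠ 1) (hxr : (x : MulAut V) ^ r = 1) (g : X) :
    ∃ (i : ℕ) (c : X), F.χ c = 1 ∧ g = c * x ^ i := by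
  haveI := Fact.mk F.prime_q
  have hprim : IsPrimitiveRoot ((F.χ x : (ZMod F.q)ˣ) : ZMod F.q) r :=
    IsPrimitiveRoot.coe_units_iff.mpr (by
      have := IsPrimitiveRoot.orderOf (F.χ x)
      rwa [F.orderOf_χ h hx hxr] at this)
  haveI : NeZero r := ⟨h.prime.ne_zero⟩
  obtain ⟨i, -, hi⟩ := hprim.eq_pow_of_pow_eq_one (ξ := ((F.χ g : (ZMod F.q)ˣ) : ZMod F.q))
    (by rw [← Units.val_pow_eq_pow_val, F.χ_pow_r h hx hxr g, Units.val_one])
  refine ⟨i, g * (x ^ i)⁻¹, ?_, by group⟩
  rw [map_mul, map_inv, map_pow, show F.χ g = F.χ x ^ i from Units.ext hi.symm, mul_inv_cancel]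

theorem exists_ker_apply {x : X} (hx : F.χ x ≠ 1) {t : V} (ht : t ≠ 1) (hxt : (x : MulAut V) t = t)
    {v : V} (hv : v ≠ 1) : ∃ c : X, F.χ c = 1 ∧ (c : MulAut V) t = v := by
  obtain ⟨g, hg, hgv⟩ := h.trans t v ht hv
  obtain ⟨i, c, hc, hgc⟩ := F.eq_pow_mul h hx (h.fix x x.2 t ht hxt) ⟨g, hg⟩
  refine ⟨c, hc, ?_⟩
  have hxi : ((x ^ i : X) : MulAut V) t = t := by
    rw [SubmonoidClass.coe_pow]
    exact pow_mem (show (x : MulAut V) ∈ MulAction.stabilizer (MulAut V) t from hxt) i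
  rw [show g = (c : MulAut V) * ((x ^ i : X) : MulAut V) from congrArg Subtype.val hgc,
    MulAut.mul_apply, hxi] at hgv
  exact hgv

/-- The kernel is regular on the involutions. -/
theorem card_ker : Nat.card F.χ.ker = Nat.card V - 1 := by
  obtain ⟨x, hx, -, t, ht, hxt⟩ := F.exists_x h
  have hk : Nat.card ({1}ᶜ : Set V) = Nat.card V - 1 := by
    rw [Nat.card_coe_set_eq, Set.ncard_compl, Set.ncard_singleton]
  rw [← hk]
  refine Nat.card_congr (Equiv.ofBijective
    (fun c => (⟨(c : X).1 t, fun e => ht ((map_eq_one_iff _ (c : X).1.injective).mp e)⟩ : ({1}ᶜ : Set V)))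
    ⟨fun a b hab => ?_, fun v => ?_⟩)
  · have h1 : (a : X).1 t = (b : X).1 t := congrArg Subtype.val hab
    refine Subtype.ext (inv_mul_eq_one.mp (F.ker_fix h (g := (b : X)⁻¹ * a)
      (mul_mem (inv_mem b.2) a.2) ht ?_)).symm
    show (b : X).1⁻¹ ((a : X).1 t) = t
    rw [h1]
    exact (b : X).1.symm_apply_apply t
  · obtain ⟨c, hc, hcv⟩ := F.exists_ker_apply h hx ht hxt v.2
    exact ⟨⟨c, hc⟩, Subtype.ext hcv⟩

/-- An element outside the kernel has order `r` and fixes an involution. -/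
theorem exists_fix {g : X} (hg : F.χ g ≠ 1) :
    (g : MulAut V) ^ r = 1 ∧ ∃ v : V, v ≠ 1 ∧ (g : MulAut V) v = v := by
  obtain ⟨x, hx, hxr, t, ht, hxt⟩ := F.exists_x h
  obtain ⟨i, e, he, rfl⟩ := F.eq_pow_mul h hx hxr g
  have hxi : F.χ (x ^ i) ≠ 1 := fun e' => hg (by rw [map_mul, he, e', one_mul])
  have hxir : ((x ^ i : X) : MulAut V) ^ r = 1 := by
    rw [SubmonoidClass.coe_pow, ← pow_mul, mul_comm, pow_mul, hxr, one_pow]
  obtain ⟨d, hd, hde⟩ := F.exists_twist h hxi hxir he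
  have hge : e * x ^ i = d * x ^ i * d⁻¹ := by rw [← hde]; group
  rw [hge]
  refine ⟨?_, (d : MulAut V) t, fun e' => ht ((map_eq_one_iff _ d.1.injective).mp e'), ?_⟩
  · rw [Subgroup.coe_mul, Subgroup.coe_mul, InvMemClass.coe_inv, conj_pow, hxir, mul_one, mul_inv_cancel]
  · have hxit : ((x ^ i : X) : MulAut V) t = t := by
      rw [SubmonoidClass.coe_pow]
      exact pow_mem (show (x : MulAut V) ∈ MulAction.stabilizer (MulAut V) t from hxt) i
    show (d : MulAut V) (((x ^ i : X) : MulAut V) ((d : MulAut V)⁻¹ ((d : MulAut V) t))) = _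
    rw [show (d : MulAut V)⁻¹ ((d : MulAut V) t) = t from d.1.symm_apply_apply t, hxit]

theorem fix_unique {x : X} (hx : F.χ x ≠ 1) {t v : V} (ht : t ≠ 1) (hxt : (x : MulAut V) t = t)
    (hv : v ≠ 1) (hxv : (x : MulAut V) v = v) : v = t := by
  obtain ⟨c, hc, rfl⟩ := F.exists_ker_apply h hx ht hxt hv
  set e : X := c⁻¹ * (x * c * x⁻¹) with he
  have he1 : F.χ e = 1 := by
    rw [he, map_mul, map_mul, map_mul, map_inv, map_inv, hc, inv_one, one_mul, mul_one, mul_inv_cancel]
  have het : (e : MulAut V) t = t := by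
    show (c : MulAut V)⁻¹ ((x : MulAut V) ((c : MulAut V) ((x : MulAut V)⁻¹ t))) = t
    rw [show (x : MulAut V)⁻¹ t = t by conv_lhs => rw [← hxt]; exact x.1.symm_apply_apply t]
    rw [hxv]
    exact c.1.symm_apply_apply t
  have h1 := F.ker_fix h he1 ht het
  have hcomm : Commute c x := by
    have h2 : c = x * c * x⁻¹ := inv_mul_eq_one.mp h1
    show c * x = x * c
    conv_lhs => rw [h2]
    group
  have hc1 : c = 1 := F.ker_pow_r h hc (h.pow_r_of_commute c.2 x.2 (h.fix x x.2 t ht hxt)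
    (fun e' => hx (by rw [show x = 1 from Subtype.ext e', map_one])) (congrArg Subtype.val hcomm))
  rw [hc1]
  rfl

/-- `⟨τ⟩` holds every element of order dividing `q`. -/
theorem mem_zpowers {g : X} (hg : (g : MulAut V) ^ F.q = 1) : (g : MulAut V) ∈ Subgroup.zpowers F.τ := by
  rcases eq_or_ne g 1 with rfl | hg1
  · exact one_mem _
  have hker : F.χ g = 1 := by
    by_contra hne
    exact hg1 (Subtype.ext (h.eq_one_of_coprime_pow F.prime_q F.ne (F.exists_fix h hne).1 hg))
  exact h.mem_zpowers_of_commute F.prime_q F.ne F.τ_mem g.2 (F.τ_pow h) hg (F.τ_ne h)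
    (F.commute_of_ker h hker).symm

theorem q_dvd : F.q ∣ Nat.card V - 1 := by
  haveI := Fact.mk F.prime_q
  have hτ : F.χ ⟨F.τ, F.τ_mem⟩ = 1 := by
    refine Units.ext (ZMod.val_injective F.q ?_)
    have h1 := F.conj ⟨F.τ, F.τ_mem⟩
    rw [mul_inv_cancel_right] at h1
    replace h1 := (pow_one F.τ).trans h1
    rw [pow_eq_pow_iff_modEq, F.τ_order] at h1
    rw [Units.val_one, ZMod.val_one]
    exact (h1.eq_of_lt_of_lt F.prime_q.one_lt (ZMod.val_lt _)).symm
  have h2 := Subgroup.orderOf_dvd_natCard F.χ.ker (x := (⟨F.τ, F.τ_mem⟩ : X)) hτ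
  rw [Subgroup.orderOf_mk, F.τ_order, F.card_ker h] at h2
  exact h2

end Frame

end CfsgLib.TwoR
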