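import Cfsg.Agent.Lib.Signalizer.Transitivity
import Cfsg.Agent.Lib.SEmb.Counting
import Cfsg.Agent.Lib.Yoshida.TransferExt
import Cfsg.Agent.Lib.TwoR.Local
import Cfsg.Agent.Lib.TwoR.FieldAction

/-!
# The automiser fixes no involution

In the TI setting an element outside `C(S)` cannot centralise an involution of `S`.
-/

set_option autoImplicit false
set_option linter.style.haveILetI false
set_option linter.unusedSectionVars false

open Subgroup MulAction
open scoped IsMulCommutative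
open CfsgLib.Balance (coreP coreP_le coreP_coprime le_normalizer_coreP)

namespace CfsgLib.TwoR

namespace Frame

variable {V : Type*} [CommGroup V] [Finite V] {X : Subgroup (MulAut V)} {r : ℕ} (F : Frame X r)
  (h : Act X r)
include h

theorem χ_τ {g : X} (hg : (g : MulAut V) ∈ zpowers F.τ) : F.χ g = 1 := by
  haveI := Fact.mk F.prime_q
  refine Units.ext (ZMod.val_injective F.q ?_)
  obtain ⟨k, hk⟩ := Subgroup.mem_zpowers_iff.mp hg
  have h1 := F.conj g
  rw [← hk, ((Commute.refl F.τ).zpow_left k).eq, mul_inv_cancel_right] at h1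
  replace h1 := (pow_one F.τ).trans h1
  rw [pow_eq_pow_iff_modEq, F.τ_order] at h1
  rw [Units.val_one, ZMod.val_one]
  exact (h1.eq_of_lt_of_lt F.prime_q.one_lt (ZMod.val_lt _)).symm

/-- The relations among the translates of the fixed involution when `r = 3`. -/
theorem cube_relation (hr : r = 3) {x : X} (hx : F.χ x ≠ 1) {t : V} (ht : t ≠ 1)
    (hxt : (x : MulAut V) t = t) :
    ∃ a : MulAut V, (a = F.τ ∨ a = F.τ⁻¹) ∧ (a ^ 3) t = t * a t := by
  subst hr
  set y : MulAut V := (x : MulAut V) with hy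
  have hy3 : y ^ 3 = 1 := h.fix _ x.2 t ht hxt
  set a := F.τ with ha
  set b := y * a * y⁻¹ with hb
  set c := y * b * y⁻¹ with hc
  have hyc : y * c * y⁻¹ = a := by
    rw [hc, hb]
    calc y * (y * (y * a * y⁻¹) * y⁻¹) * y⁻¹ = y ^ 3 * a * (y ^ 3)⁻¹ := by
          simp only [pow_succ, pow_zero, one_mul, mul_inv_rev, mul_assoc]
      _ = a := by rw [hy3, one_mul, inv_one, mul_one]
  have hab : Commute a b := by rw [hb, F.conj x]; exact (Commute.refl a).pow_right _
  have hac : Commute a c := by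
    rw [hc, hb, F.conj x, ← conj_pow, F.conj x, ← pow_mul]; exact (Commute.refl a).pow_right _
  have hbc : Commute b c := by
    rw [hc, hb, F.conj x, ← conj_pow, F.conj x, ← pow_mul]; exact (Commute.refl a).pow_pow _ _
  have habc : a * b * c = 1 := by
    have hmem : a * b * c ∈ zpowers F.τ := by
      rw [hc, hb, F.conj x, ← conj_pow, F.conj x, ← pow_mul]
      exact mul_mem (mul_mem (Subgroup.mem_zpowers _) (pow_mem (Subgroup.mem_zpowers _) _)) (pow_mem (Subgroup.mem_zpowers _) _)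
    have hX : a * b * c ∈ X := by
      rw [hc, hb]
      exact mul_mem (mul_mem F.τ_mem (mul_mem (mul_mem x.2 F.τ_mem) (inv_mem x.2)))
        (mul_mem (mul_mem x.2 (mul_mem (mul_mem x.2 F.τ_mem) (inv_mem x.2))) (inv_mem x.2))
    have hker : F.χ ⟨_, hX⟩ = 1 := F.χ_τ h hmem
    have hcomm : Commute (a * b * c) y := by
      show a * b * c * y = y * (a * b * c)
      have e : y * (a * b * c) * y⁻¹ = a * b * c := by
        calc y * (a * b * c) * y⁻¹ = (y * a * y⁻¹) * (y * b * y⁻¹) * (y * c * y⁻¹) := by group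
          _ = b * c * a := by rw [← hb, ← hc, hyc]
          _ = a * b * c := by rw [(hab.symm.mul_left hac.symm).eq, ← mul_assoc]
      calc a * b * c * y = y * (a * b * c) * y⁻¹ * y := by rw [e]
        _ = y * (a * b * c) := by group
    have hy1 : y ≠ 1 := fun e => hx (by rw [show x = 1 from Subtype.ext e, map_one])
    exact congrArg Subtype.val (F.ker_pow_r h hker (h.pow_r_of_commute hX x.2 hy3 hy1 hcomm))
  have hfix : ∀ v, y v = v → v = 1 ∨ v = t := fun v hv =>
    (eq_or_ne v 1).imp id fun hv1 => F.fix_unique h hx ht hxt hv1 hv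
  have hy_a : ∀ v, y (a v) = b (y v) := fun v => by
    rw [← MulAut.mul_apply, ← MulAut.mul_apply, hb, inv_mul_cancel_right]
  have hy_b : ∀ v, y (b v) = c (y v) := fun v => by
    rw [← MulAut.mul_apply, ← MulAut.mul_apply, hc, inv_mul_cancel_right]
  have hy_c : ∀ v, y (c v) = a (y v) := fun v => by
    rw [← MulAut.mul_apply, ← MulAut.mul_apply, ← hyc, inv_mul_cancel_right]
  have hcomm' : ∀ {f g : MulAut V}, Commute f g → ∀ v, f (g v) = g (f v) := fun hfg v => by
    rw [← MulAut.mul_apply, hfg.eq, MulAut.mul_apply]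
  set E1 := a t * b t * c t with hE1
  set E2 := b (c t) * a (c t) * a (b t) with hE2
  have h1 : y E1 = E1 := by
    rw [hE1, map_mul, map_mul, hy_a, hy_b, hy_c, hxt]
    ac_rfl
  have h2 : y E2 = E2 := by
    rw [hE2, map_mul, map_mul, hy_b, hy_c, hy_a, hy_c, hy_a, hy_b, hxt, hcomm' hac.symm, hcomm' hab.symm]
    ac_rfl
  have key : (a ^ 3) t * t = a (a E1) * a E2 := by
    have habc' : a (b (c t)) = t := by
      rw [← MulAut.mul_apply, ← MulAut.mul_apply, habc, MulAut.one_apply]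
    rw [hE1, hE2, map_mul, map_mul, map_mul, map_mul, map_mul, map_mul, habc',
      show (a ^ 3) t = a (a (a t)) by simp [pow_succ, MulAut.mul_apply]]
    calc a (a (a t)) * t = a (a (a t)) * t *
          ((a (a (b t)) * a (a (b t))) * (a (a (c t)) * a (a (c t)))) := by
          rw [h.exp_two, h.exp_two, one_mul, mul_one]
      _ = _ := by ac_rfl
  have hsq : ∀ v w : V, v * t = w → v = t * w := fun v w e => by
    rw [← e, mul_left_comm, h.exp_two, mul_one]
  have hτmem : ∀ n : ℕ, F.χ ⟨a ^ n, pow_mem F.τ_mem n⟩ = 1 := fun n =>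
    F.χ_τ h (pow_mem (Subgroup.mem_zpowers _) n)
  have hno : ∀ n : ℕ, ¬ F.q ∣ n → (a ^ n) t ≠ t := fun n hn e => hn (by
    have := congrArg Subtype.val (F.ker_fix h (hτmem n) ht e)
    rw [← F.τ_order]
    exact orderOf_dvd_of_pow_eq_one this)
  have hq3 : ¬ F.q ∣ 3 := fun e => F.ne ((Nat.prime_dvd_prime_iff_eq F.prime_q Nat.prime_three).mp e)
  rcases hfix E1 h1 with e1 | e1 <;> rcases hfix E2 h2 with e2 | e2 <;> rw [e1, e2] at key <;>
    try simp only [map_one, one_mul, mul_one] at key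
  · refine absurd ?_ (hno 3 hq3)
    rw [hsq _ _ key, mul_one]
  · exact ⟨a, Or.inl rfl, hsq _ _ key⟩
  · refine ⟨a⁻¹, Or.inr rfl, ?_⟩
    have e3 := congrArg ((a⁻¹) ^ 3 : MulAut V) (hsq _ _ key)
    rw [show a (a t) = (a ^ 2) t by rw [pow_two, MulAut.mul_apply], map_mul, ← MulAut.mul_apply,
      inv_pow, inv_mul_cancel, MulAut.one_apply, ← MulAut.mul_apply,
      show (a ^ 3)⁻¹ * a ^ 2 = a⁻¹ by group] at e3
    refine mul_right_cancel (b := a⁻¹ t) ?_
    rw [mul_assoc, h.exp_two, mul_one, inv_pow]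
    exact e3.symm
  · have e4 : (a ^ 4) t = t := by
      have e := congrArg (fun v => a v) (hsq _ _ key)
      rw [show (a ^ 4) t = a ((a ^ 3) t) by rw [pow_succ' a 3, MulAut.mul_apply]]
      refine e.trans ?_
      rw [map_mul, map_mul, show a (a (a t)) = (a ^ 3) t by simp [pow_succ, MulAut.mul_apply],
        hsq _ _ key]
      calc a t * (t * (a (a t) * a t) * a (a t))
          = t * ((a t * a t) * (a (a t) * a (a t))) := by ac_rfl
        _ = t := by rw [h.exp_two, h.exp_two, one_mul, mul_one]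
    refine absurd e4 (hno 4 fun e => ?_)
    have hq2 := (Nat.prime_dvd_prime_iff_eq F.prime_q Nat.prime_two).mp
      (F.prime_q.dvd_of_dvd_pow (n := 2) e)
    have := h.orderOf_odd F.τ_mem
    rw [F.τ_order, hq2] at this
    exact absurd this (by decide)

end Frame

section Setting

variable {G : Type*} [Group G] [Finite G] {r : ℕ} {S : Sylow 2 G} (hT : TISetting G r S)

local notation "NS" => normalizer ((S : Subgroup G) : Set G)
local notation "Ω" => G ⧸ normalizer ((S : Subgroup G) : Set G)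
local notation "o" => (QuotientGroup.mk 1 : G ⧸ normalizer ((S : Subgroup G) : Set G))
local notation "ρ" => Subgroup.normalizerMonoidHom (S : Subgroup G)
local notation "XS" => MonoidHom.range (Subgroup.normalizerMonoidHom (S : Subgroup G))

include hT

theorem TISetting.invol {e : G} (he : e ∈ (S : Subgroup G)) (he1 : e ≠ 1) : orderOf e = 2 :=
  haveI := Fact.mk Nat.prime_two
  orderOf_eq_prime (by rw [pow_two]; exact hT.exp_two e he) he1

theorem TISetting.mem_of_sq {g : G} (hg : g ∈ NS) (hg2 : g * g = 1) : g ∈ (S : Subgroup G) := by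
  refine CfsgLib.CIT.le_sylow_of_le_normalizer S (P := zpowers g) ?_ (zpowers_le.mpr hg) (Subgroup.mem_zpowers g)
  intro x
  refine ⟨1, Subtype.ext ?_⟩
  obtain ⟨i, hi⟩ := Subgroup.mem_zpowers_iff.mp x.2
  rw [SubmonoidClass.coe_pow, Subgroup.coe_one, pow_one, ← hi, ← zpow_natCast, zpow_comm, zpow_natCast,
    pow_two, hg2, one_zpow]

theorem TISetting.stronglyEmbedded : Cfsg.IsStronglyEmbedded NS := by
  haveI := Fact.mk Nat.prime_two
  refine ⟨hT.ne_top, ?_, fun g hg => Nat.not_even_iff_odd.mp fun hev => hg ?_⟩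
  · obtain ⟨n, hn⟩ := S.isPGroup'.exists_card_eq
    have hn0 : n ≠ 0 := fun e => by
      have := hT.four_le
      rw [hn, e, pow_zero] at this
      omega
    exact even_iff_two_dvd.mpr ((hn ▸ dvd_pow_self 2 hn0).trans (card_dvd_of_le le_normalizer))
  obtain ⟨⟨i, hiN, hiM⟩, hi⟩ := exists_prime_orderOf_dvd_card' 2 (even_iff_two_dvd.mp hev)
  rw [← Subgroup.orderOf_coe] at hi
  obtain ⟨j, hjN, hji⟩ := hiM
  have hji' : g * j * g⁻¹ = i := hji
  have hiS := hT.mem_of_sq hiN (Invol.mul_self_eq_one hi)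
  have hj2 : j * j = 1 := by
    have h1 : (g * j * g⁻¹) * (g * j * g⁻¹) = 1 := by rw [hji']; exact Invol.mul_self_eq_one hi
    calc j * j = g⁻¹ * ((g * j * g⁻¹) * (g * j * g⁻¹)) * g := by group
      _ = 1 := by rw [h1]; group
  have hjS := hT.mem_of_sq hjN hj2
  refine mem_normalizer_of_conj_le fun s hs => ?_
  refine hT.mem_of_sq (hT.centralizer_le i hiS (Invol.ne_one_of_invol hi) _ ?_) ?_
  · rw [← hji']
    show g * s * g⁻¹ * (g * j * g⁻¹) = g * j * g⁻¹ * (g * s * g⁻¹)
    calc g * s * g⁻¹ * (g * j * g⁻¹) = g * (s * j) * g⁻¹ := by group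
      _ = _ := by rw [(commute_of_sq_one hT.exp_two hs hjS).eq]; group
  · calc g * s * g⁻¹ * (g * s * g⁻¹) = g * (s * s) * g⁻¹ := by group
      _ = 1 := by rw [hT.exp_two s hs]; group

theorem TISetting.fix_base {g : G} (hg : g ∈ NS) : g • o = o := (SEmb.smul_one_eq_iff g).mpr hg

theorem TISetting.no_two_fix {e : G} (he : e ∈ (S : Subgroup G)) (he1 : e ≠ 1) {p : Ω} (hp : p ≠ o) :
    e • p ≠ p := fun h => hp (SEmb.point_unique hT.stronglyEmbedded (hT.invol he he1) h
      (hT.fix_base (le_normalizer he)))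

theorem TISetting.comm : IsMulCommutative (S : Subgroup G) :=
  ⟨⟨fun a b => Subtype.ext (commute_of_sq_one hT.exp_two a.2 b.2).eq⟩⟩

theorem TISetting.exists_invol : ∃ e ∈ (S : Subgroup G), e ≠ 1 := by
  haveI : Nontrivial (S : Subgroup G) :=
    Finite.one_lt_card_iff_nontrivial.mp (by have := hT.four_le; omega)
  obtain ⟨⟨e, he⟩, he1⟩ := exists_ne (1 : (S : Subgroup G))
  exact ⟨e, he, fun h => he1 (Subtype.ext h)⟩

theorem TISetting.exists_ne_base : ∃ p : Ω, p ≠ o := by
  by_contra hall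
  push Not at hall
  exact hT.ne_top ((eq_top_iff' _).mpr fun g => (SEmb.smul_one_eq_iff g).mp (hall _))

theorem TISetting.centralizer_le_of_centralizes {a : G} (haS : ∀ e ∈ (S : Subgroup G), Commute a e)
    (har : a ^ r = 1) (ha : a ≠ 1) {g : G} (hg : Commute g a) : g ∈ NS := by
  haveI := Fact.mk Nat.prime_two
  have hS := hT.comm
  set C := centralizer ({a} : Set G) with hC
  have hpow : ∀ c ∈ C, c ^ (2 * r) = 1 := fun c hc =>
    hT.hyp.pow_two_r_of_commute_relem har ha (mem_centralizer_singleton_iff.mp hc)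
  have hSC : (S : Subgroup G) ≤ C := fun e he => mem_centralizer_singleton_iff.mpr (haS e he).symm.eq
  obtain ⟨c, hc, n, hn, rfl⟩ := exists_core_mul_normalizer S hS hSC (hT.hyp.isSolvable_of_pow C hpow)
    (mem_centralizer_singleton_iff.mpr hg.eq)
  refine mul_mem ?_ hn
  have hA : Cfsg.IsElementaryAbelian 2 (S : Subgroup G) :=
    ⟨hS, fun e he => by rw [pow_two]; exact hT.exp_two e he⟩
  exact CfsgLib.Signalizer.le_of_centralizers (W := NS) hA (by have := hT.four_le; omega)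
    (fun h2 => (Nat.prime_two.coprime_iff_not_dvd.mp (Nat.coprime_comm.mp (coreP_coprime 2 C))) h2)
    (hSC.trans (le_normalizer_coreP 2 C))
    (fun e he he1 x hx => hT.centralizer_le e he he1 x (mem_centralizer_singleton_iff.mp hx.2)) hc

variable [IsMulCommutative (S : Subgroup G)]

omit [IsMulCommutative (S : Subgroup G)] in
theorem TISetting.ρ_apply (n : NS) (e : (S : Subgroup G)) :
    ((ρ n e : (S : Subgroup G)) : G) = (n : G) * e * (n : G)⁻¹ := rfl

omit [IsMulCommutative (S : Subgroup G)] in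
theorem TISetting.fix_iff_commute (n : NS) (e : (S : Subgroup G)) :
    ρ n e = e ↔ Commute (n : G) (e : G) := by
  rw [← Subtype.coe_inj, hT.ρ_apply, mul_inv_eq_iff_eq_mul]
  rfl

omit [IsMulCommutative (S : Subgroup G)] in
theorem TISetting.commute_of_ρ {n : NS} (hn : ρ n = 1) : ∀ e ∈ (S : Subgroup G), Commute (n : G) e :=
  fun e he => (hT.fix_iff_commute n ⟨e, he⟩).mp (by rw [hn]; rfl)

theorem TISetting.act {t g : G} (ht : t ∈ (S : Subgroup G)) (ht1 : t ≠ 1) (hgt : Commute g t)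
    (hg : g ∉ centralizer ((S : Subgroup G) : Set G)) : Act XS r := by
  haveI := Fact.mk Nat.prime_two
  have hodd : Odd (Nat.card XS) := by
    have hle : (S : Subgroup G).subgroupOf NS ≤ MonoidHom.ker ρ := fun s hs =>
      MulEquiv.ext fun e => (hT.fix_iff_commute s e).mpr (commute_of_sq_one hT.exp_two hs e.2)
    have hnd : ¬ 2 ∣ ((S : Subgroup G).subgroupOf NS).index := (S.subtype le_normalizer).not_dvd_index
    rw [← Nat.not_even_iff_odd, even_iff_two_dvd, ← Subgroup.index_ker]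
    exact fun h => hnd (h.trans (index_dvd_of_le hle))
  have hoddel : ∀ f ∈ XS, Odd (orderOf f) := fun f hf =>
    hodd.of_dvd_nat (Subgroup.orderOf_dvd_natCard _ hf)
  refine ⟨hT.hyp.prime, hT.hyp.ne_two, fun v => Subtype.ext (hT.exp_two v v.2), hT.four_le, hodd,
    ?_, ?_, ?_, ?_⟩
  · rintro f ⟨n, rfl⟩ hd
    have h1 := orderOf_map_dvd ρ n
    have h2 : r ∣ orderOf (n : G) := by rw [Subgroup.orderOf_coe]; exact hd.trans h1
    have h3 : orderOf (ρ n) ∣ 2 * r := by
      refine h1.trans ?_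
      rw [← Subgroup.orderOf_coe]
      rcases hT.hyp.div _ h2 with e | e <;> rw [e]
      exact dvd_mul_left r 2
    exact Nat.dvd_antisymm
      ((Nat.coprime_two_right.mpr (hoddel _ ⟨n, rfl⟩)).dvd_of_dvd_mul_left h3) hd
  · rintro f ⟨n, rfl⟩ v hv hfv
    have h1 := hT.hyp.pow_two_r_of_commute_invol (hT.invol v.2 fun e => hv (Subtype.ext e))
      ((hT.fix_iff_commute n v).mp hfv)
    have h2 : orderOf (ρ n) ∣ 2 * r := orderOf_dvd_of_pow_eq_one (by
      rw [← map_pow, show n ^ (2 * r) = 1 from Subtype.ext h1, map_one])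
    exact orderOf_dvd_iff_pow_eq_one.mp
      ((Nat.coprime_two_right.mpr (hoddel _ ⟨n, rfl⟩)).dvd_of_dvd_mul_left h2)
  · intro v w hv hw
    obtain ⟨p, hp⟩ := hT.exists_ne_base
    obtain ⟨d, ⟨hdo, -⟩, hd⟩ := SEmb.exists_conj hT.stronglyEmbedded
      (hT.invol v.2 fun e => hv (Subtype.ext e)) (hT.invol w.2 fun e => hw (Subtype.ext e))
      (hT.fix_base (le_normalizer v.2)) hp.symm (hT.fix_base (le_normalizer w.2))
    exact ⟨_, ⟨⟨d, (SEmb.smul_one_eq_iff d).mp hdo⟩, rfl⟩, Subtype.ext hd⟩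
  · have hgN := hT.centralizer_le t ht ht1 g hgt
    refine ⟨_, ⟨⟨g, hgN⟩, rfl⟩, fun e => hg (mem_centralizer_iff.mpr fun s hs =>
      (hT.commute_of_ρ e s hs).eq.symm), ⟨t, ht⟩, fun e => ht1 (congrArg Subtype.val e),
      (hT.fix_iff_commute _ _).mpr hgt⟩

/-- The stabiliser of a second point meets `C(S)` trivially. -/
theorem TISetting.eq_one_of_fix (hA : Act XS r) (F : Frame XS r) {d : NS} {p : Ω} (hp : p ≠ o)
    (hdp : (d : G) • p = p) (hd : ρ d = 1) : (d : G) = 1 := by
  have hH := hT.stronglyEmbedded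
  by_contra hd1
  obtain ⟨e₀, he₀, he₀1⟩ := hT.exists_invol
  have hdodd : Odd (orderOf (d : G)) := by
    refine Nat.not_even_iff_odd.mp fun hev => hp ?_
    obtain ⟨k, hk⟩ := even_iff_two_dvd.mp hev
    have hi : orderOf ((d : G) ^ k) = 2 := by
      have hpos := orderOf_pos (d : G)
      rw [orderOf_pow_of_dvd (by omega) ⟨2, by rw [hk]; ring⟩, hk, Nat.mul_div_cancel _ (by omega)]
    exact SEmb.point_unique hH hi
      (pow_mem (show (d : G) ∈ stabilizer G p from hdp) k) (hT.fix_base (pow_mem d.2 k))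
  have hdr : (d : G) ^ r = 1 :=
    hT.hyp.pow_eq_one_of_commute_invol (hT.invol he₀ he₀1) (hT.commute_of_ρ hd e₀ he₀) hdodd
  obtain ⟨t', ht', ht'p⟩ := SEmb.exists_invol_fix hH p
  obtain ⟨u, ⟨hu, huo⟩, -⟩ := SEmb.exists_swap hH (hT.invol he₀ he₀1) ht'
    (hT.fix_base (le_normalizer he₀)) ht'p hp.symm
  have huu := Invol.mul_self_eq_one hu
  have hup : u • p = o := (SEmb.smul_invol_eq_iff hu _ _).mp huo
  have ha'N : u * d * u ∈ NS := by
    rw [← SEmb.smul_one_eq_iff, mul_smul, mul_smul, huo, hdp, hup]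
  obtain ⟨e, he, he1, hce⟩ : ∃ e ∈ (S : Subgroup G), e ≠ 1 ∧ Commute (u * d * u) e := by
    let a' : XS := ⟨ρ ⟨_, ha'N⟩, ⟨_, rfl⟩⟩
    have har : (a' : MulAut (S : Subgroup G)) ^ r = 1 := by
      show ρ ⟨_, ha'N⟩ ^ r = 1
      rw [← map_pow, show (⟨u * d * u, ha'N⟩ : NS) ^ r = 1 from Subtype.ext (by
        show (u * d * u) ^ r = 1
        conv_lhs => rw [show u * d * u = u * d * u⁻¹ by rw [Invol.inv_eq_self hu]]
        rw [conj_pow, hdr, mul_one, mul_inv_cancel]), map_one]
    by_cases hχ : F.χ a' = 1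
    · exact ⟨e₀, he₀, he₀1,
        hT.commute_of_ρ (congrArg Subtype.val (F.ker_pow_r hA hχ har)) e₀ he₀⟩
    · obtain ⟨-, v, hv, hv'⟩ := F.exists_fix hA hχ
      exact ⟨v, v.2, fun e => hv (Subtype.ext e), (hT.fix_iff_commute ⟨_, ha'N⟩ v).mp hv'⟩
  have hcd : Commute (u * e * u) (d : G) := by
    show u * e * u * d = d * (u * e * u)
    calc u * e * u * d = u * (e * (u * d * u)) * u := by simp only [mul_assoc, huu, mul_one]
      _ = u * ((u * d * u) * e) * u := by rw [hce.eq]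
      _ = d * (u * e * u) := by simp only [← mul_assoc, huu, one_mul]
  have hmem := hT.centralizer_le_of_centralizes (hT.commute_of_ρ hd) hdr hd1 hcd
  refine hT.no_two_fix he he1 hp ?_
  have := hT.fix_base hmem
  rw [mul_smul, mul_smul, huo] at this
  calc e • p = u • u • e • p := (SEmb.smul_smul_invol hu _).symm
    _ = p := by rw [this, huo]

theorem TISetting.eq_of_fix (hA : Act XS r) (F : Frame XS r) {d d' : NS} {p : Ω} (hp : p ≠ o)
    (hdp : (d : G) • p = p) (hd'p : (d' : G) • p = p) (h : ρ d = ρ d') : d = d' := by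
  have := hT.eq_one_of_fix hA F (d := d⁻¹ * d') hp (by
    rw [Subgroup.coe_mul, InvMemClass.coe_inv, mul_smul, hd'p, inv_smul_eq_iff, hdp])
    (by rw [map_mul, map_inv, h, inv_mul_cancel])
  exact inv_mul_eq_one.mp (Subtype.ext this)

/-- The exponent character on the normaliser. -/
noncomputable def expChar (F : Frame XS r) : NS →* (ZMod F.q)ˣ := F.χ.comp (MonoidHom.rangeRestrict ρ)

theorem TISetting.expChar_pow (hA : Act XS r) (F : Frame XS r) (n : NS) :
    expChar F n ^ r = 1 := by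
  obtain ⟨x, hx, hxr, -⟩ := F.exists_x hA
  exact F.χ_pow_r hA hx hxr _

theorem TISetting.eq_one_of_sq (hA : Act XS r) (F : Frame XS r) {n : NS}
    (h : expChar F n ^ 2 = 1) : expChar F n = 1 :=
  orderOf_eq_one_iff.mp (Nat.eq_one_of_dvd_coprimes hT.hyp.coprime_two
    (orderOf_dvd_of_pow_eq_one (hT.expChar_pow hA F n)) (orderOf_dvd_of_pow_eq_one h))

/-- Every stabiliser of a second point contains a lift of `τ`. -/
theorem TISetting.exists_lift (hA : Act XS r) (F : Frame XS r) {p : Ω} (hp : p ≠ o) :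
    ∃ τh : NS, (τh : G) • p = p ∧ ρ τh = F.τ ∧ (τh : G) ^ F.q = 1 := by
  haveI := Fact.mk F.prime_q
  set Dp : Subgroup NS := (stabilizer G p).subgroupOf NS with hDp
  set Db := Dp.map ρ with hDb
  obtain ⟨e₀, he₀, he₀1⟩ := hT.exists_invol
  let t : (S : Subgroup G) := ⟨e₀, he₀⟩
  have hS1 : ∀ v : (S : Subgroup G), v ≠ 1 → orderOf (v : G) = 2 :=
    fun v hv => hT.invol v.2 fun e => hv (Subtype.ext e)
  have horb : orbit Db t = ({1}ᶜ : Set (S : Subgroup G)) := by
    ext v
    refine ⟨?_, fun hv => ?_⟩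
    · rintro ⟨f, rfl⟩ hv
      exact he₀1 (congrArg Subtype.val ((map_eq_one_iff f.1 f.1.injective).mp hv))
    · obtain ⟨d, ⟨hdo, hdp⟩, hd⟩ := SEmb.exists_conj hT.stronglyEmbedded (hT.invol he₀ he₀1)
        (hS1 v hv) (hT.fix_base (le_normalizer he₀)) hp.symm (hT.fix_base (le_normalizer v.2))
      exact ⟨⟨ρ ⟨d, (SEmb.smul_one_eq_iff d).mp hdo⟩, _, hdp, rfl⟩, Subtype.ext hd⟩
  have hdvd : F.q ∣ Nat.card Db := by
    refine (F.q_dvd hA).trans ?_
    have hk : Nat.card ({1}ᶜ : Set (S : Subgroup G)) = Nat.card (S : Subgroup G) - 1 := by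
      rw [Nat.card_coe_set_eq, Set.ncard_compl, Set.ncard_singleton]
    rw [← hk, ← horb, Nat.card_congr (orbitEquivQuotientStabilizer Db t)]
    exact Subgroup.card_quotient_dvd_card _
  obtain ⟨⟨_, d, hd, rfl⟩, hg⟩ := exists_prime_orderOf_dvd_card' F.q hdvd
  rw [← Subgroup.orderOf_coe] at hg
  have hm := F.mem_zpowers hA (g := ⟨ρ d, ⟨d, rfl⟩⟩) (hg ▸ pow_orderOf_eq_one _)
  have heq : zpowers (ρ d) = zpowers F.τ := Subgroup.eq_of_le_of_card_ge (zpowers_le.mpr hm)
    (by rw [Nat.card_zpowers, Nat.card_zpowers, hg, F.τ_order])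
  obtain ⟨i, hi⟩ := Subgroup.mem_zpowers_iff.mp (heq.symm ▸ Subgroup.mem_zpowers F.τ : F.τ ∈ zpowers (ρ d))
  have hdi : ((d ^ i : NS) : G) • p = p := by
    rw [Subgroup.coe_zpow]; exact zpow_mem (show (d : G) ∈ stabilizer G p from hd) i
  refine ⟨d ^ i, hdi, by rw [map_zpow]; exact hi, ?_⟩
  have h1 := hT.eq_one_of_fix hA F (d := (d ^ i) ^ F.q) hp (by
    rw [SubmonoidClass.coe_pow]; exact pow_mem (show ((d ^ i : NS) : G) ∈ stabilizer G p from hdi) _)
    (by rw [map_pow, map_zpow, hi, F.τ_pow hA])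
  rwa [SubmonoidClass.coe_pow] at h1

omit [IsMulCommutative (S : Subgroup G)] in
theorem TISetting.swap_conj {p : Ω} {u : G} (hu : orderOf u = 2) (huo : u • o = p) {d : NS}
    (hdp : (d : G) • p = p) : u * d * u ∈ NS ∧ (u * d * u) • p = p := by
  have hup : u • p = o := (SEmb.smul_invol_eq_iff hu _ _).mp huo
  constructor
  · rw [← SEmb.smul_one_eq_iff, mul_smul, mul_smul, huo, hdp, hup]
  · rw [mul_smul, mul_smul, hup, hT.fix_base d.2, huo]

/-- A swap of the two points respects the exponent character. -/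
theorem TISetting.expChar_swap (hA : Act XS r) (F : Frame XS r) {p : Ω} (hp : p ≠ o) {u : G}
    (hu : orderOf u = 2) (huo : u • o = p) {d : NS} (hdp : (d : G) • p = p)
    (hd' : u * d * u ∈ NS) : expChar F ⟨u * d * u, hd'⟩ = expChar F d := by
  haveI := Fact.mk F.prime_q
  have huu := Invol.mul_self_eq_one hu
  obtain ⟨τh, hτp, hτρ, hτq⟩ := hT.exists_lift hA F hp
  set c := ((expChar F d : (ZMod F.q)ˣ) : ZMod F.q).val with hc
  have hrel : d * τh * d⁻¹ = τh ^ c := by
    refine hT.eq_of_fix hA F hp ?_ ?_ ?_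
    · simp only [Subgroup.coe_mul, InvMemClass.coe_inv, mul_smul]
      rw [inv_smul_eq_iff.mpr hdp.symm, hτp, hdp]
    · rw [SubmonoidClass.coe_pow]; exact pow_mem (show (τh : G) ∈ stabilizer G p from hτp) _
    · rw [map_mul, map_mul, map_inv, map_pow, hτρ]
      exact F.conj (MonoidHom.rangeRestrict ρ d)
  obtain ⟨hτ'N, hτ'p⟩ := hT.swap_conj hu huo hτp
  set τ' : NS := ⟨_, hτ'N⟩ with hτ'
  have huconj : ∀ a b : G, u * (a * b) * u = (u * a * u) * (u * b * u) := fun a b => by
    simp only [mul_assoc]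
    rw [← mul_assoc u u, huu, one_mul]
  have hupow : ∀ (a : G) (n : ℕ), u * a ^ n * u = (u * a * u) ^ n := fun a n => by
    induction n with
    | zero => simp [huu]
    | succ n ih => rw [pow_succ, huconj, ih, pow_succ]
  have hrel' : (⟨u * d * u, hd'⟩ : NS) * τ' * (⟨u * d * u, hd'⟩ : NS)⁻¹ = τ' ^ c := by
    refine Subtype.ext ?_
    show u * d * u * (u * τh * u) * (u * d * u)⁻¹ = (u * τh * u) ^ c
    rw [← hupow, show (τh : G) ^ c = d * τh * (d : G)⁻¹ from (congrArg Subtype.val hrel).symm,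
      mul_inv_rev, mul_inv_rev, Invol.inv_eq_self hu, huconj, huconj]
    simp only [mul_assoc]
  have hτ'ρ : (ρ τ') ^ F.q = 1 := by
    rw [← map_pow, show τ' ^ F.q = 1 from Subtype.ext (by
      show (u * τh * u) ^ F.q = 1
      rw [← hupow, hτq, mul_one, huu]), map_one]
  have hne : ρ τ' ≠ 1 := fun e => by
    have h1 : u * τh * u = 1 := hT.eq_one_of_fix hA F hp hτ'p e
    have : (τh : G) = 1 := by
      calc (τh : G) = u * u * τh * (u * u) := by rw [huu]; group
        _ = u * (u * τh * u) * u := by group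
        _ = 1 := by rw [h1, mul_one, huu]
    rw [show τh = 1 from Subtype.ext this, map_one] at hτρ
    exact F.τ_ne hA hτρ.symm
  have hm := F.mem_zpowers hA (g := ⟨ρ τ', ⟨τ', rfl⟩⟩) hτ'ρ
  have heq : zpowers (ρ τ') = zpowers F.τ := Subgroup.eq_of_le_of_card_ge (zpowers_le.mpr hm)
    (by rw [Nat.card_zpowers, Nat.card_zpowers, F.τ_order, orderOf_eq_prime hτ'ρ hne])
  obtain ⟨j, hj⟩ := Subgroup.mem_zpowers_iff.mp (heq.symm ▸ Subgroup.mem_zpowers F.τ : F.τ ∈ zpowers (ρ τ'))
  have h2 := F.conj (MonoidHom.rangeRestrict ρ ⟨u * d * u, hd'⟩)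
  have h3 : ρ ⟨u * d * u, hd'⟩ * F.τ * (ρ ⟨u * d * u, hd'⟩)⁻¹ = F.τ ^ c := by
    rw [← hj, ← map_inv, ← map_zpow, ← map_mul, ← map_mul, ← conj_zpow, hrel', ← map_pow,
      ← zpow_natCast, ← zpow_natCast, zpow_comm]
  rw [show (MonoidHom.rangeRestrict ρ ⟨u * d * u, hd'⟩ : MulAut (S : Subgroup G)) =
    ρ ⟨u * d * u, hd'⟩ from rfl, h3, pow_eq_pow_iff_modEq, F.τ_order] at h2
  exact (Units.ext (ZMod.val_injective F.q (h2.eq_of_lt_of_lt (ZMod.val_lt _) (ZMod.val_lt _)))).symm

omit [IsMulCommutative (S : Subgroup G)] in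
theorem TISetting.card_swaps {p : Ω} :
    Nat.card (SEmb.Swap o p) = Nat.card (S : Subgroup G) - 1 := by
  rw [SEmb.card_swap hT.stronglyEmbedded]
  have hk : Nat.card ({1}ᶜ : Set (S : Subgroup G)) = Nat.card (S : Subgroup G) - 1 := by
    rw [Nat.card_coe_set_eq, Set.ncard_compl, Set.ncard_singleton]
  rw [← hk]
  refine Nat.card_congr
    { toFun := fun i => ⟨⟨i.1, hT.mem_of_sq ((SEmb.smul_one_eq_iff _).mp i.2.2)
        (Invol.mul_self_eq_one i.2.1)⟩, fun e => Invol.ne_one_of_invol i.2.1 (congrArg Subtype.val e)⟩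
      invFun := fun v => ⟨v.1.1, hT.invol v.1.2 fun e => v.2 (Subtype.ext e),
        hT.fix_base (le_normalizer v.1.2)⟩
      left_inv := fun i => rfl
      right_inv := fun v => rfl }

/-- A swap inverts the kernel part of the two-point stabiliser, which covers the whole kernel. -/
theorem TISetting.swap_inverts (hA : Act XS r) (F : Frame XS r) {p : Ω} (hp : p ≠ o) {u : G}
    (hu : orderOf u = 2) (huo : u • o = p) :
    (∀ c : XS, F.χ c = 1 → ∃ e : NS, (e : G) • p = p ∧ ρ e = c) ∧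
      ∀ d : NS, (d : G) • p = p → expChar F d = 1 → u * d * u = (d : G)⁻¹ := by
  have huu := Invol.mul_self_eq_one hu
  have hup : u • p = o := (SEmb.smul_invol_eq_iff hu _ _).mp huo
  have hmem : ∀ i : SEmb.Swap o p, u * i.1 ∈ NS ∧ (u * i.1) • p = p := fun i => by
    refine ⟨?_, ?_⟩
    · rw [← SEmb.smul_one_eq_iff, mul_smul, i.2.2, hup]
    · rw [mul_smul, (SEmb.smul_invol_eq_iff i.2.1 _ _).mp i.2.2, huo]
  have hχ : ∀ i : SEmb.Swap o p, expChar F ⟨u * i.1, (hmem i).1⟩ = 1 := by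
    intro i
    have hinv : u * (u * i.1) * u = (u * i.1)⁻¹ := by
      rw [mul_inv_rev, Invol.inv_eq_self hu, Invol.inv_eq_self i.2.1, ← mul_assoc, huu, one_mul]
    have h1 := hT.expChar_swap hA F hp hu huo (d := ⟨u * i.1, (hmem i).1⟩) (hmem i).2
      (hinv ▸ inv_mem (hmem i).1)
    refine hT.eq_one_of_sq hA F ?_
    rw [show (⟨u * (u * i.1) * u, hinv ▸ inv_mem (hmem i).1⟩ : NS) = ⟨u * i.1, (hmem i).1⟩⁻¹ from
      Subtype.ext hinv, map_inv, inv_eq_iff_mul_eq_one] at h1
    rw [pow_two, h1]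
  let f : SEmb.Swap o p → F.χ.ker := fun i => ⟨MonoidHom.rangeRestrict ρ ⟨u * i.1, (hmem i).1⟩, hχ i⟩
  have hf : Function.Injective f := fun i j h => Subtype.ext (mul_left_cancel (congrArg Subtype.val
    (hT.eq_of_fix hA F hp (hmem i).2 (hmem j).2
      (congrArg (fun c : F.χ.ker => ((c : XS) : MulAut (S : Subgroup G))) h))))
  have hbij := (Nat.bijective_iff_injective_and_card f).mpr
    ⟨hf, by rw [hT.card_swaps, F.card_ker hA]⟩
  refine ⟨fun c hc => ?_, fun d hdp hd => ?_⟩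
  · obtain ⟨i, hi⟩ := hbij.surjective ⟨c, hc⟩
    exact ⟨⟨u * i.1, (hmem i).1⟩, (hmem i).2,
      congrArg (fun c : F.χ.ker => ((c : XS) : MulAut (S : Subgroup G))) hi⟩
  · obtain ⟨i, hi⟩ := hbij.surjective ⟨MonoidHom.rangeRestrict ρ d, hd⟩
    have he := hT.eq_of_fix hA F hp (hmem i).2 hdp
      (congrArg (fun c : F.χ.ker => ((c : XS) : MulAut (S : Subgroup G))) hi)
    rw [← he]
    show u * (u * i.1) * u = (u * i.1)⁻¹
    rw [mul_inv_rev, Invol.inv_eq_self hu, Invol.inv_eq_self i.2.1, ← mul_assoc, huu, one_mul]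

/-- Transfer: `r` divides the number of fixed points. -/
theorem TISetting.dvd_card_fix [IsSimpleGroup G] (hab : ∃ a b : G, a * b ≠ b * a) (hA : Act XS r)
    (F : Frame XS r) (x : NS) (hxr : (x : G) ^ r = 1) (hχ : expChar F x ≠ 1) :
    r ∣ Nat.card {p : Ω // (x : G) • p = p} := by
  classical
  haveI := Fact.mk hT.hyp.prime
  haveI : Fintype Ω := Fintype.ofFinite _
  set φ := expChar F with hφ
  have hone : MonoidHom.transfer φ (x : G) = 1 := by
    rcases Subgroup.Normal.eq_bot_or_eq_top (H := (MonoidHom.transfer φ).ker) inferInstance with h0 | h0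
    · obtain ⟨a, b, hne⟩ := hab
      exact absurd ((MonoidHom.ker_eq_bot_iff _).mp h0 (by rw [map_mul, map_mul, mul_comm])) hne
    · exact (MonoidHom.mem_ker).mp (h0 ▸ mem_top (x : G))
  have hmov : ∀ t : G, t⁻¹ * x * t ∉ NS → ∀ (n : ℕ) (h : t⁻¹ * (x : G) ^ n * t ∈ NS), φ ⟨_, h⟩ = 1 := by
    intro t ht n h
    have hxo : orderOf (x : G) = r := orderOf_eq_prime hxr fun e => hχ (by
      rw [show x = 1 from Subtype.ext e, map_one])
    by_cases hd : r ∣ n
    · obtain ⟨m, rfl⟩ := hd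
      rw [show (⟨_, h⟩ : NS) = 1 from Subtype.ext (by simp [pow_mul, hxr]), map_one]
    · exfalso
      obtain ⟨m, hm⟩ := exists_pow_eq_self_of_coprime (x := (x : G)) (n := n)
        (by rw [hxo]; exact ((Nat.Prime.coprime_iff_not_dvd hT.hyp.prime).mpr hd).symm)
      have h2 := pow_mem h m
      rw [show t⁻¹ * (x : G) ^ n * t = t⁻¹ * (x : G) ^ n * t⁻¹⁻¹ by rw [inv_inv], conj_pow, hm,
        inv_inv] at h2
      exact ht h2
  rw [CfsgLib.Yoshida.transfer_eq_prod_extOne φ (x : G) hmov] at hone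
  have hterm : ∀ p : Ω, CfsgLib.Yoshida.extOne φ (p.out⁻¹ * x * p.out) =
      if (x : G) • p = p then φ x else 1 := by
    intro p
    have hpo : ((p.out : G) : Ω) = p := QuotientGroup.out_eq' p
    split_ifs with hfix
    · by_cases hp : p = o
      · rw [CfsgLib.Yoshida.extOne_coset_congr φ (s := p.out) (t := 1) (hpo.trans hp) (x : G)]
        simp [CfsgLib.Yoshida.extOne_of_mem φ x.2]
      · obtain ⟨e₀, he₀, he₀1⟩ := hT.exists_invol
        obtain ⟨t', ht', ht'p⟩ := SEmb.exists_invol_fix hT.stronglyEmbedded p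
        obtain ⟨u, ⟨hu, huo⟩, -⟩ := SEmb.exists_swap hT.stronglyEmbedded (hT.invol he₀ he₀1) ht'
          (hT.fix_base (le_normalizer he₀)) ht'p (Ne.symm hp)
        have hmem := (hT.swap_conj hu huo hfix).1
        have hu' : (u : Ω) = p := by rw [← huo, Quotient.smul_mk, smul_eq_mul, mul_one]
        rw [CfsgLib.Yoshida.extOne_coset_congr φ (s := p.out) (t := u) (hpo.trans hu'.symm) (x : G),
          Invol.inv_eq_self hu, CfsgLib.Yoshida.extOne_of_mem φ hmem]
        exact hT.expChar_swap hA F hp hu huo hfix hmem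
    · refine CfsgLib.Yoshida.extOne_of_not_mem φ fun hmem => hfix ?_
      rw [← hpo, SEmb.smul_mk_eq_iff]
      exact hmem
  rw [Finset.prod_congr rfl fun p _ => hterm p, Finset.prod_ite, Finset.prod_const, Finset.prod_const,
    one_pow, mul_one] at hone
  have h1 := orderOf_dvd_of_pow_eq_one hone
  rw [orderOf_eq_prime (hT.expChar_pow hA F x) hχ] at h1
  rwa [Nat.card_eq_fintype_card, Fintype.card_subtype]

omit [IsMulCommutative (S : Subgroup G)] in
theorem TISetting.card_fix_modEq {g : G} (hg : g ^ r = 1) :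
    Nat.card Ω ≡ Nat.card {p : Ω // g • p = p} [MOD r] := by
  haveI := Fact.mk hT.hyp.prime
  have hP : IsPGroup r (zpowers g) := by
    rcases eq_or_ne g 1 with rfl | hg1
    · exact IsPGroup.of_card (n := 0) (by rw [Nat.card_zpowers, orderOf_one, pow_zero])
    · exact IsPGroup.of_card (n := 1) (by rw [Nat.card_zpowers, orderOf_eq_prime hg hg1, pow_one])
  have heq : ∀ p : Ω, p ∈ fixedPoints (zpowers g) Ω ↔ g • p = p := fun p =>
    ⟨fun h => h ⟨g, Subgroup.mem_zpowers g⟩, fun h z =>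
      zpowers_le.mpr (show g ∈ stabilizer G p from h) z.2⟩
  exact (hP.card_modEq_card_fixedPoints Ω).trans
    (by rw [Nat.card_congr (Equiv.subtypeEquivRight heq)])

/-- `C(S) = S`. -/
theorem TISetting.mul_self_of_ρ [IsSimpleGroup G] (hab : ∃ a b : G, a * b ≠ b * a) (hA : Act XS r)
    (F : Frame XS r) (x : NS) (hxr : (x : G) ^ r = 1) (hχ : expChar F x ≠ 1) {n : NS} (hn : ρ n = 1) :
    (n : G) * n = 1 := by
  classical
  obtain ⟨e₀, he₀, he₀1⟩ := hT.exists_invol
  have h2r := hT.hyp.pow_two_r_of_commute_invol (hT.invol he₀ he₀1) (hT.commute_of_ρ hn e₀ he₀)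
  rw [pow_mul] at h2r
  rw [← pow_two]
  by_contra ha
  have hfix : Nat.card {p : Ω // ((n : G) ^ 2) • p = p} = 1 := by
    rw [Nat.card_eq_one_iff_unique]
    refine ⟨⟨fun a b => Subtype.ext ?_⟩, ⟨⟨o, hT.fix_base (pow_mem n.2 2)⟩⟩⟩
    have key : ∀ p : Ω, ((n : G) ^ 2) • p = p → p = o := fun p hp => by
      by_contra hpo
      exact ha (hT.eq_one_of_fix hA F (d := n ^ 2) hpo hp (by rw [map_pow, hn, one_pow]))
    rw [key _ a.2, key _ b.2]
  have h1 := (hT.card_fix_modEq h2r).symm.trans (hT.card_fix_modEq hxr)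
  rw [hfix] at h1
  have h0 := h1.trans (Nat.modEq_zero_iff_dvd.mpr (hT.dvd_card_fix hab hA F x hxr hχ))
  have := Nat.modEq_zero_iff_dvd.mp h0
  exact hT.hyp.prime.ne_one (Nat.dvd_one.mp this)

/-- A swap commuting with a given element of order `r`. -/
theorem TISetting.exists_comm_swap (hA : Act XS r) (F : Frame XS r) {p : Ω} (hp : p ≠ o) (x : NS)
    (hxr : (x : G) ^ r = 1) (hχ : expChar F x ≠ 1) (hxp : (x : G) • p = p) :
    ∃ u : G, orderOf u = 2 ∧ u • o = p ∧ Commute u (x : G) := by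
  obtain ⟨e₀, he₀, he₀1⟩ := hT.exists_invol
  obtain ⟨t', ht', ht'p⟩ := SEmb.exists_invol_fix hT.stronglyEmbedded p
  obtain ⟨u, ⟨hu, huo⟩, -⟩ := SEmb.exists_swap hT.stronglyEmbedded (hT.invol he₀ he₀1) ht'
    (hT.fix_base (le_normalizer he₀)) ht'p hp.symm
  have huu := Invol.mul_self_eq_one hu
  obtain ⟨hxN, hxp'⟩ := hT.swap_conj hu huo hxp
  set x' : NS := ⟨_, hxN⟩ with hx'
  set y := MonoidHom.rangeRestrict ρ x with hy
  have hyr : (y : MulAut (S : Subgroup G)) ^ r = 1 := by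
    show ρ x ^ r = 1
    rw [← map_pow, show x ^ r = 1 from Subtype.ext hxr, map_one]
  have hE : F.χ (MonoidHom.rangeRestrict ρ (x' * x⁻¹)) = 1 := by
    show expChar F (x' * x⁻¹) = 1
    rw [map_mul, map_inv, hT.expChar_swap hA F hp hu huo hxp hxN, mul_inv_cancel]
  obtain ⟨c, hc, hce⟩ := F.exists_twist hA (y := y) hχ hyr hE
  obtain ⟨hcov, hinv⟩ := hT.swap_inverts hA F hp hu huo
  obtain ⟨e, hep, hec⟩ := hcov c hc
  have hrel : x' = e * x * e⁻¹ := by
    refine hT.eq_of_fix hA F hp hxp' ?_ ?_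
    · simp only [Subgroup.coe_mul, InvMemClass.coe_inv, mul_smul]
      rw [inv_smul_eq_iff.mpr hep.symm, hxp, hep]
    · have h1 : (c : MulAut (S : Subgroup G)) * ((y : MulAut (S : Subgroup G)) * c *
          (y : MulAut (S : Subgroup G))⁻¹)⁻¹ = ρ (x' * x⁻¹) := congrArg Subtype.val hce
      rw [map_mul, map_inv] at h1
      rw [map_mul, map_mul, map_inv, hec]
      calc ρ x' = ρ x' * (ρ x)⁻¹ * ρ x := by group
        _ = _ := by rw [← h1]; show (c : MulAut _) * (ρ x * c * (ρ x)⁻¹)⁻¹ * ρ x = _; group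
  have heinv : u * e * u = (e : G)⁻¹ := hinv e hep (by
    show F.χ (MonoidHom.rangeRestrict ρ e) = 1
    rw [show MonoidHom.rangeRestrict ρ e = c from Subtype.ext hec, hc])
  refine ⟨u * e, Invol.orderOf_eq_two ?_ ?_, ?_, ?_⟩
  · intro h1
    refine hp ?_
    rw [← huo, eq_inv_of_mul_eq_one_left h1, hT.fix_base (inv_mem e.2)]
  · calc u * e * (u * e) = (u * e * u) * e := by group
      _ = 1 := by rw [heinv, inv_mul_cancel]
  · rw [mul_smul, hT.fix_base e.2, huo]
  · have h2 : u * x * u = (e : G) * x * (e : G)⁻¹ := congrArg Subtype.val hrel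
    show u * e * x = x * (u * e)
    calc u * e * x = u * ((e : G) * x * (e : G)⁻¹) * e := by group
      _ = u * (u * x * u) * e := by rw [h2]
      _ = x * (u * e) := by simp only [← mul_assoc, huu, one_mul]

/-- A lift of `τ` fixes at most one further point fixed by `x`. -/
theorem TISetting.eq_of_lift (hA : Act XS r) (F : Frame XS r) {p p' : Ω} (hp : p ≠ o) (hp' : p' ≠ o)
    (x : NS) (hxr : (x : G) ^ r = 1) (hχ : expChar F x ≠ 1) (hxp : (x : G) • p = p)
    (hxp' : (x : G) • p' = p') {τh : NS} (hτρ : ρ τh = F.τ) (hτq : (τh : G) ^ F.q = 1)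
    (hτp : (τh : G) • p = p) (hτp' : (τh : G) • p' = p') : p = p' := by
  haveI := Fact.mk F.prime_q
  obtain ⟨u, hu, huo, huc⟩ := hT.exists_comm_swap hA F hp x hxr hχ hxp
  obtain ⟨u', hu', hu'o, hu'c⟩ := hT.exists_comm_swap hA F hp' x hxr hχ hxp'
  have hχτ : expChar F τh = 1 :=
    F.χ_τ hA (g := MonoidHom.rangeRestrict ρ τh) (by
      show ρ τh ∈ _; rw [hτρ]; exact Subgroup.mem_zpowers _)
  have h1 := (hT.swap_inverts hA F hp hu huo).2 τh hτp hχτ
  have h2 := (hT.swap_inverts hA F hp' hu' hu'o).2 τh hτp' hχτ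
  by_contra hne
  set w := u * u' with hw
  have hw1 : w ≠ 1 := by
    intro e
    rw [hw] at e
    refine hne ?_
    rw [← huo, ← hu'o, eq_inv_of_mul_eq_one_left e, Invol.inv_eq_self hu']
  have hwx : Commute w (x : G) := huc.mul_left hu'c
  have hx1 : (x : G) ≠ 1 := fun e => hχ (by rw [show x = 1 from Subtype.ext e, map_one])
  have hw2r := hT.hyp.pow_two_r_of_commute_relem hxr hx1 hwx
  have hwτ : Commute w (τh : G) := by
    have huu := Invol.mul_self_eq_one hu
    have hu'u' := Invol.mul_self_eq_one hu'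
    show u * u' * τh = τh * (u * u')
    calc u * u' * τh = u * (u' * τh * u') * u' := by simp only [mul_assoc, hu'u', mul_one]
      _ = u * (u * τh * u) * u' := by rw [h2, ← h1]
      _ = τh * (u * u') := by simp only [← mul_assoc, huu, one_mul]
  have hτ1 : (τh : G) ≠ 1 := fun e => by
    rw [show τh = 1 from Subtype.ext e, map_one] at hτρ
    exact F.τ_ne hA hτρ.symm
  have hτo : orderOf (τh : G) = F.q := orderOf_eq_prime hτq hτ1
  have hq2 : F.q ≠ 2 := fun e => by
    have := hA.orderOf_odd F.τ_mem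
    rw [F.τ_order, e] at this
    exact absurd this (by decide)
  have hnd : ¬ F.q ∣ 2 * r := fun e => (F.prime_q.dvd_mul.mp e).elim
    (fun e => hq2 ((Nat.prime_dvd_prime_iff_eq F.prime_q Nat.prime_two).mp e))
    (fun e => F.ne ((Nat.prime_dvd_prime_iff_eq F.prime_q hT.hyp.prime).mp e))
  have hwd := orderOf_dvd_of_pow_eq_one hw2r
  have ho : orderOf (w * τh) = orderOf w * F.q := by
    rw [hwτ.orderOf_mul_eq_mul_orderOf_of_coprime, hτo]
    rw [hτo]
    exact (((Nat.Prime.coprime_iff_not_dvd F.prime_q).mpr hnd).coprime_dvd_right hwd).symm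
  obtain ⟨s, hs, hsd⟩ := Nat.exists_prime_and_dvd (fun e => hw1 (orderOf_eq_one_iff.mp e))
  refine hnd ((dvd_mul_left F.q (orderOf w)).trans (ho ▸ ?_))
  rcases hs.dvd_mul.mp (hsd.trans hwd) with e | e
  · obtain rfl := (Nat.prime_dvd_prime_iff_eq hs Nat.prime_two).mp e
    rcases hT.hyp.even _ (ho ▸ hsd.mul_right _) with e | e <;> rw [e]
    exact dvd_mul_right 2 r
  · obtain rfl := (Nat.prime_dvd_prime_iff_eq hs hT.hyp.prime).mp e
    rcases hT.hyp.div _ (ho ▸ hsd.mul_right _) with e | e <;> rw [e]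
    exact dvd_mul_left s 2

/-- The final configuration: nine points with an element of order divisible by nine. -/
theorem TISetting.nine_points (hr : r = 3) {p : Ω} (hp : p ≠ o) {u : G} (hu : orderOf u = 2)
    (huo : u • o = p) {t : G} (ht : t ∈ (S : Subgroup G)) (ht1 : t ≠ 1) (hut : u • t • p = t • p)
    {a : NS} (hap : (a : G) • p = p) (hinv : u * a * u = (a : G)⁻¹) (ha7 : (a : G) ^ 7 = 1)
    (hrel : (a : G) ^ 3 * t * ((a : G) ^ 3)⁻¹ = t * ((a : G) * t * (a : G)⁻¹)) : False := by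
  subst hr
  set e : ℕ → G := fun i => (a : G) ^ i * t * ((a : G) ^ i)⁻¹ with he
  set P : ℕ → Ω := fun i => (a : G) ^ i • t • p with hP
  have heS : ∀ i, e i ∈ (S : Subgroup G) := fun i =>
    (mem_normalizer_iff.mp (pow_mem a.2 i) t).mp ht
  have hr3 : ∀ i, e (i + 3) = e i * e (i + 1) := by
    intro i
    calc e (i + 3) = (a : G) ^ i * ((a : G) ^ 3 * t * ((a : G) ^ 3)⁻¹) * ((a : G) ^ i)⁻¹ := by
          simp only [he, pow_add]; group
      _ = e i * e (i + 1) := by rw [hrel]; simp only [he, pow_succ]; group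
  have hsq : ∀ i, e i * e i = 1 := fun i => hT.exp_two _ (heS i)
  have hcom : ∀ i j, e i * e j = e j * e i := fun i j => (commute_of_sq_one hT.exp_two (heS i) (heS j)).eq
  have hcomG : ∀ x y, x ∈ (S : Subgroup G) → y ∈ (S : Subgroup G) → x * y = y * x := fun x y hx hy =>
    (commute_of_sq_one hT.exp_two hx hy).eq
  have h10 : e 1 * e 0 = e 3 := by rw [hcom, hr3 0]
  have h12 : e 1 * e 2 = e 4 := (hr3 1).symm
  have h13 : e 1 * e 3 = e 0 := by rw [hr3 0, hcom 0 1, ← mul_assoc, hsq, one_mul]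
  have h14 : e 1 * e 4 = e 2 := by rw [hr3 1, ← mul_assoc, hsq, one_mul]
  have h16 : e 1 * e 6 = e 5 := by
    rw [hr3 3, hr3 2, hr3 1, hr3 0]
    letI : CommGroup (S : Subgroup G) :=
      { (inferInstance : Group (S : Subgroup G)) with
        mul_comm := fun a b => Subtype.ext (hcomG a b a.2 b.2) }
    have key : ∀ a b c : (S : Subgroup G), b * b = 1 → b * ((a * b) * (b * c)) = c * (a * b) := by
      intro a b c hb
      calc b * ((a * b) * (b * c)) = c * (a * b) * (b * b) := by ac_rfl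
        _ = c * (a * b) := by rw [hb, mul_one]
    exact congrArg Subtype.val (key ⟨_, heS 0⟩ ⟨_, heS 1⟩ ⟨_, heS 2⟩ (Subtype.ext (hsq 1)))
  have h15 : e 1 * e 5 = e 6 := by rw [← h16, ← mul_assoc, hsq, one_mul]
  have heP : ∀ i, e i • p = P i := fun i => by
    simp only [he, hP, mul_smul]
    rw [inv_smul_eq_iff.mpr (pow_mem (show (a : G) ∈ stabilizer G p from hap) i).symm]
  have hPo : ∀ i, P i ≠ o := fun i h => hp (by
    rw [← heP] at h
    rw [← smul_left_cancel_iff (e i), h, hT.fix_base (le_normalizer (heS i))])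
  set g := u * e 1 with hg
  have hstep : ∀ i j k, e 1 * e i = e j → j + k = 7 → g • P i = P k := by
    intro i j k hij hjk
    have hju : u * (a : G) ^ j = (a : G) ^ k * u := by
      have hak : (a : G) ^ k = ((a : G) ^ j)⁻¹ := by
        rw [eq_inv_iff_mul_eq_one, ← pow_add, add_comm, hjk, ha7]
      rw [hak, ← inv_pow, ← hinv]
      clear hak hjk hij
      induction j with
      | zero => simp
      | succ n ih =>
        have huu := Invol.mul_self_eq_one hu
        rw [pow_succ (u * a * u), mul_assoc ((u * a * u) ^ n), mul_assoc (u * a) u u, huu, mul_one,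
          ← mul_assoc ((u * a * u) ^ n), ← ih, pow_succ, mul_assoc]
    rw [← heP i, hg, smul_smul, mul_assoc, hij, mul_smul, heP]
    show u • (a : G) ^ j • t • p = (a : G) ^ k • t • p
    rw [smul_smul, hju, mul_smul, hut]
  have g0 : g • o = p := by
    rw [hg, mul_smul, hT.fix_base (le_normalizer (heS 1)), huo]
  have g1 : g • p = P 6 := by
    rw [hg, mul_smul, heP]
    show u • (a : G) ^ 1 • t • p = _
    have hju : u * (a : G) ^ 1 = (a : G) ^ 6 * u := by
      have h6 : (a : G) ^ 6 = (a : G)⁻¹ := by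
        rw [eq_inv_iff_mul_eq_one, ← pow_succ, ha7]
      rw [pow_one, h6, ← hinv, mul_assoc (u * a) u u, Invol.mul_self_eq_one hu, mul_one]
    rw [smul_smul, hju, mul_smul, hut]
  have g2 : g • P 6 = P 2 := hstep 6 5 2 h16 rfl
  have g3 : g • P 2 = P 3 := hstep 2 4 3 h12 rfl
  have g4 : g • P 3 = P 0 := by
    have := hstep 3 0 7 h13 rfl
    rwa [show P 7 = P 0 by simp [hP, ha7]] at this
  have g5 : g • P 0 = P 4 := hstep 0 3 4 h10 rfl
  have g6 : g • P 4 = P 5 := hstep 4 2 5 h14 rfl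
  have g7 : g • P 5 = P 1 := hstep 5 6 1 h15 rfl
  have g8 : g • P 1 = o := by
    rw [← heP 1, hg, smul_smul, mul_assoc, hsq, mul_one]
    exact (SEmb.smul_invol_eq_iff hu _ _).mp huo
  have p3 : (g ^ 3) • o = P 2 := by simp only [pow_succ, pow_zero, one_mul, mul_smul, g0, g1, g2]
  have p9 : (g ^ 9) • o = o := by
    simp only [pow_succ, pow_zero, one_mul, mul_smul, g0, g1, g2, g3, g4, g5, g6, g7, g8]
  by_cases hd : 3 ∣ orderOf g
  · rcases hT.hyp.div g hd with h | h
    · refine hPo 2 ?_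
      rw [← p3, ← h, pow_orderOf_eq_one, one_smul]
    · refine hPo 2 ?_
      have h6 : g ^ 6 = 1 := by
        rw [show (6 : ℕ) = orderOf g by omega]; exact pow_orderOf_eq_one g
      rw [show g ^ 9 = g ^ 3 * g ^ 6 by rw [← pow_add], h6, mul_one, p3] at p9
      exact p9
  · obtain ⟨m, hm⟩ := exists_pow_eq_self_of_coprime (x := g) (n := 9)
      ((((Nat.Prime.coprime_iff_not_dvd Nat.prime_three).mpr hd).pow_left 2))
    refine hp ?_
    rw [← g0, ← hm]
    exact pow_mem (show g ^ 9 ∈ stabilizer G o from p9) m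

end Setting

/-- No element outside `C(S)` centralises an involution of `S`. -/
theorem false_of_field {G : Type*} [Group G] [Finite G] [IsSimpleGroup G]
    (hab : ∃ a b : G, a * b ≠ b * a) {r : ℕ} {S : Sylow 2 G} (hT : TISetting G r S) {t g : G}
    (htS : t ∈ (S : Subgroup G)) (ht : t ≠ 1) (hgt : Commute g t)
    (hg : g ∉ centralizer ((S : Subgroup G) : Set G)) : False := by
  classical
  haveI := hT.comm
  haveI := Fact.mk hT.hyp.prime
  have hA := hT.act htS ht hgt hg
  obtain ⟨F⟩ := hA.exists_frame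
  haveI := Fact.mk F.prime_q
  have hgN := hT.centralizer_le t htS ht g hgt
  -- the element of order `r`
  set x : normalizer ((S : Subgroup G) : Set G) := ⟨g, hgN⟩ ^ (r + 1) with hx
  have hg2r := hT.hyp.pow_two_r_of_commute_invol (hT.invol htS ht) hgt
  have hxr : (x : G) ^ r = 1 := by
    obtain ⟨j, hj⟩ := hT.hyp.odd_r
    rw [hx, SubmonoidClass.coe_pow]
    show (g ^ (r + 1)) ^ r = 1
    rw [← pow_mul, show (r + 1) * r = 2 * r * (j + 1) by rw [hj]; ring, pow_mul, hg2r, one_pow]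
  have hxt : Commute (x : G) t := by rw [hx, SubmonoidClass.coe_pow]; exact hgt.pow_left _
  let t₀ : (S : Subgroup G) := ⟨t, htS⟩
  have ht₀ : t₀ ≠ 1 := fun e => ht (congrArg Subtype.val e)
  set y := MonoidHom.rangeRestrict (Subgroup.normalizerMonoidHom (S : Subgroup G)) x with hy
  have hyt : (y : MulAut (S : Subgroup G)) t₀ = t₀ := (hT.fix_iff_commute x t₀).mpr hxt
  have hχ : expChar F x ≠ 1 := by
    intro e
    have h1 := congrArg Subtype.val (F.ker_fix hA (g := y) e ht₀ hyt)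
    have hgr : g ^ r ∈ (S : Subgroup G) := hT.mem_of_sq (pow_mem hgN r) (by
      rw [← pow_add, show r + r = 2 * r by ring, hg2r])
    refine hg (mem_centralizer_iff.mpr fun s hs => ?_)
    have h2 : Commute (g ^ (r + 1)) s := by
      have := hT.commute_of_ρ (n := x) h1 s hs
      rwa [hx, SubmonoidClass.coe_pow] at this
    have h3 : Commute (g ^ r) s := commute_of_sq_one hT.exp_two hgr hs
    have h4 := (h3.inv_left.mul_left h2)
    rw [pow_succ, inv_mul_cancel_left] at h4
    exact h4.eq.symm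
  have hC := fun {n} (hn : Subgroup.normalizerMonoidHom (S : Subgroup G) n = 1) =>
    hT.mul_self_of_ρ hab hA F x hxr hχ (n := n) hn
  have hfixS : ∀ a ∈ (S : Subgroup G), Commute (x : G) a → a = 1 ∨ a = t := by
    intro a ha hc
    rcases eq_or_ne a 1 with e | e
    · exact Or.inl e
    · exact Or.inr (congrArg Subtype.val (F.fix_unique hA (x := y) hχ ht₀ hyt (v := ⟨a, ha⟩)
        (fun e' => e (congrArg Subtype.val e')) ((hT.fix_iff_commute x ⟨a, ha⟩).mpr hc)))
  set o := (QuotientGroup.mk 1 : G ⧸ normalizer ((S : Subgroup G) : Set G)) with ho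
  have hxo : (x : G) • o = o := hT.fix_base x.2
  -- a second fixed point
  obtain ⟨p, hxp, hp⟩ : ∃ p, (x : G) • p = p ∧ p ≠ o := by
    by_contra hno
    push Not at hno
    refine hT.hyp.prime.ne_one (Nat.dvd_one.mp ?_)
    have h1 := hT.dvd_card_fix hab hA F x hxr hχ
    rwa [show Nat.card {q : G ⧸ normalizer ((S : Subgroup G) : Set G) // (x : G) • q = q} = 1 from
      Nat.card_eq_one_iff_unique.mpr
        ⟨⟨fun a b => Subtype.ext ((hno _ a.2).trans (hno _ b.2).symm)⟩, ⟨⟨o, hxo⟩⟩⟩] at h1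
  have htp : t • p ≠ p := hT.no_two_fix htS ht hp
  have hto : t • p ≠ o := fun e => hp (by
    rw [← smul_left_cancel_iff t, e, hT.fix_base (le_normalizer htS)])
  have hxtp : (x : G) • t • p = t • p := by rw [smul_smul, hxt.eq, mul_smul, hxp]
  obtain ⟨τh, hτp, hτρ, hτq⟩ := hT.exists_lift hA F hp
  have hτfpf : ∀ a ∈ (S : Subgroup G), Commute (τh : G) a → a = 1 := fun a ha hc =>
    congrArg Subtype.val (F.τ_fpf hA ⟨a, ha⟩ (hτρ ▸ (hT.fix_iff_commute τh ⟨a, ha⟩).mpr hc))
  have hthree : ∀ q, (x : G) • q = q → q = o ∨ q = p ∨ q = t • p := by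
    intro q hxq
    by_cases hq : q = o
    · exact Or.inl hq
    right
    obtain ⟨τ', hτ'p, hτ'ρ, hτ'q⟩ := hT.exists_lift hA F hq
    -- the lifts differ by conjugation with an element of `S` commuting with `x`
    let f : ↥(S : Subgroup G) → ↥(S : Subgroup G) := fun a =>
      ⟨(a : G) * ((τh : G) * (a : G)⁻¹ * (τh : G)⁻¹),
        mul_mem a.2 ((mem_normalizer_iff.mp τh.2 _).mp (inv_mem a.2))⟩
    have hf : Function.Injective f := by
      intro a b h
      have h1 : (a : G) * ((τh : G) * (a : G)⁻¹ * (τh : G)⁻¹) =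
          (b : G) * ((τh : G) * (b : G)⁻¹ * (τh : G)⁻¹) := congrArg Subtype.val h
      refine Subtype.ext (inv_mul_eq_one.mp (hτfpf _ (mul_mem (inv_mem b.2) a.2) ?_)).symm
      show (τh : G) * ((b : G)⁻¹ * a) = (b : G)⁻¹ * a * τh
      calc (τh : G) * ((b : G)⁻¹ * a)
          = (b : G)⁻¹ * ((b : G) * ((τh : G) * (b : G)⁻¹ * (τh : G)⁻¹)) * τh * a := by group
        _ = (b : G)⁻¹ * a * τh := by rw [← h1]; group
    have hs : (τ' : G) * (τh : G)⁻¹ ∈ (S : Subgroup G) := hT.mem_of_sq (mul_mem τ'.2 (inv_mem τh.2))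
      (by simpa using hC (n := τ' * τh⁻¹) (by rw [map_mul, map_inv, hτ'ρ, hτρ, mul_inv_cancel]))
    obtain ⟨a, ha⟩ := (Finite.injective_iff_surjective.mp hf) ⟨_, hs⟩
    have ha' : (τ' : G) = (a : G) * τh * (a : G)⁻¹ := by
      have h1 : (a : G) * ((τh : G) * (a : G)⁻¹ * (τh : G)⁻¹) = τ' * (τh : G)⁻¹ :=
        congrArg Subtype.val ha
      calc (τ' : G) = τ' * (τh : G)⁻¹ * τh := by group
        _ = _ := by rw [← h1]; group
    set c := ((expChar F x : (ZMod F.q)ˣ) : ZMod F.q).val with hc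
    have hconj : ∀ (w : normalizer ((S : Subgroup G) : Set G)) (q' : G ⧸ normalizer ((S : Subgroup G) : Set G)),
        q' ≠ o → (w : G) • q' = q' → (x : G) • q' = q' →
        Subgroup.normalizerMonoidHom (S : Subgroup G) w = F.τ →
        (x : G) * w * (x : G)⁻¹ = (w : G) ^ c := by
      intro w q' hq' hw hx' hwρ
      have h1 : x * w * x⁻¹ = w ^ c := by
        refine hT.eq_of_fix hA F hq' ?_ ?_ ?_
        · simp only [Subgroup.coe_mul, InvMemClass.coe_inv, mul_smul]
          rw [inv_smul_eq_iff.mpr hx'.symm, hw, hx']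
        · rw [SubmonoidClass.coe_pow]; exact pow_mem (show (w : G) ∈ stabilizer G q' from hw) _
        · rw [map_mul, map_mul, map_inv, map_pow (Subgroup.normalizerMonoidHom (S : Subgroup G)) w c,
            hwρ]
          exact F.conj y
      simpa using congrArg Subtype.val h1
    have h1 := hconj τh p hp hτp hxp hτρ
    have h2 := hconj τ' q hq hτ'p hxq hτ'ρ
    rw [ha', conj_pow, ← h1] at h2
    -- so `a⁻¹ * a^x` commutes with a lift of `τ` conjugated by `x`
    have ha1 : (x : G)⁻¹ * (a : G)⁻¹ * x * a ∈ (S : Subgroup G) := by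
      refine mul_mem ?_ a.2
      have := (mem_normalizer_iff.mp (inv_mem x.2) _).mp (inv_mem a.2)
      simpa using this
    have h3 := hτfpf _ ha1 (by
      show (τh : G) * ((x : G)⁻¹ * (a : G)⁻¹ * x * a) = (x : G)⁻¹ * (a : G)⁻¹ * x * a * τh
      calc (τh : G) * ((x : G)⁻¹ * (a : G)⁻¹ * x * a)
          = (x : G)⁻¹ * (a : G)⁻¹ * ((a : G) * ((x : G) * τh * (x : G)⁻¹) * (a : G)⁻¹) * x * a := by
            group
        _ = (x : G)⁻¹ * (a : G)⁻¹ * x * a * τh := by rw [← h2]; group)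
    have hxa : Commute (x : G) (a : G) := by
      show (x : G) * a = a * x
      calc (x : G) * a = (a : G) * x * ((x : G)⁻¹ * (a : G)⁻¹ * x * a) := by group
        _ = a * x := by rw [h3, mul_one]
    rcases hfixS a a.2 hxa with e | e
    · left
      rw [e, one_mul, inv_one, mul_one] at ha'
      exact hT.eq_of_lift hA F hq hp x hxr hχ hxq hxp hτ'ρ hτ'q hτ'p (ha' ▸ hτp)
    · right
      refine hT.eq_of_lift hA F hq hto x hxr hχ hxq hxtp hτ'ρ hτ'q hτ'p ?_
      rw [ha', e, mul_smul, mul_smul, smul_smul t⁻¹ t, inv_mul_cancel, one_smul, hτp]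
  -- so `r = 3`
  have hr3 : r = 3 := by
    have hset : Nat.card {q : G ⧸ normalizer ((S : Subgroup G) : Set G) // (x : G) • q = q} = 3 := by
      have heq : {q : G ⧸ normalizer ((S : Subgroup G) : Set G) | (x : G) • q = q} = {o, p, t • p} := by
        ext q
        simp only [Set.mem_setOf_eq, Set.mem_insert_iff, Set.mem_singleton_iff]
        refine ⟨hthree q, ?_⟩
        rintro (rfl | rfl | rfl)
        · exact hxo
        · exact hxp
        · exact hxtp
      show Nat.card ↥{q : G ⧸ normalizer ((S : Subgroup G) : Set G) | (x : G) • q = q} = 3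
      rw [Nat.card_coe_set_eq, heq, Set.ncard_eq_three]
      exact ⟨o, p, t • p, Ne.symm hp, Ne.symm hto, Ne.symm htp, rfl⟩
    have h1 := hT.dvd_card_fix hab hA F x hxr hχ
    rw [hset] at h1
    exact (Nat.prime_dvd_prime_iff_eq hT.hyp.prime Nat.prime_three).mp h1
  -- the swap commuting with `x`
  obtain ⟨u, hu, huo, huc⟩ := hT.exists_comm_swap hA F hp x hxr hχ hxp
  have hut : u • t • p = t • p := by
    have hfix : (x : G) • u • t • p = u • t • p := by rw [smul_smul, ← huc.eq, mul_smul, hxtp]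
    rcases hthree _ hfix with e | e | e
    · exact absurd ((SEmb.smul_invol_eq_iff hu _ _).mp e) fun e' => htp (e'.symm.trans huo)
    · exact absurd (((SEmb.smul_invol_eq_iff hu _ _).mp e).symm.trans
        ((SEmb.smul_invol_eq_iff hu _ _).mp huo)) hto
    · exact e
  obtain ⟨α, hα, hrel⟩ := F.cube_relation hA hr3 (x := y) hχ ht₀ hyt
  obtain ⟨b, hbp, hbρ⟩ : ∃ b : normalizer ((S : Subgroup G) : Set G), (b : G) • p = p ∧
      Subgroup.normalizerMonoidHom (S : Subgroup G) b = α := by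
    rcases hα with rfl | rfl
    · exact ⟨τh, hτp, hτρ⟩
    · exact ⟨τh⁻¹, by rw [InvMemClass.coe_inv, inv_smul_eq_iff, hτp], by rw [map_inv, hτρ]⟩
  have hbχ : expChar F b = 1 := F.χ_τ hA (g := MonoidHom.rangeRestrict _ b) (by
    show Subgroup.normalizerMonoidHom (S : Subgroup G) b ∈ _
    rw [hbρ]
    rcases hα with rfl | rfl
    · exact Subgroup.mem_zpowers _
    · exact inv_mem (Subgroup.mem_zpowers _))
  have hinv := (hT.swap_inverts hA F hp hu huo).2 b hbp hbχ
  have hrel' : (b : G) ^ 3 * t * ((b : G) ^ 3)⁻¹ = t * ((b : G) * t * (b : G)⁻¹) := by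
    have h1 := congrArg Subtype.val hrel
    rw [← hbρ, ← map_pow, Subgroup.coe_mul, hT.ρ_apply, hT.ρ_apply, SubmonoidClass.coe_pow] at h1
    exact h1
  have hb7 : (b : G) ^ 7 = 1 := by
    have h7 : ((Subgroup.normalizerMonoidHom (S : Subgroup G) (b ^ 7))) t₀ = t₀ := by
      have step : ∀ v, (α ^ 3) (α v) = α ((α ^ 3) v) := fun v => by
        rw [← MulAut.mul_apply, ← MulAut.mul_apply, ← pow_succ, ← pow_succ']
      rw [map_pow, hbρ]
      have h3 : ∀ i, (α ^ (i + 3)) t₀ = (α ^ i) t₀ * (α ^ (i + 1)) t₀ := fun i => by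
        rw [pow_add, MulAut.mul_apply, hrel, map_mul, pow_succ, MulAut.mul_apply]
      rw [h3 4, h3 2, h3 1, h3 0]
      simp only [pow_zero, MulAut.one_apply, pow_one, zero_add]
      calc α t₀ * (α ^ 2) t₀ * ((α ^ 2) t₀ * (t₀ * α t₀))
          = t₀ * ((α t₀ * α t₀) * ((α ^ 2) t₀ * (α ^ 2) t₀)) := by ac_rfl
        _ = t₀ := by rw [hA.exp_two, hA.exp_two, one_mul, mul_one]
    have hk : F.χ (MonoidHom.rangeRestrict (Subgroup.normalizerMonoidHom (S : Subgroup G)) (b ^ 7)) = 1 := by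
      show expChar F (b ^ 7) = 1
      rw [map_pow, hbχ, one_pow]
    have h8 := congrArg Subtype.val (F.ker_fix hA hk ht₀ h7)
    have h9 := hT.eq_one_of_fix hA F (d := b ^ 7) hp (by
      rw [SubmonoidClass.coe_pow]; exact pow_mem (show (b : G) ∈ stabilizer G p from hbp) 7) h8
    rwa [SubmonoidClass.coe_pow] at h9
  exact hT.nine_points hr3 hp hu huo htS ht hut hbp hinv hb7 hrel'

end CfsgLib.TwoR
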