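import Cfsg.Agent.Lib.TwoR.Basic

/-!
# The endgame with nine points: an element of order divisible by nine

`u` swaps the base point with `u H`, fixes `t u H` and inverts `τ`; the conjugates of `t` under the
powers of `τ` behave like the powers of a primitive element of the field with eight elements.
-/

set_option autoImplicit false
set_option linter.style.haveILetI false

namespace CfsgLib.TwoR

open MulAction

variable {G : Type*} [Group G]

/-- The two cubic relations: an element of odd order, not killed by `3`, of an abelian group `C`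
acting on an elementary abelian `2`-group, normalised by `x` of order three with fixed points
`{1, t}`, satisfies one of the two irreducible cubics over the field with two elements. -/
theorem cubic_relation {S C : Subgroup G} (hexp : ∀ e ∈ S, e * e = 1)
    (hC : ∀ c ∈ C, ∀ d ∈ C, Commute c d) (hCS : ∀ c ∈ C, ∀ e ∈ S, c * e * c⁻¹ ∈ S)
    {t x τ : G} (ht : t ∈ S) (ht1 : t ≠ 1) (hreg : ∀ c ∈ C, c * t * c⁻¹ = t → c = 1)
    (hxC : ∀ c ∈ C, x * c * x⁻¹ ∈ C) (hx3 : x ^ 3 = 1) (hxt : Commute x t)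
    (hfix : ∀ e ∈ S, Commute x e → e = 1 ∨ e = t) (hτ : τ ∈ C) (hodd : Odd (orderOf τ))
    (hτ3 : τ ^ 3 ≠ 1) :
    τ ^ 3 * t * (τ ^ 3)⁻¹ = (τ * t * τ⁻¹) * t ∨
      τ ^ 3 * t * (τ ^ 3)⁻¹ = (τ ^ 2 * t * (τ ^ 2)⁻¹) * t := by
  have hcomm : ∀ {a b : G}, a ∈ S → b ∈ S → Commute a b := by
    intro a b ha hb
    have hab := hexp _ (S.mul_mem ha hb)
    rw [mul_eq_one_iff_eq_inv, mul_inv_rev, ← eq_inv_of_mul_eq_one_left (hexp a ha),
      ← eq_inv_of_mul_eq_one_left (hexp b hb)] at hab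
    exact hab
  -- the orbit `c₀, c₁, c₂` of `τ`
  set c₁ := x * τ * x⁻¹ with hc₁
  set c₂ := x * c₁ * x⁻¹ with hc₂
  have h₁ : c₁ ∈ C := hxC τ hτ
  have h₂ : c₂ ∈ C := hxC _ h₁
  have hc₀ : x * c₂ * x⁻¹ = τ := by
    rw [hc₂, hc₁]
    calc x * (x * (x * τ * x⁻¹) * x⁻¹) * x⁻¹ = x ^ 3 * τ * (x ^ 3)⁻¹ := by
          simp [pow_succ, mul_assoc]
      _ = τ := by rw [hx3]; simp
  let f : G → G := fun c => c * t * c⁻¹
  have hf : ∀ c ∈ C, f c ∈ S := fun c hc => hCS c hc t ht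
  have hxf : ∀ c, x * f c * x⁻¹ = f (x * c * x⁻¹) := fun c => by
    have e : x⁻¹ * t * x = t := by
      rw [mul_assoc, ← hxt.eq, inv_mul_cancel_left]
    calc x * f c * x⁻¹ = x * c * (x⁻¹ * (x * t * x⁻¹) * x) * c⁻¹ * x⁻¹ := by simp [f, mul_assoc]
      _ = x * c * (x⁻¹ * t * x) * c⁻¹ * x⁻¹ := by rw [hxt.eq, mul_inv_cancel_right]
      _ = f (x * c * x⁻¹) := by simp [f, mul_assoc]
  have hff : ∀ c d, c * f d * c⁻¹ = f (c * d) := fun c d => by simp [f, mul_assoc]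
  have hfs : ∀ {a b c : G}, a ∈ C → b ∈ C → c ∈ C → x * a * x⁻¹ = b → x * b * x⁻¹ = c →
      x * c * x⁻¹ = a → f a * f b * f c = 1 ∨ f a * f b * f c = t := by
    intro a b c ha hb hc e1 e2 e3
    refine hfix _ (mul_mem (mul_mem (hf a ha) (hf b hb)) (hf c hc)) ?_
    refine mul_inv_eq_iff_eq_mul.mp ?_
    calc x * (f a * f b * f c) * x⁻¹ = (x * f a * x⁻¹) * (x * f b * x⁻¹) * (x * f c * x⁻¹) := by
          simp [mul_assoc]
      _ = f b * f c * f a := by rw [hxf, hxf, hxf, e1, e2, e3]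
      _ = f a * f b * f c := by
          rw [(hcomm (mul_mem (hf b hb) (hf c hc)) (hf a ha)).eq]; simp [mul_assoc]
  -- the norm is one
  have hN : τ * c₁ * c₂ = 1 := by
    have hmem : τ * c₁ * c₂ ∈ C := mul_mem (mul_mem hτ h₁) h₂
    have hx : x * (τ * c₁ * c₂) * x⁻¹ = τ * c₁ * c₂ := by
      calc x * (τ * c₁ * c₂) * x⁻¹ = (x * τ * x⁻¹) * (x * c₁ * x⁻¹) * (x * c₂ * x⁻¹) := by
            simp [mul_assoc]
        _ = c₁ * c₂ * τ := by rw [← hc₁, ← hc₂, hc₀]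
        _ = τ * c₁ * c₂ := by rw [(hC _ (mul_mem h₁ h₂) τ hτ).eq]; simp [mul_assoc]
    rcases hfix _ (hf _ hmem) (mul_inv_eq_iff_eq_mul.mp (by rw [hxf, hx])) with e | e
    · exact absurd (conj_eq_one_iff.mp e) ht1
    · exact hreg _ hmem e
  -- the identity behind the cubic
  have hE1 := hfs hτ h₁ h₂ hc₁.symm hc₂.symm hc₀
  have hE2 := hfs (mul_mem hτ h₁) (mul_mem h₁ h₂) (mul_mem h₂ hτ)
    (by rw [conj_mul.symm, ← hc₁, ← hc₂]) (by rw [conj_mul.symm, ← hc₂, hc₀])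
    (by rw [conj_mul.symm, hc₀, ← hc₁])
  set E₁ := f τ * f c₁ * f c₂
  set E₂ := f (τ * c₁) * f (c₁ * c₂) * f (c₂ * τ)
  have key : f (τ ^ 3) * t = (τ ^ 2 * E₁ * (τ ^ 2)⁻¹) * (τ * E₂ * τ⁻¹) := by
    have e1 : τ ^ 2 * E₁ * (τ ^ 2)⁻¹ = f (τ ^ 3) * f (τ ^ 2 * c₁) * f (τ ^ 2 * c₂) := by
      rw [show τ ^ 2 * E₁ * (τ ^ 2)⁻¹ = (τ ^ 2 * f τ * (τ ^ 2)⁻¹) *
          (τ ^ 2 * f c₁ * (τ ^ 2)⁻¹) * (τ ^ 2 * f c₂ * (τ ^ 2)⁻¹) by simp [E₁, mul_assoc],
        hff, hff, hff, ← pow_succ]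
    have e2 : τ * E₂ * τ⁻¹ = f (τ ^ 2 * c₁) * t * f (τ ^ 2 * c₂) := by
      rw [show τ * E₂ * τ⁻¹ = (τ * f (τ * c₁) * τ⁻¹) * (τ * f (c₁ * c₂) * τ⁻¹) *
          (τ * f (c₂ * τ) * τ⁻¹) by simp [E₂, mul_assoc], hff, hff, hff, ← mul_assoc τ τ,
        ← pow_two, ← mul_assoc τ c₁, hN, (hC c₂ h₂ τ hτ).eq, ← mul_assoc τ τ, ← pow_two]
      simp [f]
    have m3 := hf _ (pow_mem hτ 3)
    have m1 := hf _ (mul_mem (pow_mem hτ 2) h₁)
    have m2 := hf _ (mul_mem (pow_mem hτ 2) h₂)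
    rw [e1, e2]
    symm
    calc f (τ ^ 3) * f (τ ^ 2 * c₁) * f (τ ^ 2 * c₂) * (f (τ ^ 2 * c₁) * t * f (τ ^ 2 * c₂))
        = f (τ ^ 3) * (f (τ ^ 2 * c₁) * (f (τ ^ 2 * c₂) * f (τ ^ 2 * c₁))) *
            (t * f (τ ^ 2 * c₂)) := by simp [mul_assoc]
      _ = f (τ ^ 3) * f (τ ^ 2 * c₂) * (t * f (τ ^ 2 * c₂)) := by
          rw [(hcomm m2 m1).eq, ← mul_assoc (f (τ ^ 2 * c₁)), hexp _ m1, one_mul]
      _ = f (τ ^ 3) * t := by
          rw [(hcomm ht m2).eq, ← mul_assoc, mul_assoc (f (τ ^ 3)), hexp _ m2, mul_one]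
  have hsolve : ∀ z : G, f (τ ^ 3) * t = z → τ ^ 3 * t * (τ ^ 3)⁻¹ = z * t := fun z hz => by
    rw [← hz, mul_assoc (f (τ ^ 3)), hexp t ht, mul_one]
  rcases hE1 with e1 | e1 <;> rcases hE2 with e2 | e2 <;> rw [e1, e2] at key
  · exfalso
    refine hτ3 (hreg _ (pow_mem hτ 3) ?_)
    rw [hsolve 1 (by rw [key]; simp), one_mul]
  · exact Or.inl (hsolve _ (by rw [key]; simp))
  · exact Or.inr (hsolve _ (by rw [key]; simp))
  · exfalso
    have e3 : f (τ ^ 3) = f (τ ^ 2) * f τ * t := hsolve _ key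
    have e4 : f (τ ^ 4) = t := by
      rw [pow_succ' τ 3, ← hff, e3]
      calc τ * (f (τ ^ 2) * f τ * t) * τ⁻¹
          = (τ * f (τ ^ 2) * τ⁻¹) * (τ * f τ * τ⁻¹) * f τ := by simp [f, mul_assoc]
        _ = f (τ ^ 3) * f (τ ^ 2) * f τ := by rw [hff, hff, ← pow_succ', ← pow_two]
        _ = t := by
            have m := mul_mem (hf _ (pow_mem hτ 2)) (hf τ hτ)
            rw [e3, (hcomm m ht).eq, mul_assoc t, mul_assoc t, mul_assoc (f (τ ^ 2) * f τ),
              hexp _ m, mul_one]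
    have h4 : orderOf τ ∣ 4 := orderOf_dvd_of_pow_eq_one (hreg _ (pow_mem hτ 4) e4)
    have h1 : orderOf τ = 1 := Nat.eq_one_of_dvd_coprimes
      ((Nat.coprime_two_right.mpr hodd).pow_right 2) dvd_rfl h4
    exact hτ3 (by rw [orderOf_eq_one_iff.mp h1, one_pow])

/-- The nine-cycle: `u` and a conjugate of `t` generate an element of order divisible by nine. -/
theorem false_of_nine_cycle (h : Hyp G 3) {H S : Subgroup G} (hSH : S ≤ H)
    (hexp : ∀ e ∈ S, e * e = 1) {t u τ : G} (ht : t ∈ S) (hτH : τ ∈ H)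
    (hτS : ∀ e ∈ S, τ * e * τ⁻¹ ∈ S) (hu : u ∉ H) (hu2 : u * u = 1) (huτ : u * τ * u = τ⁻¹)
    (hut : (t * u)⁻¹ * u * (t * u) ∈ H)
    (hrel : τ ^ 3 * t * (τ ^ 3)⁻¹ = (τ * t * τ⁻¹) * t) : False := by
  have hcomm : ∀ {a b : G}, a ∈ S → b ∈ S → Commute a b := by
    intro a b ha hb
    have hab := hexp _ (S.mul_mem ha hb)
    rw [mul_eq_one_iff_eq_inv, mul_inv_rev, ← eq_inv_of_mul_eq_one_left (hexp a ha),
      ← eq_inv_of_mul_eq_one_left (hexp b hb)] at hab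
    exact hab
  let e : ℕ → G := fun i => τ ^ i * t * (τ ^ i)⁻¹
  have e0 : e 0 = t := by simp [e]
  have esucc : ∀ i, e (i + 1) = τ * e i * τ⁻¹ := fun i => by simp [e, pow_succ', mul_assoc]
  have hmem : ∀ i, e i ∈ S := by
    intro i
    induction i with
    | zero => rw [e0]; exact ht
    | succ i ih => rw [esucc]; exact hτS _ ih
  have rec3 : ∀ i, e (i + 3) = e (i + 1) * e i := by
    intro i
    induction i with
    | zero =>
      rw [e0]
      show τ ^ 3 * t * (τ ^ 3)⁻¹ = τ ^ 1 * t * (τ ^ 1)⁻¹ * t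
      rw [pow_one]; exact hrel
    | succ i ih =>
      rw [show i + 1 + 3 = i + 3 + 1 by omega, esucc, ih, ← conj_mul, ← esucc, ← esucc]
  have sq : ∀ i, e i * e i = 1 := fun i => hexp _ (hmem i)
  have can : ∀ i (z : G), e i * (e i * z) = z := fun i z => by rw [← mul_assoc, sq, one_mul]
  have swap : ∀ i j (z : G), e i * (e j * z) = e j * (e i * z) := fun i j z => by
    rw [← mul_assoc, (hcomm (hmem i) (hmem j)).eq, mul_assoc]
  have e7 : e 7 = e 0 := by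
    have h3 : e 3 = e 1 * e 0 := rec3 0
    have h4 : e 4 = e 2 * e 1 := rec3 1
    have h5 : e 5 = e 3 * e 2 := rec3 2
    have h7 : e 7 = e 5 * e 4 := rec3 4
    rw [h7, h5, h4, h3]
    simp only [mul_assoc]
    rw [can, (hcomm (hmem 0) (hmem 1)).eq, can]
  have r12 : e 1 * e 2 = e 4 := by rw [rec3 1, (hcomm (hmem 2) (hmem 1)).eq]
  have r13 : e 1 * e 3 = e 0 := by rw [rec3 0, can]
  have r10 : e 1 * e 0 = e 3 := (rec3 0).symm
  have r14 : e 1 * e 4 = e 2 := by rw [← r12, can]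
  have r16 : e 1 * e 6 = e 5 := by
    rw [rec3 3, rec3 1, rec3 2, rec3 0, mul_assoc (e 2) (e 1), can, mul_assoc (e 1),
      (hcomm (hmem 0) (hmem 2)).eq]
  have r15 : e 1 * e 5 = e 6 := by rw [← r16, can]
  -- the action on cosets
  let o : G ⧸ H := QuotientGroup.mk 1
  let p : ℕ → G ⧸ H := fun i => e i • u • o
  have hfix : ∀ g ∈ H, g • o = o := fun g hg => by
    show g • (QuotientGroup.mk 1 : G ⧸ H) = _
    rw [← mem_stabilizer_iff, stabilizer_quotient]; exact hg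
  have hne : u • o ≠ o := fun he => hu (by
    rw [← stabilizer_quotient H]; exact he)
  have hpne : ∀ i, p i ≠ o := fun i he => hne (MulAction.injective (e i)
    (he.trans (hfix _ (hSH (hmem i))).symm))
  have hτp : ∀ n : ℕ, τ ^ n • u • o = u • o := fun n => by
    have hh : u⁻¹ * τ ^ n * u ∈ H := by
      have h1 : u⁻¹ * τ * u ∈ H := by
        rw [inv_eq_of_mul_eq_one_right hu2, huτ]; exact inv_mem hτH
      have := pow_mem h1 n
      rwa [show (u⁻¹ * τ * u) ^ n = u⁻¹ * τ ^ n * u by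
        simpa using conj_pow (i := n) (a := u⁻¹) (b := τ)] at this
    calc τ ^ n • u • o = u • (u⁻¹ * τ ^ n * u) • o := by simp [smul_smul, mul_assoc]
      _ = u • o := by rw [hfix _ hh]
  have hp : ∀ i, p i = τ ^ i • t • u • o := fun i => by
    show e i • u • o = _
    conv_lhs => rw [← hτp i]
    simp [e, smul_smul, mul_assoc]
  have hup : u • t • u • o = t • u • o := by
    calc u • t • u • o = (t * u) • ((t * u)⁻¹ * u * (t * u)) • o := by
          simp [smul_smul, mul_assoc]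
      _ = t • u • o := by rw [hfix _ hut, mul_smul]
  have hτ7 : ∀ i j, i + j = 7 → u • p i = p j := fun i j hij => by
    have ha : u * τ ^ i = (τ⁻¹) ^ i * u := by
      have hc := conj_pow (i := i) (a := u) (b := τ)
      rw [inv_eq_of_mul_eq_one_right hu2, huτ] at hc
      rw [hc, mul_assoc, hu2, mul_one]
    calc u • p i = (τ⁻¹) ^ i • u • t • u • o := by rw [hp, smul_smul, ha, mul_smul]
      _ = (τ⁻¹) ^ i • t • u • o := by rw [hup]
      _ = (τ⁻¹) ^ i • p 7 := by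
          rw [show p 7 = p 0 by show e 7 • u • o = e 0 • u • o; rw [e7], hp 0, pow_zero, one_smul]
      _ = p j := by rw [hp 7, hp j, ← hij, smul_smul, inv_pow, pow_add, inv_mul_cancel_left]
  have hu0 : u • p 0 = p 0 := by rw [hp, pow_zero, one_smul, hup]
  have he : ∀ i j, e 1 * e i = e j → e 1 • p i = p j := fun i j hij => by
    show e 1 • e i • u • o = e j • u • o
    rw [smul_smul, hij]
  set g := e 1 * u with hg
  have st : ∀ z : G ⧸ H, g • z = e 1 • u • z := fun z => mul_smul _ _ _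
  have s0 : g • o = p 1 := by rw [st]
  have s1 : g • p 1 = p 5 := by rw [st, hτ7 1 6 rfl, he 6 5 r16]
  have s5 : g • p 5 = p 4 := by rw [st, hτ7 5 2 rfl, he 2 4 r12]
  have s4 : g • p 4 = p 0 := by rw [st, hτ7 4 3 rfl, he 3 0 r13]
  have s00 : g • p 0 = p 3 := by rw [st, hu0, he 0 3 r10]
  have s3 : g • p 3 = p 2 := by rw [st, hτ7 3 4 rfl, he 4 2 r14]
  have s2 : g • p 2 = p 6 := by rw [st, hτ7 2 5 rfl, he 5 6 r15]
  have s6 : g • p 6 = u • o := by
    rw [st, hτ7 6 1 rfl]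
    show e 1 • e 1 • u • o = u • o
    rw [smul_smul, sq, one_smul]
  have s9 : g • u • o = o := by
    rw [st, smul_smul u u, hu2, one_smul, hfix _ (hSH (hmem 1))]
  have h3 : g ^ 3 • o ≠ o := by
    rw [show g ^ 3 • o = g • g • g • o by simp [pow_succ, mul_smul], s0, s1, s5]
    exact hpne 4
  have h9 : g ^ 9 • o = o := by
    rw [show g ^ 9 • o = g • g • g • g • g • g • g • g • g • o by simp [pow_succ, mul_smul],
      s0, s1, s5, s4, s00, s3, s2, s6, s9]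
  -- the period is nine
  have hper : Function.minimalPeriod (g • ·) o = 9 := by
    have hd : Function.minimalPeriod (g • ·) o ∣ 9 :=
      Function.IsPeriodicPt.minimalPeriod_dvd (by
        show (g • ·)^[9] o = o
        rw [smul_iterate]; exact h9)
    obtain ⟨j, hj, hje⟩ := (Nat.dvd_prime_pow Nat.prime_three).mp (show _ ∣ 3 ^ 2 from hd)
    by_contra hne9
    refine h3 ?_
    have hd3 : Function.minimalPeriod (g • ·) o ∣ 3 := by
      rw [hje] at hne9 ⊢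
      interval_cases j <;> simp_all
    have := (Function.isPeriodicPt_minimalPeriod (g • ·) o).trans_dvd hd3
    have h3' : (g • ·)^[3] o = o := this
    rwa [smul_iterate] at h3'
  have h9d : 9 ∣ orderOf g := by
    rw [← hper]
    refine Function.IsPeriodicPt.minimalPeriod_dvd ?_
    show (g • ·)^[orderOf g] o = o
    rw [smul_iterate]; simp [pow_orderOf_eq_one]
  rcases h.div g ((dvd_mul_right 3 3).trans h9d) with h' | h' <;> rw [h'] at h9d <;> norm_num at h9d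

/-- The endgame of the field case. -/
theorem false_of_eight_points (h : Hyp G 3) {H S C : Subgroup G} (hSH : S ≤ H) (hCH : C ≤ H)
    (hexp : ∀ e ∈ S, e * e = 1) (hC : ∀ c ∈ C, ∀ d ∈ C, Commute c d)
    (hCS : ∀ c ∈ C, ∀ e ∈ S, c * e * c⁻¹ ∈ S)
    {t x u τ : G} (ht : t ∈ S) (ht1 : t ≠ 1) (hreg : ∀ c ∈ C, c * t * c⁻¹ = t → c = 1)
    (hxC : ∀ c ∈ C, x * c * x⁻¹ ∈ C) (hx3 : x ^ 3 = 1) (hxt : Commute x t)
    (hfix : ∀ e ∈ S, Commute x e → e = 1 ∨ e = t) (hτ : τ ∈ C) (hodd : Odd (orderOf τ))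
    (hτ3 : τ ^ 3 ≠ 1) (hu : u ∉ H) (hu2 : u * u = 1) (huτ : u * τ * u = τ⁻¹)
    (hut : (t * u)⁻¹ * u * (t * u) ∈ H) : False := by
  rcases cubic_relation hexp hC hCS ht ht1 hreg hxC hx3 hxt hfix hτ hodd hτ3 with e | e
  · exact false_of_nine_cycle h hSH hexp ht (hCH hτ) (hCS τ hτ) hu hu2 huτ hut e
  · refine false_of_nine_cycle h hSH hexp (τ := τ⁻¹) ht (inv_mem (hCH hτ))
      (hCS _ (inv_mem hτ)) hu hu2 (by
        rw [inv_inv, ← huτ]
        simp only [mul_assoc]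
        rw [hu2, mul_one, ← mul_assoc, hu2, one_mul]) hut ?_
    have hshift := congrArg (fun z => (τ ^ 3)⁻¹ * z * τ ^ 3) e
    have h3 : t = (τ⁻¹ * t * τ) * ((τ⁻¹) ^ 3 * t * ((τ⁻¹) ^ 3)⁻¹) := by
      simpa [pow_succ, mul_assoc] using hshift
    have hm : τ⁻¹ * t * τ ∈ S := by simpa using hCS _ (inv_mem hτ) t ht
    calc (τ⁻¹) ^ 3 * t * ((τ⁻¹) ^ 3)⁻¹
        = (τ⁻¹ * t * τ) * ((τ⁻¹ * t * τ) * ((τ⁻¹) ^ 3 * t * ((τ⁻¹) ^ 3)⁻¹)) := by
          rw [← mul_assoc (τ⁻¹ * t * τ) (τ⁻¹ * t * τ), hexp _ hm, one_mul]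
      _ = τ⁻¹ * t * (τ⁻¹)⁻¹ * t := by rw [← h3, inv_inv]

/-- When `x` fixes only the three points, `u` fixes `t u H`. -/
theorem swap_fix_of_three {H : Subgroup G} {t x u : G} (hxH : x ∈ H) (hxu : Commute x u)
    (hxt : Commute x t) (hu : u ∉ H) (htH : t ∈ H) (hu2 : u * u = 1) (hut : u * t * u ∉ H)
    (hthree : ∀ g : G, g⁻¹ * x * g ∈ H → g ∈ H ∨ u⁻¹ * g ∈ H ∨ (t * u)⁻¹ * g ∈ H) :
    (t * u)⁻¹ * u * (t * u) ∈ H := by
  have hc : Commute x (u * t * u) := (hxu.mul_right hxt).mul_right hxu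
  rcases hthree (u * t * u) (by rw [mul_assoc, hc.eq, inv_mul_cancel_left]; exact hxH)
    with e | e | e
  · exact absurd e hut
  · exfalso
    rw [inv_eq_of_mul_eq_one_right hu2, ← mul_assoc, ← mul_assoc, hu2, one_mul] at e
    exact hu (by simpa using H.mul_mem (inv_mem htH) e)
  · simpa [mul_assoc] using e

end CfsgLib.TwoR
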