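import Cfsg.Agent.Lib.OddTransitive.Fitting
import Mathlib.GroupTheory.SpecificGroups.Cyclic
import Mathlib.RingTheory.IntegralDomain

/-!
# The automiser in the field case

An odd-order group acting transitively on the nonidentity elements of an elementary abelian
`2`-group, with nontrivial point stabilisers of exponent `r` and with all orders divisible by `r`
equal to `r`, is a regular normal subgroup of index `r` extended by a field automorphism.
-/

set_option autoImplicit false
set_option linter.style.haveILetI false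

namespace CfsgLib.TwoR

open Subgroup

/-- The data of the field case: `C` is regular, normal of index `r`. -/
structure XData {X E : Type*} [Group X] [Group E] (f : X →* MulAut E) (r k : ℕ) (C : Subgroup X) :
    Prop where
  normal : C.Normal
  mem_iff : ∀ x, x ∈ C ↔ x ^ k = 1
  card_C : Nat.card C = k
  card_X : Nat.card X = k * r
  cop : k.Coprime r
  semireg : ∀ c ∈ C, ∀ e, e ≠ 1 → f c e = e → c = 1
  trans : ∀ a b, a ≠ 1 → b ≠ 1 → ∃ c ∈ C, f c a = b
  outside : ∀ x ∉ C, x ^ r = 1 ∧ ∃ e, e ≠ 1 ∧ f x e = e ∧ ∀ e2, e2 ≠ 1 → f x e2 = e2 → e2 = e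
  cent : ∀ x ∉ C, ∀ c ∈ C, Commute x c → c = 1
  auto : ∀ (psi : X ≃* X) x, psi x * x⁻¹ ∈ C

variable {X E : Type*} [Group X] [Group E]

/-- The Fitting subgroup in the field case is cyclic, semiregular and has abelian quotient. -/
theorem fitting_of_transitive [Finite X] [Finite E] {f : X →* MulAut E}
    (hexp : ∀ e : E, e * e = 1) (h2 : 2 ≤ Nat.card E) (hinj : Function.Injective f)
    (hodd : Odd (Nat.card X))
    (htrans : ∀ a b : E, a ≠ 1 → b ≠ 1 → ∃ x, f x a = b) :
    IsCyclic (Cfsg.fittingSubgroup X) ∧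
      (∀ g ∈ Cfsg.fittingSubgroup X, ∀ e, e ≠ 1 → f g e = e → g = 1) ∧
      commutator X ≤ Cfsg.fittingSubgroup X := by
  let _ : CommGroup E :=
    { (inferInstance : Group E) with
      mul_comm := fun a b => by
        have hab := hexp (a * b)
        rw [mul_eq_one_iff_eq_inv, mul_inv_rev, ← eq_inv_of_mul_eq_one_left (hexp a),
          ← eq_inv_of_mul_eq_one_left (hexp b)] at hab
        exact hab }
  let _ : DistribMulAction X (Additive E) :=
    { smul := fun x e => Additive.ofMul (f x e.toMul)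
      one_smul := fun e => by
        show Additive.ofMul (f 1 e.toMul) = e
        simp
      mul_smul := fun x y e => by
        show Additive.ofMul (f (x * y) e.toMul) = Additive.ofMul (f x (f y e.toMul))
        simp
      smul_zero := fun x => by
        show Additive.ofMul (f x 1) = 0
        simp
      smul_add := fun x a b => by
        show Additive.ofMul (f x (a.toMul * b.toMul)) = _
        rw [map_mul]
        rfl }
  haveI : FaithfulSMul X (Additive E) :=
    ⟨fun {x y} hxy => hinj (MulEquiv.ext fun e => congrArg Additive.toMul (hxy (Additive.ofMul e)))⟩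
  haveI : Nontrivial (Additive E) := by
    rw [← Finite.one_lt_card_iff_nontrivial,
      Nat.card_congr (Additive.toMul : Additive E ≃ E)]
    omega
  haveI : Finite (Additive E) := inferInstanceAs (Finite E)
  obtain ⟨hc, hs, hd⟩ := OddTransitive.fitting_structure (D := X) (E := Additive E) hodd
    Nat.prime_two (fun e => by rw [two_nsmul]; exact congrArg Additive.ofMul (hexp e.toMul))
    (fun a b ha hb => by
      obtain ⟨x, hx⟩ := htrans a.toMul b.toMul ha hb
      exact ⟨x, congrArg Additive.ofMul hx⟩)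
  refine ⟨hc, fun g hg e he hfix => ?_, hd⟩
  by_contra hg1
  exact he (congrArg Additive.toMul (hs g hg hg1 (Additive.ofMul e) (congrArg Additive.ofMul hfix)))

variable [Finite X] [Finite E]

/-- In a finite cyclic group an element of the same prime order as `z` is a power of `z`. -/
theorem mem_zpowers_of_orderOf_prime {F : Type*} [Group F] [Finite F] [IsCyclic F] {z y : F}
    {q : ℕ} [Fact q.Prime] (hz : orderOf z = q) (hy : y ^ q = 1) : y ∈ zpowers z := by
  classical
  haveI := Fintype.ofFinite F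
  have hle : (Finset.univ.filter fun a : F => a ^ q = 1).card ≤ q :=
    IsCyclic.card_pow_eq_one_le (Fact.out : q.Prime).pos
  have hsub : (zpowers z : Set F).toFinset ⊆ Finset.univ.filter fun a : F => a ^ q = 1 := by
    intro a ha
    rw [Set.mem_toFinset, SetLike.mem_coe] at ha
    obtain ⟨i, rfl⟩ := mem_zpowers_iff.mp ha
    refine Finset.mem_filter.mpr ⟨Finset.mem_univ _, ?_⟩
    rw [← zpow_natCast, ← zpow_mul, mul_comm, zpow_mul, zpow_natCast, ← hz, pow_orderOf_eq_one,
      one_zpow]
  have hcard : (zpowers z : Set F).toFinset.card = q := by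
    rw [Set.toFinset_card, ← hz, ← Nat.card_zpowers, Nat.card_eq_fintype_card]
    rfl
  have heq := Finset.eq_of_subset_of_card_le hsub (by rw [hcard]; exact hle)
  have : y ∈ (zpowers z : Set F).toFinset := heq ▸ Finset.mem_filter.mpr ⟨Finset.mem_univ _, hy⟩
  simpa using this

/-- The structure of the automiser in the field case. -/
theorem exists_xdata {f : X →* MulAut E} {r : ℕ} (hexp : ∀ e : E, e * e = 1)
    (h2 : 2 ≤ Nat.card E) (hinj : Function.Injective f) (hodd : Odd (Nat.card X))
    (htrans : ∀ a b : E, a ≠ 1 → b ≠ 1 → ∃ x, f x a = b) (hr : r.Prime)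
    (hstab : ∀ x e, e ≠ 1 → f x e = e → x ^ r = 1) (hdiv : ∀ x : X, r ∣ orderOf x → x ^ r = 1)
    (hne : ∃ x e, x ≠ 1 ∧ e ≠ 1 ∧ f x e = e) :
    ∃ C, XData f r (Nat.card E - 1) C := by
  classical
  haveI := Fact.mk hr
  obtain ⟨hFc, hFs, hFd⟩ := fitting_of_transitive hexp h2 hinj hodd htrans
  set F := Cfsg.fittingSubgroup X with hF
  obtain ⟨x₁, e₁, hx₁, he₁, hfix₁⟩ := hne
  have hx₁r : x₁ ^ r = 1 := hstab x₁ e₁ he₁ hfix₁
  have hFcomm : ∀ a ∈ F, ∀ b ∈ F, Commute a b := fun a ha b hb => by
    obtain ⟨g, hg⟩ := IsCyclic.exists_generator (α := F)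
    obtain ⟨i, hi⟩ := mem_zpowers_iff.mp (hg ⟨a, ha⟩)
    obtain ⟨j, hj⟩ := mem_zpowers_iff.mp (hg ⟨b, hb⟩)
    have := ((Commute.refl g).zpow_zpow i j).map F.subtype
    rwa [hi, hj] at this
  -- `C(F) ≤ F`
  have hcentF : ∀ x, (∀ a ∈ F, Commute x a) → x ∈ F := by
    intro x hx
    let L := F ⊔ zpowers x
    have hFL : commutator X ≤ L := hFd.trans le_sup_left
    have hLn : L.Normal := ⟨fun a ha g => by
      have h1 : g * a * g⁻¹ * a⁻¹ ∈ L := hFL (commutator_mem_commutator (mem_top g) (mem_top a))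
      simpa using mul_mem h1 ha⟩
    have hLc : IsMulCommutative L := by
      refine le_centralizer_iff_isMulCommutative.mp (sup_le ?_ ?_)
      · intro a ha
        refine mem_centralizer_iff.mpr fun b hb => mem_centralizer_singleton_iff.mp
          (?_ : b ∈ centralizer ({a} : Set X))
        refine sup_le (fun c hc => ?_) (zpowers_le.mpr ?_) hb
        · exact mem_centralizer_singleton_iff.mpr (hFcomm c hc a ha).eq
        · exact mem_centralizer_singleton_iff.mpr (hx a ha).eq
      · refine zpowers_le.mpr (mem_centralizer_iff.mpr fun b hb => mem_centralizer_singleton_iff.mp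
          (?_ : b ∈ centralizer ({x} : Set X)))
        refine sup_le (fun c hc => ?_) (zpowers_le.mpr ?_) hb
        · exact mem_centralizer_singleton_iff.mpr (hx c hc).symm.eq
        · exact mem_centralizer_singleton_iff.mpr rfl
    haveI : Group.IsNilpotent L := by
      haveI := hLc
      let _ : CommGroup L := { (inferInstance : Group L) with mul_comm := hLc.is_comm.comm }
      exact CommGroup.isNilpotent
    exact Solvable.le_fittingSubgroup hLn inferInstance (mem_sup_right (mem_zpowers x))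
  -- `r` does not divide `|F|`
  have hx₁F : x₁ ∉ F := fun hmem => hx₁ (hFs x₁ hmem e₁ he₁ hfix₁)
  have hFn : F.Normal := Solvable.fittingSubgroup_normal X
  have hrF : ¬ r ∣ Nat.card F := by
    intro hd
    obtain ⟨w, hw⟩ := exists_prime_orderOf_dvd_card' r hd
    -- every element of `F` has exponent `r`
    have hall : ∀ a : F, a ^ r = 1 := by
      intro a
      obtain ⟨g, hg⟩ := IsCyclic.exists_generator (α := F)
      have hgr : g ^ r = 1 := Subtype.ext (hdiv (g : X) (by
        rw [orderOf_coe, orderOf_eq_card_of_forall_mem_zpowers hg]; exact hd))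
      obtain ⟨i, rfl⟩ := mem_zpowers_iff.mp (hg a)
      rw [← zpow_natCast, ← zpow_mul, mul_comm, zpow_mul, zpow_natCast, hgr, one_zpow]
    -- so `x₁` centralises `w`, hence `F`
    refine hx₁F (hcentF x₁ fun a ha => ?_)
    have haw : (⟨a, ha⟩ : F) ∈ zpowers w := mem_zpowers_of_orderOf_prime hw (hall _)
    suffices hc : Commute x₁ (w : X) by
      obtain ⟨i, hi⟩ := mem_zpowers_iff.mp haw
      have := hc.zpow_right i
      rwa [← Subgroup.coe_zpow, hi] at this
    have hmem : x₁ * (w : X) * x₁⁻¹ ∈ F := hFn.conj_mem _ w.2 x₁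
    obtain ⟨i, hi⟩ := mem_zpowers_iff.mp (mem_zpowers_of_orderOf_prime hw (hall ⟨_, hmem⟩))
    have hi' : x₁ * (w : X) * x₁⁻¹ = (w : X) ^ i :=
      (congrArg Subtype.val hi.symm).trans (Subgroup.coe_zpow F w i)
    have hiter : ∀ n : ℕ, x₁ ^ n * (w : X) * (x₁ ^ n)⁻¹ = (w : X) ^ (i ^ n) := by
      intro n
      induction n with
      | zero => simp
      | succ n ih =>
        calc x₁ ^ (n + 1) * (w : X) * (x₁ ^ (n + 1))⁻¹
            = x₁ * (x₁ ^ n * (w : X) * (x₁ ^ n)⁻¹) * x₁⁻¹ := by simp [pow_succ', mul_assoc]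
          _ = (x₁ * (w : X) * x₁⁻¹) ^ (i ^ n) := by rw [ih, conj_zpow]
          _ = (w : X) ^ (i ^ (n + 1)) := by rw [hi', ← zpow_mul, pow_succ']
    have hr' := hiter r
    rw [hx₁r, one_mul, inv_one, mul_one] at hr'
    have hwr : orderOf (w : X) = r := by rw [orderOf_coe, hw]
    have hd1 : (r : ℤ) ∣ i ^ r - 1 := by
      rw [← hwr, orderOf_dvd_iff_zpow_eq_one, zpow_sub, hwr, ← hr', zpow_one, mul_inv_cancel]
    have hd2 : (r : ℤ) ∣ i - 1 := by
      rw [← ZMod.intCast_zmod_eq_zero_iff_dvd] at hd1 ⊢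
      push_cast at hd1 ⊢
      rwa [ZMod.pow_card] at hd1
    refine mul_inv_eq_iff_eq_mul.mp (hi'.trans ?_)
    rw [← hwr, orderOf_dvd_iff_zpow_eq_one, zpow_sub, zpow_one, mul_inv_eq_one] at hd2
    exact hd2
  -- a prime `q` of `F`
  have hFne : Nat.card F ≠ 1 := fun h1 => hx₁F (hcentF x₁ fun a ha => by
    rw [Subgroup.card_eq_one.mp h1, mem_bot] at ha
    rw [ha]; exact Commute.one_right _)
  obtain ⟨q, hq, hqd⟩ := Nat.exists_prime_and_dvd hFne
  haveI := Fact.mk hq
  have hqr : q ≠ r := fun e => hrF (e ▸ hqd)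
  obtain ⟨z', hz'⟩ := exists_prime_orderOf_dvd_card' q hqd
  set z : X := (z' : X) with hzdef
  have hz : orderOf z = q := by rw [hzdef, orderOf_coe, hz']
  set T := zpowers z with hT
  have hmemT : ∀ a ∈ F, a ^ q = 1 → a ∈ T := fun a ha haq => by
    obtain ⟨i, hi⟩ := mem_zpowers_iff.mp
      (mem_zpowers_of_orderOf_prime hz' (y := ⟨a, ha⟩) (Subtype.ext haq))
    exact ⟨i, (Subgroup.coe_zpow F z' i).symm.trans (congrArg Subtype.val hi)⟩
  have hTn : T.Normal := ⟨fun a ha g => by
    obtain ⟨i, rfl⟩ := mem_zpowers_iff.mp ha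
    have h1 : g * z * g⁻¹ ∈ T := hmemT _ (hFn.conj_mem _ z'.2 g)
      (by rw [conj_pow, ← hz, pow_orderOf_eq_one, mul_one, mul_inv_cancel])
    rw [← conj_zpow]
    exact zpow_mem h1 i⟩
  set C := centralizer ({z} : Set X) with hC
  have hmemC : ∀ x, x ∈ C ↔ Commute x z := fun x => mem_centralizer_singleton_iff
  have hCn : C.Normal := ⟨fun c hc g => by
    rw [hmemC] at hc ⊢
    obtain ⟨i, hi⟩ := mem_zpowers_iff.mp (hTn.conj_mem _ (mem_zpowers z) g⁻¹)
    have h1 := (hc.zpow_right i).map (MulAut.conj g).toMonoidHom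
    rw [hi] at h1
    simpa [mul_assoc] using h1⟩
  -- elements outside `C` have order `r`
  have hnr : ∀ x ∈ C, ¬ r ∣ orderOf x := by
    intro x hx hd
    have hxr := hdiv x hd
    have hxo : orderOf x = r := by
      refine orderOf_eq_prime hxr fun e => ?_
      rw [e, orderOf_one] at hd
      exact hr.ne_one (Nat.dvd_one.mp hd)
    have hxz := ((hmemC x).mp hx).orderOf_mul_eq_mul_orderOf_of_coprime
      (by rw [hxo, hz]; exact (Nat.coprime_primes hr hq).mpr (Ne.symm hqr))
    rw [hxo, hz] at hxz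
    have h1 := orderOf_dvd_of_pow_eq_one (hdiv (x * z) (hxz ▸ dvd_mul_right r q))
    rw [hxz] at h1
    exact hqr ((Nat.prime_dvd_prime_iff_eq hq hr).mp ((dvd_mul_left q r).trans h1))
  have hx₁C : x₁ ∉ C := fun hmem => hnr x₁ hmem (by rw [orderOf_eq_prime hx₁r hx₁])
  haveI : T.Normal := hTn
  let φ : X →* MulAut T := MulAut.conjNormal
  have hφ : ∀ x, φ x = 1 ↔ x ∈ C := fun x => by
    rw [hmemC]
    refine ⟨fun e => ?_, fun hc => MulEquiv.ext fun ⟨a, ha⟩ => Subtype.ext ?_⟩
    · have h0 := DFunLike.congr_fun e (⟨z, mem_zpowers z⟩ : T)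
      exact mul_inv_eq_iff_eq_mul.mp (congrArg Subtype.val h0 : x * z * x⁻¹ = z)
    · obtain ⟨i, rfl⟩ := mem_zpowers_iff.mp ha
      show x * z ^ i * x⁻¹ = z ^ i
      rw [(hc.zpow_right i).eq, mul_inv_cancel_right]
  haveI : IsCyclic (MulAut T) :=
    (MulEquiv.isCyclic (IsCyclic.mulAutMulEquiv T)).mpr (by
      rw [show Nat.card T = q by rw [hT, Nat.card_zpowers, hz]]
      infer_instance)
  have hexpr : ∀ x, φ x ^ r = 1 := by
    intro x
    by_contra hne
    obtain ⟨s, hs, hsd⟩ := Nat.exists_prime_and_dvd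
      (fun e => hne (orderOf_eq_one_iff.mp e) : orderOf (φ x ^ r) ≠ 1)
    haveI := Fact.mk hs
    set y := x ^ (orderOf (φ x) / s) with hy
    have hsd' : s ∣ orderOf (φ x) := hsd.trans (orderOf_pow_dvd r)
    have hyo : orderOf (φ y) = s := by
      rw [hy, map_pow, orderOf_pow_of_dvd ((Nat.div_ne_zero_iff_of_dvd hsd').mpr
        ⟨(orderOf_pos _).ne', hs.ne_zero⟩) (Nat.div_dvd_of_dvd hsd'),
        Nat.div_div_self hsd' (orderOf_pos _).ne']
    have hsr : s ≠ r := by
      intro e
      by_cases hdx : r ∣ orderOf x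
      · exact hne (by rw [← map_pow, hdiv x hdx, map_one])
      · exact hdx ((e ▸ hsd' : r ∣ orderOf (φ x)).trans (orderOf_map_dvd φ x))
    have hx₁o : orderOf (φ x₁) = r :=
      orderOf_eq_prime (by rw [← map_pow, hx₁r, map_one]) fun e => hx₁C ((hφ x₁).mp e)
    have hc : Commute (φ x₁) (φ y) := by
      obtain ⟨g, hg⟩ := IsCyclic.exists_generator (α := MulAut T)
      obtain ⟨i, hi⟩ := mem_zpowers_iff.mp (hg (φ x₁))
      obtain ⟨j, hj⟩ := mem_zpowers_iff.mp (hg (φ y))
      rw [← hi, ← hj]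
      exact (Commute.refl g).zpow_zpow i j
    have ho : orderOf (φ (x₁ * y)) = r * s := by
      rw [map_mul, hc.orderOf_mul_eq_mul_orderOf_of_coprime, hx₁o, hyo]
      rw [hx₁o, hyo]
      exact (Nat.coprime_primes hr hs).mpr (Ne.symm hsr)
    have h1 := hdiv (x₁ * y) (((dvd_mul_right r s).trans ho.symm.dvd).trans (orderOf_map_dvd φ _))
    have h2 : orderOf (φ (x₁ * y)) ∣ r := orderOf_dvd_of_pow_eq_one (by rw [← map_pow, h1, map_one])
    rw [ho] at h2
    exact hsr ((Nat.prime_dvd_prime_iff_eq hs hr).mp ((dvd_mul_left s r).trans h2))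
  have hout : ∀ x ∉ C, x ^ r = 1 := fun x hx => hdiv x (by
    have e : orderOf (φ x) = r := orderOf_eq_prime (hexpr x) fun e => hx ((hφ x).mp e)
    exact e ▸ orderOf_map_dvd φ x)
  -- the index of `C`
  have hidx : Nat.card X = Nat.card C * r := by
    have hker : φ.ker = C := Subgroup.ext fun x => MonoidHom.mem_ker.trans (hφ x)
    have hcard : Nat.card φ.range = r := by
      haveI : IsCyclic φ.range := inferInstance
      have h1 : Nat.card φ.range ∣ r := by
        rw [← IsCyclic.exponent_eq_card]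
        refine Monoid.exponent_dvd_of_forall_pow_eq_one fun g => ?_
        obtain ⟨x, hx⟩ := g.2
        exact Subtype.ext (by rw [SubmonoidClass.coe_pow, ← hx, hexpr, coe_one])
      refine ((Nat.dvd_prime hr).mp h1).resolve_left fun e => ?_
      rw [Subgroup.card_eq_one, MonoidHom.range_eq_bot_iff] at e
      exact hx₁C ((hφ x₁).mp (by rw [e]; rfl))
    rw [← hcard, ← hker, card_eq_card_quotient_mul_card_subgroup φ.ker,
      Nat.card_congr (QuotientGroup.quotientKerEquivRange φ).toEquiv, mul_comm]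
  have hsemi : ∀ c ∈ C, ∀ e, e ≠ 1 → f c e = e → c = 1 := fun c hc e he hfix => by
    by_contra hne
    exact hnr c hc (by rw [orderOf_eq_prime (hstab c e he hfix) hne])
  have hcent : ∀ x ∉ C, ∀ c ∈ C, Commute x c → c = 1 := by
    intro x hx c hc hxc
    by_contra hne
    have hxo : orderOf x = r := orderOf_eq_prime (hout x hx) fun e => hx (e ▸ one_mem C)
    have hcop : (orderOf x).Coprime (orderOf c) := by
      rw [hxo]; exact hr.coprime_iff_not_dvd.mpr (hnr c hc)
    have ho := hxc.orderOf_mul_eq_mul_orderOf_of_coprime hcop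
    rw [hxo] at ho hcop
    have h1 := orderOf_dvd_of_pow_eq_one (hdiv (x * c) (ho ▸ dvd_mul_right r _))
    rw [ho] at h1
    exact hne (orderOf_eq_one_iff.mp
      (Nat.eq_one_of_dvd_coprimes hcop ((dvd_mul_left _ r).trans h1) dvd_rfl))
  -- regularity
  let _ : MulAction X E :=
    { smul := fun x e => f x e
      one_smul := fun e => by show f 1 e = e; simp
      mul_smul := fun x y e => by show f (x * y) e = f x (f y e); simp }
  have hk : Nat.card {e : E // e ≠ 1} = Nat.card E - 1 := by
    haveI := Fintype.ofFinite E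
    rw [Nat.card_eq_fintype_card, Nat.card_eq_fintype_card, Fintype.card_subtype_compl,
      Fintype.card_subtype_eq]
  have horb : ∀ e : E, e ≠ 1 → (MulAction.orbit X e : Set E) = {e | e ≠ 1} := by
    intro e he
    ext b
    refine ⟨?_, fun hb => htrans e b he hb⟩
    rintro ⟨x, rfl⟩ hb
    exact he ((f x).injective (hb.trans (map_one (f x)).symm))
  have hstabr : ∀ e : E, e ≠ 1 → Nat.card (MulAction.stabilizer X e) ≤ r := by
    intro e he
    have hle : Nat.card (MulAction.stabilizer X e) ≤ Nat.card (X ⧸ C) :=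
      Nat.card_le_card_of_injective (fun x => ((x : X) : X ⧸ C)) fun a b hab => by
        have hmem : (a : X)⁻¹ * b ∈ C := QuotientGroup.eq.mp hab
        have := hsemi _ hmem e he ((a⁻¹ * b : MulAction.stabilizer X e)).2
        exact Subtype.ext (inv_mul_eq_one.mp this)
    rw [card_eq_card_quotient_mul_card_subgroup C, mul_comm (Nat.card C)] at hidx
    rwa [Nat.eq_of_mul_eq_mul_right Nat.card_pos hidx] at hle
  have hkC : Nat.card C = Nat.card E - 1 := by
    have h1 := card_mul_index (MulAction.stabilizer X e₁)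
    rw [MulAction.index_stabilizer, horb e₁ he₁, ← Nat.card_coe_set_eq,
      show Nat.card ({e : E | e ≠ 1} : Set E) = Nat.card E - 1 from hk, hidx] at h1
    have hS : Nat.card (MulAction.stabilizer X e₁) = r := by
      refine le_antisymm (hstabr e₁ he₁) (Nat.le_of_dvd Nat.card_pos ?_)
      rw [← orderOf_eq_prime hx₁r hx₁]
      exact Subgroup.orderOf_dvd_natCard _ (show x₁ ∈ MulAction.stabilizer X e₁ from hfix₁)
    rw [hS, mul_comm] at h1
    exact (Nat.eq_of_mul_eq_mul_right hr.pos h1).symm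
  have hcop : (Nat.card C).Coprime r := by
    refine (hr.coprime_iff_not_dvd.mpr fun hd => ?_).symm
    obtain ⟨c, hc⟩ := exists_prime_orderOf_dvd_card' r hd
    exact hnr c c.2 (by rw [orderOf_coe, hc])
  have htransC : ∀ a b, a ≠ 1 → b ≠ 1 → ∃ c ∈ C, f c a = b := by
    intro a b ha hb
    let g : C → {e : E // e ≠ 1} := fun c =>
      ⟨f (c : X) a, fun e => ha ((f (c : X)).injective (e.trans (map_one _).symm))⟩
    have hg : Function.Injective g := fun c d hcd => by
      have e : f (c : X) a = f (d : X) a := congrArg Subtype.val hcd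
      have h1 : f ((d : X)⁻¹ * c) a = a := by
        rw [map_mul, MulAut.mul_apply, e, ← MulAut.mul_apply, ← map_mul, inv_mul_cancel, map_one,
          MulAut.one_apply]
      exact Subtype.ext (inv_mul_eq_one.mp (hsemi _ (mul_mem (inv_mem d.2) c.2) a ha h1)).symm
    obtain ⟨c, hc⟩ := (hg.bijective_of_nat_card_le (by rw [hk, hkC])).2 ⟨b, hb⟩
    exact ⟨c, c.2, congrArg Subtype.val hc⟩
  refine ⟨C, ?_⟩
  refine
    { normal := hCn, mem_iff := fun x => ⟨fun hx => ?_, fun hx => ?_⟩, card_C := hkC,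
      card_X := hkC ▸ hidx, cop := hkC ▸ hcop, semireg := hsemi, trans := htransC,
      outside := fun x hx => ⟨hout x hx, ?_⟩, cent := hcent, auto := fun ψ x => ?_ }
  · rw [← hkC]
    exact congrArg Subtype.val (pow_card_eq_one' (x := (⟨x, hx⟩ : C)))
  · by_contra hxC
    refine hxC ?_
    have h1 : orderOf x = 1 := Nat.eq_one_of_dvd_coprimes (hkC ▸ hcop)
      (orderOf_dvd_of_pow_eq_one hx) (orderOf_dvd_of_pow_eq_one (hout x hxC))
    rw [orderOf_eq_one_iff.mp h1]; exact one_mem C
  · -- a fixed point, unique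
    have hxne : x ≠ 1 := fun e => hx (e ▸ one_mem C)
    let _ : MulAction (zpowers x) {e : E // e ≠ 1} :=
      { smul := fun g e => ⟨f (g : X) e.1, fun h => e.2 ((f (g : X)).injective
          (h.trans (map_one _).symm))⟩
        one_smul := fun e => Subtype.ext (by show f 1 e.1 = e.1; simp)
        mul_smul := fun g g' e => Subtype.ext (by
          show f ((g : X) * g') e.1 = f g (f g' e.1); simp) }
    have hp : IsPGroup r (zpowers x) := IsPGroup.of_card (n := 1) (by
      rw [Nat.card_zpowers, orderOf_eq_prime (hout x hx) hxne, pow_one])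
    have hnd : ¬ r ∣ Nat.card {e : E // e ≠ 1} := by
      rw [hk, ← hkC]
      exact hr.coprime_iff_not_dvd.mp hcop.symm
    obtain ⟨⟨e, he⟩, hfe⟩ := hp.nonempty_fixed_point_of_prime_not_dvd_card _ hnd
    have hxe : f x e = e := congrArg Subtype.val (hfe ⟨x, mem_zpowers x⟩)
    refine ⟨e, he, hxe, fun e2 he2 hx2 => ?_⟩
    obtain ⟨c, hc, hce⟩ := htransC e e2 he he2
    set d := x * c * x⁻¹ with hd
    have hdC : d ∈ C := hCn.conj_mem c hc x
    have hde : f d e = e2 := by
      have h1 : f x⁻¹ e = e := by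
        conv_lhs => rw [← hxe]
        rw [← MulAut.mul_apply, ← map_mul, inv_mul_cancel, map_one, MulAut.one_apply]
      rw [hd, map_mul, map_mul, MulAut.mul_apply, MulAut.mul_apply, h1, hce, hx2]
    have hcd : c⁻¹ * d = 1 := hsemi _ (mul_mem (inv_mem hc) hdC) e he (by
      rw [map_mul, MulAut.mul_apply, hde, ← hce, ← MulAut.mul_apply, ← map_mul, inv_mul_cancel,
        map_one, MulAut.one_apply])
    have hc1 : c = 1 := hcent x hx c hc (by
      rw [inv_mul_eq_one] at hcd
      exact mul_inv_eq_iff_eq_mul.mp hcd.symm)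
    rw [← hce, hc1, map_one, MulAut.one_apply]
  · -- automorphisms act trivially on `X/C`
    haveI := Solvable.fittingSubgroup_characteristic X
    have hψF : ψ z ∈ F := by
      rw [← characteristic_iff_map_eq.mp (inferInstance : F.Characteristic) ψ]
      exact mem_map_of_mem ψ.toMonoidHom z'.2
    obtain ⟨i, hi⟩ := mem_zpowers_iff.mp (hmemT _ hψF
      (by rw [← map_pow, ← hz, pow_orderOf_eq_one, map_one]))
    obtain ⟨j, hj⟩ := mem_zpowers_iff.mp (hTn.conj_mem _ (mem_zpowers z) x)
    have hone : ψ x * z ^ i * (ψ x)⁻¹ = x * z ^ i * x⁻¹ := by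
      calc ψ x * z ^ i * (ψ x)⁻¹ = ψ (x * z * x⁻¹) := by rw [map_mul, map_mul, map_inv, hi]
        _ = (z ^ j) ^ i := by rw [← hj, map_zpow, ← hi, ← zpow_mul, ← zpow_mul, mul_comm]
        _ = x * z ^ i * x⁻¹ := by rw [hj, conj_zpow]
    have hzi : orderOf (z ^ i) = q := by
      refine orderOf_eq_prime ?_ fun e => ?_
      · rw [← zpow_natCast, ← zpow_mul, mul_comm, zpow_mul, zpow_natCast, ← hz,
          pow_orderOf_eq_one, one_zpow]
      · rw [hi] at e
        rw [(map_eq_one_iff ψ ψ.injective).mp e, orderOf_one] at hz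
        exact hq.ne_one hz.symm
    have heq : zpowers (z ^ i) = T := Subgroup.eq_of_le_of_card_ge
      (zpowers_le.mpr (zpow_mem (mem_zpowers z) i))
      (by rw [Nat.card_zpowers, Nat.card_zpowers, hzi, hz])
    obtain ⟨l, hl⟩ := mem_zpowers_iff.mp (heq ▸ mem_zpowers z : z ∈ zpowers (z ^ i))
    have hcomm : Commute (x⁻¹ * ψ x) (z ^ i) := by
      refine mul_inv_eq_iff_eq_mul.mp ?_
      calc x⁻¹ * ψ x * z ^ i * (x⁻¹ * ψ x)⁻¹ = x⁻¹ * (ψ x * z ^ i * (ψ x)⁻¹) * x := by
            simp [mul_assoc]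
        _ = z ^ i := by rw [hone]; simp [mul_assoc]
    have hmem : x⁻¹ * ψ x ∈ C := (hmemC _).mpr (hl ▸ hcomm.zpow_right l)
    have := hCn.conj_mem _ hmem x
    rwa [← mul_assoc x, mul_inv_cancel, one_mul] at this

end CfsgLib.TwoR
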