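import Cfsg.Agent.Lib.TwoR.Basic
import Cfsg.Agent.S0508
import Mathlib.GroupTheory.SpecificGroups.KleinFour
import Mathlib.GroupTheory.SpecificGroups.Dihedral

/-!
# Sylow 2-subgroups of order four

If every even element order is `2` or `2r` and a Sylow 2-subgroup is a four-group, then either it
contains the centralisers of its involutions up to its normaliser, or the group is `PSL(2,q)`.
-/

set_option autoImplicit false
set_option linter.style.haveILetI false
set_option linter.unusedSectionVars false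

open Subgroup
open scoped Pointwise
open CfsgLib.Balance (coreP coreP_le le_coreP coreP_coprime le_normalizer_coreP
  normalizer_le_normalizer_coreP)

namespace CfsgLib.TwoR.Four

variable {G : Type*} [Group G] [Finite G]

theorem commute_of_coprime_pow {a b : ℕ} (hab : Nat.Coprime a b) {g e : G}
    (ha : Commute (g ^ a) e) (hb : Commute (g ^ b) e) : Commute g e := by
  have h := ((ha.zpow_left (Nat.gcdA a b)).mul_left (hb.zpow_left (Nat.gcdB a b)))
  rwa [← zpow_natCast g a, ← zpow_natCast g b, ← zpow_mul, ← zpow_mul, ← zpow_add,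
    ← Nat.gcd_eq_gcd_ab, Nat.coprime_iff_gcd_eq_one.mp hab, Nat.cast_one, zpow_one] at h

theorem core_odd (K : Subgroup G) : Odd (Nat.card (coreP 2 K)) :=
  Nat.coprime_two_right.mp (coreP_coprime 2 K)

theorem odd_of_mem {K : Subgroup G} (hK : Odd (Nat.card K)) {g : G} (hg : g ∈ K) :
    Odd (orderOf g) :=
  hK.of_dvd_nat (Subgroup.orderOf_dvd_natCard K hg)

theorem eq_one_of_sq {g : G} (ho : Odd (orderOf g)) (hg : g * g = 1) : g = 1 := by
  obtain ⟨m, hm⟩ := exists_pow_eq_self_of_coprime (x := g) (n := 2)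
    (Nat.coprime_two_left.mpr ho)
  rw [← hm, pow_two, hg, one_pow]

/-- Burnside's transfer, in the form of an equation for the core. -/
theorem core_mul (K : Subgroup G) (T : Sylow 2 K)
    (hN : normalizer (T : Set K) ≤ centralizer (T : Set K)) :
    ∀ g ∈ K, ∃ v ∈ (T : Subgroup K).map K.subtype, g * v⁻¹ ∈ coreP 2 K := by
  haveI := Fact.mk Nat.prime_two
  intro g hg
  set N := (MonoidHom.transferSylow T hN).ker with hNdef
  have hle : N ≤ Cfsg.pPrimeCore 2 K := le_sSup ⟨inferInstance,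
    ((Nat.Prime.coprime_iff_not_dvd Nat.prime_two).mpr
      (MonoidHom.not_dvd_card_ker_transferSylow T hN)).symm⟩
  obtain ⟨⟨⟨n, hn⟩, ⟨v, hv⟩⟩, hnv, -⟩ := Subgroup.isComplement_iff_existsUnique.mp
    (MonoidHom.ker_transferSylow_isComplement' T hN) ⟨g, hg⟩
  refine ⟨v, mem_map_of_mem _ hv, n, hle hn, ?_⟩
  have := congrArg (Subtype.val) hnv
  simp only [Subgroup.coe_mul] at this
  rw [coe_subtype, ← this]
  group

/-- In a group `core · W` with `W` of exponent two the elements of odd order lie in the core. -/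
theorem mem_core_of_odd {K W : Subgroup G} (hW : W ≤ K) (hW2 : ∀ v ∈ W, v * v = 1)
    (hd : ∀ g ∈ K, ∃ v ∈ W, g * v⁻¹ ∈ coreP 2 K) {g : G} (hg : g ∈ K) (ho : Odd (orderOf g)) :
    g ∈ coreP 2 K := by
  obtain ⟨v, hv, hgv⟩ := hd g hg
  obtain ⟨m, hm⟩ := exists_pow_eq_self_of_coprime (x := g) (n := 2)
    (Nat.coprime_two_left.mpr ho)
  rw [← hm]
  refine pow_mem ?_ m
  have h1 : v * (g * v⁻¹) * v⁻¹ ∈ coreP 2 K :=
    (mem_normalizer_iff.mp (le_normalizer_coreP 2 K (hW hv)) _).mp hgv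
  have e : g ^ 2 = (g * v⁻¹) * (v * (g * v⁻¹) * v⁻¹) * (v * v) := by rw [pow_two]; group
  rw [e, hW2 v hv, mul_one]
  exact mul_mem hgv h1

/-- An involution acting fixed-point-freely on a group of odd order inverts it. -/
theorem inverts_of_fpf {P : Subgroup G} {t : G} (ht : t * t = 1)
    (htP : t ∈ normalizer (P : Set G)) (hfpf : ∀ x ∈ P, Commute x t → x = 1) :
    ∀ x ∈ P, t * x * t⁻¹ = x⁻¹ := by
  intro x hx
  have hti : t⁻¹ = t := inv_eq_of_mul_eq_one_right ht
  let f : P → P := fun w => ⟨(w : G)⁻¹ * (t * w * t⁻¹),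
    mul_mem (inv_mem w.2) ((mem_normalizer_iff.mp htP _).mp w.2)⟩
  have hinj : Function.Injective f := by
    intro u w huw
    have h1 : (u : G)⁻¹ * (t * u * t⁻¹) = (w : G)⁻¹ * (t * w * t⁻¹) := congrArg Subtype.val huw
    have h2 : Commute ((w : G) * (u : G)⁻¹) t := by
      show (w : G) * (u : G)⁻¹ * t = t * ((w : G) * (u : G)⁻¹)
      calc (w : G) * (u : G)⁻¹ * t
          = (w : G) * ((u : G)⁻¹ * (t * u * t⁻¹)) * (t * (u : G)⁻¹) := by
            simp [mul_assoc, ht]
        _ = t * ((w : G) * (u : G)⁻¹) := by rw [h1]; group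
    exact (Subtype.ext (mul_inv_eq_one.mp (hfpf _ (mul_mem w.2 (inv_mem u.2)) h2))).symm
  obtain ⟨w, hw⟩ := (Finite.injective_iff_surjective.mp hinj) ⟨x, hx⟩
  have hw' : (w : G)⁻¹ * (t * w * t⁻¹) = x := congrArg Subtype.val hw
  rw [← hw', hti]
  calc t * ((w : G)⁻¹ * (t * w * t)) * t = (t * (w : G)⁻¹ * t) * w * (t * t) := by group
    _ = ((w : G)⁻¹ * (t * w * t))⁻¹ := by
      rw [ht, mul_one, mul_inv_rev, mul_inv_rev, mul_inv_rev, hti, inv_inv, mul_assoc t]

theorem lt_inf_normalizer {r : ℕ} [Fact r.Prime] {P D : Subgroup G} (hP : IsPGroup r P)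
    (hlt : D < P) : D < P ⊓ normalizer (D : Set G) := by
  refine lt_of_le_of_ne (le_inf hlt.le le_normalizer) fun he => ?_
  haveI : Group.IsNilpotent P := hP.isNilpotent
  have h1 : D.subgroupOf P < ⊤ := by
    rw [lt_top_iff_ne_top, Ne, subgroupOf_eq_top]
    exact hlt.not_ge
  obtain ⟨x, hx, hxD⟩ := SetLike.exists_of_lt
    (Group.normalizerCondition_of_isNilpotent (D.subgroupOf P) h1)
  refine hxD ?_
  rw [mem_subgroupOf, he]
  refine ⟨x.2, ?_⟩
  rw [← map_subgroupOf_eq_of_le hlt.le]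
  exact le_normalizer_map P.subtype ⟨x, hx, rfl⟩

/-- The hypotheses of this file. -/
structure Ctx (G : Type*) [Group G] (r : ℕ) (S : Sylow 2 G) : Prop where
  hyp : Hyp G r
  exp_two : ∀ e ∈ (S : Subgroup G), e * e = 1
  card_four : Nat.card (S : Subgroup G) = 4

namespace Ctx

variable {r : ℕ} {S : Sylow 2 G} (c : Ctx G r S)
include c

theorem comm_mem {a b : G} (ha : a ∈ (S : Subgroup G)) (hb : b ∈ (S : Subgroup G)) :
    Commute a b := by
  have h1 := c.exp_two _ (mul_mem ha hb)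
  calc a * b = (a * b)⁻¹ := (inv_eq_of_mul_eq_one_right h1).symm
    _ = b * a := by
      rw [mul_inv_rev, inv_eq_of_mul_eq_one_right (c.exp_two a ha),
        inv_eq_of_mul_eq_one_right (c.exp_two b hb)]

theorem le_centralizer_self : (S : Subgroup G) ≤ centralizer ((S : Subgroup G) : Set G) :=
  fun _ hg => mem_centralizer_iff.mpr fun _ hy => c.comm_mem hy hg

theorem le_centralizer_invol {t : G} (ht : t ∈ (S : Subgroup G)) :
    (S : Subgroup G) ≤ centralizer ({t} : Set G) :=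
  fun _ hg => mem_centralizer_singleton_iff.mpr (c.comm_mem hg ht).eq

theorem orderOf_eq_two {t : G} (ht : t ∈ (S : Subgroup G)) (ht1 : t ≠ 1) : orderOf t = 2 :=
  CfsgLib.Invol.orderOf_eq_two ht1 (c.exp_two t ht)

theorem four_elems {u v : G} (hu : u ∈ (S : Subgroup G)) (hv : v ∈ (S : Subgroup G)) (hu1 : u ≠ 1)
    (hv1 : v ≠ 1) (huv : u ≠ v) :
    ∀ e ∈ (S : Subgroup G), e = 1 ∨ e = u ∨ e = v ∨ e = u * v := by
  intro e he
  let f : Fin 4 → (S : Subgroup G) := ![1, ⟨u, hu⟩, ⟨v, hv⟩, ⟨u * v, mul_mem hu hv⟩]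
  have h3 : u * v ≠ 1 := fun hh => huv (by
    rw [← inv_eq_of_mul_eq_one_right hh, inv_eq_of_mul_eq_one_right (c.exp_two u hu)])
  have hinj : Function.Injective f := by
    intro i j hij
    have hij' := congrArg Subtype.val hij
    fin_cases i <;> fin_cases j <;>
      simp [f, huv, huv.symm, h3, h3.symm, hu1, hu1.symm, hv1, hv1.symm] at hij' ⊢
  have hbij : Function.Bijective f :=
    hinj.bijective_of_nat_card_le (by rw [c.card_four, Nat.card_fin])
  obtain ⟨i, hi⟩ := hbij.2 ⟨e, he⟩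
  have hi' := congrArg Subtype.val hi
  fin_cases i <;> simp [f] at hi' <;> simp [← hi']

theorem exists_ne (t : G) : ∃ u ∈ (S : Subgroup G), u ≠ 1 ∧ u ≠ t := by
  by_contra hh
  push Not at hh
  classical
  let f : ↥(S : Subgroup G) → Bool := fun e => decide ((e : G) = 1)
  have hinj : Function.Injective f := by
    intro a b hab
    by_cases ha : (a : G) = 1
    · by_cases hb : (b : G) = 1
      · exact Subtype.ext (ha.trans hb.symm)
      · rw [show f a = true from decide_eq_true ha, show f b = false from decide_eq_false hb] at hab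
        cases hab
    · by_cases hb : (b : G) = 1
      · rw [show f a = false from decide_eq_false ha, show f b = true from decide_eq_true hb] at hab
        cases hab
      · exact Subtype.ext ((hh a a.2 ha).trans (hh b b.2 hb).symm)
  have := Nat.card_le_card_of_injective f hinj
  rw [c.card_four, Nat.card_eq_fintype_card, Fintype.card_bool] at this
  omega

theorem conj_mem {g : G} (hg : g ∈ normalizer ((S : Subgroup G) : Set G)) {e : G}
    (he : e ∈ (S : Subgroup G)) : g * e * g⁻¹ ∈ (S : Subgroup G) :=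
  (mem_normalizer_iff.mp hg e).mp he

/-- An element of the normaliser outside the centraliser yields a fixed-point-free element of
order three. -/
theorem exists_three {g : G} (hg : g ∈ normalizer ((S : Subgroup G) : Set G))
    (hgC : g ∉ centralizer ((S : Subgroup G) : Set G)) :
    ∃ y ∈ zpowers g, orderOf y = 3 ∧ y ∈ normalizer ((S : Subgroup G) : Set G) ∧
      ∀ e ∈ (S : Subgroup G), Commute y e → e = 1 := by
  haveI := Fact.mk Nat.prime_two
  obtain ⟨k, m, hm, hn⟩ := Nat.exists_eq_two_pow_mul_odd (orderOf_pos g).ne'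
  have haS : g ^ m ∈ (S : Subgroup G) := by
    have hz : IsPGroup 2 (zpowers (g ^ m)) := by
      intro x
      obtain ⟨i, hi⟩ := mem_zpowers_iff.mp x.2
      refine ⟨k, Subtype.ext ?_⟩
      rw [SubmonoidClass.coe_pow, Subgroup.coe_one, ← hi, ← zpow_natCast, ← zpow_mul, mul_comm,
        zpow_mul, zpow_natCast, ← pow_mul, mul_comm m, ← hn, pow_orderOf_eq_one, one_zpow]
    have hle : zpowers (g ^ m) ≤ normalizer ((S : Subgroup G) : Set G) :=
      zpowers_le.mpr (pow_mem hg m)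
    have := S.3 (S.2.to_sup_of_normal_left' hz hle) le_sup_left
    rw [← this]
    exact mem_sup_right (mem_zpowers _)
  set b := g ^ 2 ^ k with hb
  have hbN : b ∈ normalizer ((S : Subgroup G) : Set G) := pow_mem hg _
  have hbo : Odd (orderOf b) := by
    rw [hb, orderOf_pow_of_dvd (pow_ne_zero _ two_ne_zero) (hn ▸ dvd_mul_right _ _), hn,
      Nat.mul_div_cancel_left _ (Nat.two_pow_pos k)]
    exact hm
  have hbC : ¬ ∀ e ∈ (S : Subgroup G), Commute b e := fun hh => hgC <|
    mem_centralizer_iff.mpr fun e he => (commute_of_coprime_pow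
      ((Nat.coprime_two_left.mpr hm).pow_left k) (hh e he) (c.comm_mem haS he)).eq.symm
  have hfpf : ∀ t ∈ (S : Subgroup G), Commute b t → t = 1 := by
    intro t ht hbt
    by_contra ht1
    obtain ⟨u, hu, hu1, hut⟩ := c.exists_ne t
    have hcase := c.four_elems ht hu ht1 hu1 (Ne.symm hut) _ (c.conj_mem hbN hu)
    have hb2 : Commute (b ^ 2) u := by
      rcases hcase with e | e | e | e
      · exact absurd (conj_eq_one_iff.mp e) hu1
      · refine absurd ?_ hut
        have : b * u * b⁻¹ = b * t * b⁻¹ := by rw [e, hbt.eq, mul_inv_cancel_right]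
        simpa using this
      · have hh : Commute b u := mul_inv_eq_iff_eq_mul.mp e
        exact hh.pow_left 2
      · refine mul_inv_eq_iff_eq_mul.mp ?_
        calc b ^ 2 * u * (b ^ 2)⁻¹ = b * (b * u * b⁻¹) * b⁻¹ := by rw [pow_two]; group
          _ = (b * t * b⁻¹) * (b * u * b⁻¹) := by
            conv_lhs => rw [e]
            group
          _ = u := by
            rw [e, hbt.eq, mul_inv_cancel_right, ← mul_assoc, c.exp_two t ht, one_mul]
    obtain ⟨i, hi⟩ := exists_pow_eq_self_of_coprime (x := b) (n := 2)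
      (Nat.coprime_two_left.mpr hbo)
    have hbu : Commute b u := hi ▸ hb2.pow_left i
    refine hbC fun e he => ?_
    rcases c.four_elems ht hu ht1 hu1 (Ne.symm hut) e he with rfl | rfl | rfl | rfl
    · exact Commute.one_right b
    · exact hbt
    · exact hbu
    · exact hbt.mul_right hbu
  have hb3 : ∀ t ∈ (S : Subgroup G), Commute (b ^ 3) t := by
    intro t ht
    by_cases ht1 : t = 1
    · rw [ht1]; exact Commute.one_right _
    set t1 := b * t * b⁻¹ with ht1def
    have ht1S : t1 ∈ (S : Subgroup G) := c.conj_mem hbN ht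
    have hne1 : t1 ≠ 1 := fun hh => ht1 (conj_eq_one_iff.mp hh)
    have hne : t ≠ t1 := fun hh => ht1 (hfpf t ht (mul_inv_eq_iff_eq_mul.mp hh.symm))
    rcases c.four_elems ht ht1S ht1 hne1 hne _ (c.conj_mem hbN ht1S) with e | e | e | e
    · exact absurd (conj_eq_one_iff.mp e) hne1
    · refine absurd (hfpf t ht ?_) ht1
      obtain ⟨i, hi⟩ := exists_pow_eq_self_of_coprime (x := b) (n := 2)
        (Nat.coprime_two_left.mpr hbo)
      have h2 : Commute (b ^ 2) t := by
        refine mul_inv_eq_iff_eq_mul.mp ?_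
        calc b ^ 2 * t * (b ^ 2)⁻¹ = b * t1 * b⁻¹ := by rw [ht1def, pow_two]; group
          _ = t := e
      exact hi ▸ h2.pow_left i
    · exact absurd (hfpf t1 ht1S (mul_inv_eq_iff_eq_mul.mp e)) hne1
    · refine mul_inv_eq_iff_eq_mul.mp ?_
      calc b ^ 3 * t * (b ^ 3)⁻¹ = b * (b * t1 * b⁻¹) * b⁻¹ := by rw [ht1def, pow_three]; group
        _ = t1 * (b * t1 * b⁻¹) := by
          conv_lhs => rw [e]
          rw [ht1def]; group
        _ = t := by
          rw [e, ← mul_assoc, (c.comm_mem ht1S ht).eq, mul_assoc, c.exp_two t1 ht1S, mul_one]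
  obtain ⟨t, ht, ht1, -⟩ := c.exists_ne 1
  have h3r : (b ^ 3) ^ r = 1 :=
    c.hyp.pow_eq_one_of_commute_invol (c.orderOf_eq_two ht ht1) (hb3 t ht)
      (hbo.of_dvd_nat (orderOf_pow_dvd 3))
  have hzg : ∀ i : ℕ, b ^ i ∈ zpowers g := fun i => pow_mem (pow_mem (mem_zpowers g) _) i
  have hy1 : ∀ i : ℕ, (∀ e ∈ (S : Subgroup G), Commute (b ^ i) e → e = 1) → b ^ i ≠ 1 :=
    fun i hh he => ht1 (hh t ht (he ▸ Commute.one_left t))
  by_cases hr3 : r = 3
  · subst hr3
    have h9 : b ^ 3 = 1 := c.hyp.pow_eq_one_of_r_elem (k := 2) (by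
      rw [show (3 : ℕ) ^ 2 = 3 * 3 by norm_num, pow_mul]; exact h3r)
    haveI := Fact.mk Nat.prime_three
    exact ⟨b, pow_one b ▸ hzg 1, orderOf_eq_prime h9 fun he => hy1 1 (by rwa [pow_one])
      (by rw [pow_one, he]), hbN, hfpf⟩
  · have hf : ∀ e ∈ (S : Subgroup G), Commute (b ^ r) e → e = 1 := fun e he hh =>
      hfpf e he (commute_of_coprime_pow
        ((Nat.coprime_primes c.hyp.prime Nat.prime_three).mpr hr3) hh (hb3 e he))
    haveI := Fact.mk Nat.prime_three
    refine ⟨b ^ r, hzg r, orderOf_eq_prime ?_ (hy1 r hf), pow_mem hbN r, hf⟩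
    rw [← pow_mul, mul_comm, pow_mul, h3r]

/-- The fusion lemma. -/
theorem fusion {g : G} (hg : g ∈ normalizer ((S : Subgroup G) : Set G))
    (hgC : g ∉ centralizer ((S : Subgroup G) : Set G)) {D : Subgroup G} (hD : IsPGroup r D)
    (hSD : (S : Subgroup G) ≤ normalizer (D : Set G)) (hgD : g ∈ normalizer (D : Set G)) :
    D ≤ centralizer ((S : Subgroup G) : Set G) := by
  obtain ⟨y, hyz, hy3, hyN, hfpf⟩ := c.exists_three hg hgC
  haveI : IsMulCommutative (S : Subgroup G) :=
    ⟨⟨fun a b => Subtype.ext (c.comm_mem a.2 b.2)⟩⟩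
  have hyD : y ∈ normalizer (D : Set G) := zpowers_le.mpr hgD hyz
  exact fun w hw => mem_centralizer_iff.mpr fun e he =>
    (c.hyp.commute_of_fpf S.2 Nat.prime_three (by norm_num) hy3 hyN hfpf hD hSD hyD e he w hw).eq

theorem core_of_le_cent {K : Subgroup G} (hSK : (S : Subgroup G) ≤ K)
    (hN : ∀ g ∈ K, g ∈ normalizer ((S : Subgroup G) : Set G) →
      g ∈ centralizer ((S : Subgroup G) : Set G)) :
    ∀ g ∈ K, ∃ v ∈ (S : Subgroup G), g * v⁻¹ ∈ coreP 2 K := by
  have hT : ((S.subtype hSK : Sylow 2 K) : Subgroup K) = (S : Subgroup G).subgroupOf K :=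
    S.coe_subtype hSK
  intro g hg
  have hN' : normalizer ((S.subtype hSK : Sylow 2 K) : Set K) ≤
      centralizer ((S.subtype hSK : Sylow 2 K) : Set K) := fun n hn => by
    have hn' : (n : G) ∈ normalizer ((S : Subgroup G) : Set G) := by
      rw [← map_subgroupOf_eq_of_le hSK, ← hT]
      exact le_normalizer_map K.subtype ⟨n, hn, rfl⟩
    refine mem_centralizer_iff.mpr fun x hx => Subtype.ext ?_
    exact mem_centralizer_iff.mp (hN n n.2 hn') _ hx
  obtain ⟨v, hv, hgv⟩ := core_mul K (S.subtype hSK) hN' g hg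
  rw [hT, map_subgroupOf_eq_of_le hSK] at hv
  exact ⟨v, hv, hgv⟩

theorem frattini_core {K : Subgroup G} (hSK : (S : Subgroup G) ≤ K) (hK : Group.IsSolvable K) :
    ∀ g ∈ K, ∃ o ∈ coreP 2 K, o⁻¹ * g ∈ normalizer ((S : Subgroup G) : Set G) := by
  haveI := Fact.mk Nat.prime_two
  haveI := hK
  intro g hg
  have hT : ((S.subtype hSK : Sylow 2 K) : Subgroup K) = (S : Subgroup G).subgroupOf K :=
    S.coe_subtype hSK
  have hTc : IsMulCommutative (S.subtype hSK : Subgroup K) := ⟨⟨fun a b => Subtype.ext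
    (Subtype.ext (c.comm_mem (by have := a.2; exact this) (by have := b.2; exact this)))⟩⟩
  have hn := Cfsg.Agent.S0018.result 2 (S.subtype hSK) hTc
  have hmap : (((S.subtype hSK : Subgroup K)) ⊔ Cfsg.pPrimeCore 2 K).map K.subtype =
      coreP 2 K ⊔ (S : Subgroup G) := by
    rw [Subgroup.map_sup, hT, map_subgroupOf_eq_of_le hSK, sup_comm]
    rfl
  obtain ⟨m, hm, hmg⟩ := CfsgLib.Transfer.exists_mul_mem_normalizer
    (K := coreP 2 K ⊔ (S : Subgroup G)) S le_sup_right (g := g) (by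
      intro x hx
      have hx' : g⁻¹ * x * g ∈ S := (CfsgLib.Transfer.mem_sylow_smul_iff g S x).mp hx
      have h2 := hn.conj_mem (⟨g⁻¹ * x * g, hSK hx'⟩ : K) (mem_sup_left (by
        rw [hT]; exact hx')) ⟨g, hg⟩
      rw [← hmap]
      refine ⟨_, h2, ?_⟩
      simp [mul_assoc])
  obtain ⟨o, ho, v, hv, hov⟩ := (CfsgLib.Solvable.mem_sup_of_le_normalizer
    (hSK.trans (le_normalizer_coreP 2 K))).mp (inv_mem hm)
  refine ⟨o, ho, ?_⟩
  have : o⁻¹ * g = v * (m * g) := by
    rw [eq_inv_iff_mul_eq_one] at hov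
    calc o⁻¹ * g = o⁻¹ * (o * v * m) * g := by rw [hov, mul_one]
      _ = v * (m * g) := by group
  rw [this]
  exact mul_mem (le_normalizer hv) hmg

theorem normalizer_fix {t g : G} (ht : t ∈ (S : Subgroup G)) (ht1 : t ≠ 1)
    (hg : g ∈ normalizer ((S : Subgroup G) : Set G)) (hc : Commute g t) :
    g ∈ centralizer ((S : Subgroup G) : Set G) := by
  by_contra hgC
  obtain ⟨y, hyz, -, -, hfpf⟩ := c.exists_three hg hgC
  obtain ⟨i, hi⟩ := mem_zpowers_iff.mp hyz
  exact ht1 (hfpf t ht (hi ▸ hc.zpow_left i))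

theorem invol_dec {t : G} (ht : t ∈ (S : Subgroup G)) (ht1 : t ≠ 1) :
    ∀ g ∈ centralizer ({t} : Set G), ∃ v ∈ (S : Subgroup G),
      g * v⁻¹ ∈ coreP 2 (centralizer ({t} : Set G)) :=
  c.core_of_le_cent (c.le_centralizer_invol ht) fun _ hg hgN =>
    c.normalizer_fix ht ht1 hgN (mem_centralizer_singleton_iff.mp hg)

theorem mem_invol_core {t g : G} (ht : t ∈ (S : Subgroup G)) (ht1 : t ≠ 1) (hc : Commute g t)
    (ho : Odd (orderOf g)) : g ∈ coreP 2 (centralizer ({t} : Set G)) :=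
  mem_core_of_odd (c.le_centralizer_invol ht) c.exp_two (c.invol_dec ht ht1)
    (mem_centralizer_singleton_iff.mpr hc.eq) ho

theorem cent_dec : ∀ g ∈ centralizer ((S : Subgroup G) : Set G), ∃ v ∈ (S : Subgroup G),
    g * v⁻¹ ∈ coreP 2 (centralizer ((S : Subgroup G) : Set G)) :=
  c.core_of_le_cent c.le_centralizer_self fun _ hg _ => hg

theorem mem_cent_core {g : G} (hg : g ∈ centralizer ((S : Subgroup G) : Set G))
    (ho : Odd (orderOf g)) : g ∈ coreP 2 (centralizer ((S : Subgroup G) : Set G)) :=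
  mem_core_of_odd c.le_centralizer_self c.exp_two c.cent_dec hg ho

theorem cent_core_le_normalizer :
    (S : Subgroup G) ≤ normalizer (coreP 2 (centralizer ((S : Subgroup G) : Set G)) : Set G) :=
  c.le_centralizer_self.trans (le_normalizer_coreP 2 _)

theorem normalizer_le_cent_core : normalizer ((S : Subgroup G) : Set G) ≤
    normalizer (coreP 2 (centralizer ((S : Subgroup G) : Set G)) : Set G) := by
  refine le_trans ?_ (normalizer_le_normalizer_coreP 2 _)
  rw [le_normalizer_iff]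
  intro n hn x hx
  rw [mem_centralizer_iff] at hx ⊢
  intro e he
  have he' : n⁻¹ * e * n ∈ (S : Subgroup G) := by
    simpa using c.conj_mem (inv_mem hn) he
  calc e * (n * x * n⁻¹) = n * ((n⁻¹ * e * n) * x) * n⁻¹ := by group
    _ = n * x * n⁻¹ * e := by rw [hx _ he']; group

theorem isPGroup_invol_core {t : G} (ht : t ∈ (S : Subgroup G)) (ht1 : t ≠ 1) :
    IsPGroup r (coreP 2 (centralizer ({t} : Set G))) :=
  c.hyp.isPGroup_of_pow _ (core_odd _) fun _ hg =>
    c.hyp.pow_two_r_of_commute_invol (c.orderOf_eq_two ht ht1)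
      (mem_centralizer_singleton_iff.mp (coreP_le _ _ hg))

theorem isPGroup_cent_core : IsPGroup r (coreP 2 (centralizer ((S : Subgroup G) : Set G))) := by
  obtain ⟨t, ht, ht1, -⟩ := c.exists_ne 1
  exact c.hyp.isPGroup_of_pow _ (core_odd _) fun g hg =>
    c.hyp.pow_two_r_of_commute_invol (c.orderOf_eq_two ht ht1)
      (mem_centralizer_iff.mp (coreP_le _ _ hg) t ht).symm

theorem odd_of_mem_pGroup {P : Subgroup G} (hP : IsPGroup r P) {x : G} (hx : x ∈ P) :
    Odd (orderOf x) :=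
  c.hyp.odd_r.of_dvd_nat (orderOf_dvd_of_pow_eq_one (c.hyp.pow_r_of_isPGroup hP hx))

/-- If two subgroups of `Fam` share a nontrivial element, so do their maximal members. -/
theorem uniq_step {P P' : Subgroup G}
    (hP : Maximal (fun Q : Subgroup G => IsPGroup r Q ∧ (S : Subgroup G) ≤ normalizer (Q : Set G)) P)
    (hP' : Maximal (fun Q : Subgroup G => IsPGroup r Q ∧ (S : Subgroup G) ≤ normalizer (Q : Set G)) P')
    (hA : coreP 2 (centralizer ((S : Subgroup G) : Set G)) ≤ P ⊓ P') (hD : P ⊓ P' ≠ ⊥)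
    (hne : P ≠ P')
    (hmax : ∀ Q Q' : Subgroup G,
      Maximal (fun Q : Subgroup G => IsPGroup r Q ∧ (S : Subgroup G) ≤ normalizer (Q : Set G)) Q →
      Maximal (fun Q : Subgroup G => IsPGroup r Q ∧ (S : Subgroup G) ≤ normalizer (Q : Set G)) Q' →
      coreP 2 (centralizer ((S : Subgroup G) : Set G)) ≤ Q ⊓ Q' → P ⊓ P' < Q ⊓ Q' → Q = Q') :
    False := by
  haveI := Fact.mk c.hyp.prime
  set A := coreP 2 (centralizer ((S : Subgroup G) : Set G)) with hAdef
  set D := P ⊓ P' with hDdef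
  obtain ⟨hPp, hPS⟩ := hP.prop
  obtain ⟨hP'p, hP'S⟩ := hP'.prop
  have hDp : IsPGroup r D := hPp.to_le inf_le_left
  have hSD : (S : Subgroup G) ≤ normalizer (D : Set G) := fun s hs =>
    inf_normalizer_le_normalizer_inf ⟨hPS hs, hP'S hs⟩
  have hltP : D < P := lt_of_le_of_ne inf_le_left fun he =>
    hne (le_antisymm (he ▸ inf_le_right) (hP.2 hP'.prop (he ▸ inf_le_right)))
  have hltP' : D < P' := lt_of_le_of_ne inf_le_right fun he =>
    hne (le_antisymm (hP'.2 hP.prop (he ▸ inf_le_left)) (he ▸ inf_le_left))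
  by_cases hfus : ∃ g ∈ normalizer (D : Set G), g ∈ normalizer ((S : Subgroup G) : Set G) ∧
      g ∉ centralizer ((S : Subgroup G) : Set G)
  · obtain ⟨g, hgD, hgN, hgC⟩ := hfus
    have hDA : D = A := le_antisymm (fun x hx => c.mem_cent_core
      (c.fusion hgN hgC hDp hSD hgD hx) (c.odd_of_mem_pGroup hDp hx)) hA
    obtain ⟨x, hx, hx1⟩ : ∃ x ∈ A, x ≠ 1 := A.bot_or_exists_ne_one.resolve_left (hDA ▸ hD)
    set K := centralizer (A : Set G) with hK
    have hKpow : ∀ z ∈ K, z ^ (2 * r) = 1 := fun z hz =>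
      c.hyp.pow_two_r_of_commute_relem (c.hyp.pow_r_of_isPGroup (hDA ▸ hDp) hx) hx1
        (mem_centralizer_iff.mp hz x hx).symm
    have hSK : (S : Subgroup G) ≤ K := fun s hs => mem_centralizer_iff.mpr fun a ha =>
      (mem_centralizer_iff.mp (coreP_le _ _ ha) s hs).symm
    have hNK : normalizer (A : Set G) ≤ normalizer (K : Set G) := by
      rw [le_normalizer_iff]
      intro n hn z hz
      rw [hK, mem_centralizer_iff] at hz ⊢
      intro a ha
      have ha' : n⁻¹ * a * n ∈ A := by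
        simpa using (mem_normalizer_iff.mp (inv_mem hn) a).mp ha
      calc a * (n * z * n⁻¹) = n * ((n⁻¹ * a * n) * z) * n⁻¹ := by group
        _ = n * z * n⁻¹ * a := by rw [hz _ ha']; group
    have hO : coreP 2 K ≤ centralizer ((S : Subgroup G) : Set G) :=
      c.fusion hgN hgC (c.hyp.isPGroup_of_pow _ (core_odd K) fun z hz => hKpow z (coreP_le _ _ hz))
        (hSK.trans (le_normalizer_coreP 2 K))
        (normalizer_le_normalizer_coreP 2 K (hNK (hDA ▸ hgD)))
    have hKN : K ≤ normalizer ((S : Subgroup G) : Set G) := fun z hz => by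
      obtain ⟨o, ho, hoz⟩ := c.frattini_core hSK (c.hyp.isSolvable_of_pow K hKpow) z hz
      have := mul_mem (centralizer_le_normalizer _ (hO ho)) hoz
      rwa [mul_inv_cancel_left] at this
    have hNA : normalizer (A : Set G) ≤ normalizer ((S : Subgroup G) : Set G) := by
      intro n hn
      haveI := Fact.mk Nat.prime_two
      rw [mem_normalizer_iff]
      have key : ∀ n ∈ normalizer (A : Set G), ∀ e ∈ (S : Subgroup G),
          n * e * n⁻¹ ∈ (S : Subgroup G) := by
        intro n hn e he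
        have heN : n * e * n⁻¹ ∈ normalizer ((S : Subgroup G) : Set G) :=
          hKN ((mem_normalizer_iff.mp (hNK hn) e).mp (hSK he))
        have hz : IsPGroup 2 (zpowers (n * e * n⁻¹)) := by
          intro z
          obtain ⟨i, hi⟩ := mem_zpowers_iff.mp z.2
          refine ⟨1, Subtype.ext ?_⟩
          rw [SubmonoidClass.coe_pow, Subgroup.coe_one, ← hi, pow_one, pow_two, ← zpow_add,
            ← two_mul, zpow_mul, zpow_two]
          rw [show n * e * n⁻¹ * (n * e * n⁻¹) = n * (e * e) * n⁻¹ by group, c.exp_two e he,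
            mul_one, mul_inv_cancel, one_zpow]
        have := S.3 (S.2.to_sup_of_normal_left' hz (zpowers_le.mpr heN)) le_sup_left
        rw [← this]
        exact mem_sup_right (mem_zpowers _)
      refine fun e => ⟨key n hn e, fun he => ?_⟩
      have := key n⁻¹ (inv_mem hn) _ he
      simpa [mul_assoc] using this
    have hstep : ∀ Q : Subgroup G, IsPGroup r Q → (S : Subgroup G) ≤ normalizer (Q : Set G) →
        A < Q → False := by
      intro Q hQ hQS hlt
      obtain ⟨q, hq, hqA⟩ := SetLike.exists_of_lt (lt_inf_normalizer hQ hlt)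
      refine hqA (c.mem_cent_core ?_ (c.odd_of_mem_pGroup hQ hq.1))
      refine CfsgLib.Solvable.inf_normalizer_le_centralizer hQS ?_ ⟨hq.1, hNA hq.2⟩
      obtain ⟨m, hm⟩ := hQ.exists_card_eq
      exact disjoint_of_coprime_natCard (by
        rw [c.card_four, hm, show (4 : ℕ) = 2 ^ 2 by norm_num]
        exact ((c.hyp.coprime_two.symm).pow_right m).pow_left 2)
    exact hstep P hPp hPS (hDA ▸ hltP)
  · push Not at hfus
    set L := normalizer (D : Set G) with hL
    set K := coreP 2 L with hK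
    have hdec := c.core_of_le_cent hSD fun g hg hgN => hfus g hg hgN
    have hmem : ∀ {x : G}, x ∈ L → Odd (orderOf x) → x ∈ K := fun hx ho =>
      mem_core_of_odd hSD c.exp_two hdec hx ho
    have hX : ∀ Q : Subgroup G, IsPGroup r Q → Q ⊓ L ≤ K := fun Q hQ x hx =>
      hmem hx.2 (c.odd_of_mem_pGroup hQ hx.1)
    have hSL : (S : Subgroup G) ≤ normalizer (L : Set G) := hSD.trans le_normalizer
    have hSK : (S : Subgroup G) ≤ normalizer (K : Set G) := hSD.trans (le_normalizer_coreP 2 L)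
    have hcop : (Nat.card (S : Subgroup G)).Coprime (Nat.card K) := by
      rw [c.card_four, show (4 : ℕ) = 2 ^ 2 by norm_num]
      exact ((Nat.coprime_two_right.mpr (core_odd L)).symm).pow_left 2
    have hsolv : Group.IsSolvable (S : Subgroup G) ∨ Group.IsSolvable K :=
      Or.inr (Cfsg.Agent.S0205.result (core_odd L))
    haveI := Fact.mk c.hyp.prime
    obtain ⟨Q, hXQ, hQS⟩ := CfsgLib.Solvable.exists_invariant_sylow_ge hSK hcop hsolv r
      (hX P hPp) (hPp.to_le inf_le_left)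
      (fun s hs => inf_normalizer_le_normalizer_inf ⟨hPS hs, hSL hs⟩)
    obtain ⟨Q', hXQ', hQ'S⟩ := CfsgLib.Solvable.exists_invariant_sylow_ge hSK hcop hsolv r
      (hX P' hP'p) (hP'p.to_le inf_le_left)
      (fun s hs => inf_normalizer_le_normalizer_inf ⟨hP'S hs, hSL hs⟩)
    obtain ⟨z, hz, hzQ⟩ :=
      CfsgLib.Solvable.exists_invariant_sylow_conj hSK hcop hsolv Q Q' hQS hQ'S
    have hzA : (z : G) ∈ A := c.mem_cent_core hz (odd_of_mem (core_odd L) z.2)
    have hzQ' : z ∈ (Q' : Subgroup K) := by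
      obtain ⟨w, hw, hwz⟩ := hXQ' (show (z : G) ∈ P' ⊓ L from
        ⟨(hA.trans inf_le_right) hzA, coreP_le 2 L z.2⟩)
      rwa [← Subtype.ext hwz]
    have hQQ : (Q : Subgroup K) = Q' := by
      have h1 : MulAut.conj z⁻¹ • (Q' : Subgroup K) = Q' :=
        CfsgLib.Solvable.conj_smul_eq_self_iff.mpr (le_normalizer (inv_mem hzQ'))
      have h2 : MulAut.conj z • (Q : Subgroup K) = Q' := by rw [← hzQ]; rfl
      rw [← h1, ← h2, ← mul_smul, ← map_mul, inv_mul_cancel, map_one, one_smul]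
    set W := (Q' : Subgroup K).map K.subtype with hW
    have hXW : P ⊓ L ≤ W := by rwa [hQQ] at hXQ
    have hDL : D ≤ L := le_normalizer
    have hAW : A ≤ W := fun a ha => hXQ' ⟨(hA.trans inf_le_right) ha, hDL (hA ha)⟩
    obtain ⟨M, hWM, hM⟩ := (Set.toFinite {R : Subgroup G |
      IsPGroup r R ∧ (S : Subgroup G) ≤ normalizer (R : Set G)}).exists_le_maximal
        ⟨Q'.2.map _, hQ'S⟩
    have hM1 : M = P := hmax M P hM hP (le_inf (hAW.trans hWM) (hA.trans inf_le_left))
      ((lt_inf_normalizer hPp hltP).trans_le (le_inf (hXW.trans hWM) inf_le_left))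
    have hM2 : M = P' := hmax M P' hM hP' (le_inf (hAW.trans hWM) (hA.trans inf_le_right))
      ((lt_inf_normalizer hP'p hltP').trans_le (le_inf (hXQ'.trans hWM) inf_le_left))
    exact hne (hM1.symm.trans hM2)

/-- Maximal `S`-invariant `r`-subgroups above the odd part of `C(S)` are TI. -/
theorem uniq {P P' : Subgroup G}
    (hP : Maximal (fun Q : Subgroup G => IsPGroup r Q ∧ (S : Subgroup G) ≤ normalizer (Q : Set G)) P)
    (hP' : Maximal (fun Q : Subgroup G => IsPGroup r Q ∧ (S : Subgroup G) ≤ normalizer (Q : Set G)) P')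
    (hA : coreP 2 (centralizer ((S : Subgroup G) : Set G)) ≤ P ⊓ P') (hD : P ⊓ P' ≠ ⊥) :
    P = P' := by
  by_contra hne
  obtain ⟨D, -, hDmax⟩ := (Set.toFinite {D : Subgroup G | ∃ P P' : Subgroup G,
    Maximal (fun Q : Subgroup G => IsPGroup r Q ∧ (S : Subgroup G) ≤ normalizer (Q : Set G)) P ∧
    Maximal (fun Q : Subgroup G => IsPGroup r Q ∧ (S : Subgroup G) ≤ normalizer (Q : Set G)) P' ∧
    coreP 2 (centralizer ((S : Subgroup G) : Set G)) ≤ P ⊓ P' ∧ P ≠ P' ∧ D = P ⊓ P' ∧
      D ≠ ⊥}).exists_le_maximal ⟨P, P', hP, hP', hA, hne, rfl, hD⟩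
  obtain ⟨R, R', hR, hR', hAR, hRne, rfl, hRD⟩ := hDmax.prop
  refine c.uniq_step hR hR' hAR hRD hRne fun Q Q' hQ hQ' hAQ hlt => ?_
  by_contra hQne
  exact hlt.not_ge (hDmax.2 ⟨Q, Q', hQ, hQ', hAQ, hQne, rfl,
    (bot_le.trans_lt hlt).ne'⟩ hlt.le)

theorem exists_max {Q : Subgroup G} (hQ : IsPGroup r Q)
    (hQS : (S : Subgroup G) ≤ normalizer (Q : Set G)) : ∃ M, Q ≤ M ∧
      Maximal (fun Q : Subgroup G => IsPGroup r Q ∧ (S : Subgroup G) ≤ normalizer (Q : Set G)) M :=
  (Set.toFinite {R : Subgroup G |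
    IsPGroup r R ∧ (S : Subgroup G) ≤ normalizer (R : Set G)}).exists_le_maximal ⟨hQ, hQS⟩

/-- If a conjugate under the normaliser of `S` of a maximal member meets it, they agree. -/
theorem mem_normalizer_of_meet {P : Subgroup G}
    (hP : Maximal (fun Q : Subgroup G => IsPGroup r Q ∧ (S : Subgroup G) ≤ normalizer (Q : Set G)) P)
    (hA : coreP 2 (centralizer ((S : Subgroup G) : Set G)) ≤ P)
    {n : G} (hn : n ∈ normalizer ((S : Subgroup G) : Set G))
    (hm : P.map (MulAut.conj n).toMonoidHom ⊓ P ≠ ⊥) : n ∈ normalizer (P : Set G) := by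
  have hS' : (S : Subgroup G) ≤ normalizer (P.map (MulAut.conj n).toMonoidHom : Set G) := by
    refine le_trans (fun s hs => ?_) (le_normalizer_map (MulAut.conj n).toMonoidHom)
    exact ⟨n⁻¹ * s * n, hP.prop.2 (by simpa using c.conj_mem (inv_mem hn) hs), by simp [mul_assoc]⟩
  obtain ⟨M, hle, hM⟩ := c.exists_max (hP.prop.1.map _) hS'
  have hAM : coreP 2 (centralizer ((S : Subgroup G) : Set G)) ≤ M := fun a ha =>
    hle ⟨n⁻¹ * a * n, hA (by
      simpa using (mem_normalizer_iff.mp (inv_mem (c.normalizer_le_cent_core hn)) a).mp ha),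
      by simp [mul_assoc]⟩
  have hMP : M = P := c.uniq hM hP (le_inf hAM hA)
    fun he => hm (le_bot_iff.mp (he ▸ inf_le_inf_right _ hle))
  subst hMP
  exact mem_normalizer_iff_map_conj_eq.mpr (eq_of_le_of_card_ge hle
    (by rw [card_map_of_injective (MulAut.conj n).injective]))

theorem left_of_core_le (hU : ∀ t ∈ (S : Subgroup G), t ≠ 1 →
      coreP 2 (centralizer ({t} : Set G)) ≤ centralizer ((S : Subgroup G) : Set G)) :
    ∀ t ∈ (S : Subgroup G), t ≠ 1 → ∀ g, Commute g t →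
      g ∈ normalizer ((S : Subgroup G) : Set G) := by
  intro t ht ht1 g hg
  obtain ⟨v, hv, hgv⟩ := c.invol_dec ht ht1 g (mem_centralizer_singleton_iff.mpr hg.eq)
  have := mul_mem (centralizer_le_normalizer _ (hU t ht ht1 hgv)) (le_normalizer hv)
  rwa [inv_mul_cancel_right] at this

theorem case_nontrivial {y : G} (hyN : y ∈ normalizer ((S : Subgroup G) : Set G))
    (hyC : y ∉ centralizer ((S : Subgroup G) : Set G))
    (hA : coreP 2 (centralizer ((S : Subgroup G) : Set G)) ≠ ⊥) :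
    ∀ t ∈ (S : Subgroup G), t ≠ 1 → ∀ g, Commute g t →
      g ∈ normalizer ((S : Subgroup G) : Set G) := by
  obtain ⟨P, hAP, hP⟩ := c.exists_max c.isPGroup_cent_core c.cent_core_le_normalizer
  have hyP : y ∈ normalizer (P : Set G) := c.mem_normalizer_of_meet hP hAP hyN fun he =>
    hA (le_bot_iff.mp (he ▸ le_inf (fun a ha => (⟨y⁻¹ * a * y, hAP (by
      simpa using (mem_normalizer_iff.mp (inv_mem (c.normalizer_le_cent_core hyN)) a).mp ha),
      by simp [mul_assoc]⟩ : a ∈ P.map (MulAut.conj y).toMonoidHom)) hAP))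
  have hPC := c.fusion hyN hyC hP.prop.1 hP.prop.2 hyP
  refine c.left_of_core_le fun t ht ht1 => ?_
  obtain ⟨M, hle, hM⟩ := c.exists_max (c.isPGroup_invol_core ht ht1)
    ((c.le_centralizer_invol ht).trans (le_normalizer_coreP 2 _))
  have hAU : coreP 2 (centralizer ((S : Subgroup G) : Set G)) ≤
      coreP 2 (centralizer ({t} : Set G)) := fun a ha =>
    c.mem_invol_core ht ht1 (mem_centralizer_iff.mp (coreP_le _ _ ha) t ht).symm
      (odd_of_mem (core_odd _) ha)
  have hMP : M = P := c.uniq hM hP (le_inf (hAU.trans hle) hAP)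
    fun he => hA (le_bot_iff.mp (he ▸ le_inf (hAU.trans hle) hAP))
  exact hle.trans (hMP ▸ hPC)

/-- The `PSL(2,q)` configuration. -/
theorem case_trivial [IsSimpleGroup G] {y : G} (hy3 : orderOf y = 3)
    (hyN : y ∈ normalizer ((S : Subgroup G) : Set G))
    (hyC : y ∉ centralizer ((S : Subgroup G) : Set G))
    (hfpf : ∀ e ∈ (S : Subgroup G), Commute y e → e = 1)
    (hA : coreP 2 (centralizer ((S : Subgroup G) : Set G)) = ⊥)
    {t : G} (ht : t ∈ (S : Subgroup G)) (ht1 : t ≠ 1)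
    (hUne : coreP 2 (centralizer ({t} : Set G)) ≠ ⊥) :
    ∃ (F : Type) (_ : Field F) (_ : Fintype F), Odd (Fintype.card F) ∧
      Nonempty (G ≃* Matrix.ProjectiveSpecialLinearGroup (Fin 2) F) := by
  haveI := Fact.mk Nat.prime_two
  haveI := Fact.mk c.hyp.prime
  set U := coreP 2 (centralizer ({t} : Set G)) with hUdef
  obtain ⟨P, hUP, hP⟩ := c.exists_max (c.isPGroup_invol_core ht ht1)
    ((c.le_centralizer_invol ht).trans (le_normalizer_coreP 2 _))
  have hPne : P ≠ ⊥ := fun he => hUne (le_bot_iff.mp (he ▸ hUP))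
  have hAP : coreP 2 (centralizer ((S : Subgroup G) : Set G)) ≤ P := hA ▸ bot_le
  have hyP : y ∉ normalizer (P : Set G) := fun hh => by
    obtain ⟨x, hx, hx1⟩ := P.bot_or_exists_ne_one.resolve_left hPne
    have := c.mem_cent_core (c.fusion hyN hyC hP.prop.1 hP.prop.2 hh hx)
      (c.odd_of_mem_pGroup hP.prop.1 hx)
    rw [hA, mem_bot] at this
    exact hx1 this
  have hy2P : y ^ 2 ∉ normalizer (P : Set G) := fun hh => hyP (by
    have h := pow_mem hh 2
    rwa [← pow_mul, show y ^ (2 * 2) = y by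
      rw [show 2 * 2 = orderOf y + 1 by omega, pow_succ, pow_orderOf_eq_one, one_mul]] at h)
  have hmove : ∀ n ∈ normalizer ((S : Subgroup G) : Set G), n ∉ normalizer (P : Set G) →
      ∀ x ∈ P, Commute x (n * t * n⁻¹) → x = 1 := by
    intro n hn hnP x hx hc
    by_contra hx1
    refine hnP (c.mem_normalizer_of_meet hP hAP hn fun he => hx1 (mem_bot.mp (he ▸ mem_inf.mpr
      ⟨⟨n⁻¹ * x * n, hUP (c.mem_invol_core ht ht1 ?_ ?_), by simp [mul_assoc]⟩, hx⟩)))
    · show n⁻¹ * x * n * t = t * (n⁻¹ * x * n)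
      calc n⁻¹ * x * n * t = n⁻¹ * (x * (n * t * n⁻¹)) * n := by group
        _ = t * (n⁻¹ * x * n) := by rw [hc.eq]; group
    · rw [show n⁻¹ * x * n = n⁻¹ * x * n⁻¹⁻¹ by group, CfsgLib.Invol.orderOf_conj]
      exact c.odd_of_mem_pGroup hP.prop.1 hx
  set t2 := y * t * y⁻¹ with ht2
  have ht2S : t2 ∈ (S : Subgroup G) := c.conj_mem hyN ht
  have ht21 : t2 ≠ 1 := fun hh => ht1 (conj_eq_one_iff.mp hh)
  have htne : t ≠ t2 := fun hh => ht1 (hfpf t ht (mul_inv_eq_iff_eq_mul.mp hh.symm))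
  have ht3eq : y ^ 2 * t * (y ^ 2)⁻¹ = t * t2 := by
    have e : y ^ 2 * t * (y ^ 2)⁻¹ = y * t2 * y⁻¹ := by rw [ht2, pow_two]; group
    rcases c.four_elems ht ht2S ht1 ht21 htne _ (c.conj_mem hyN ht2S) with h | h | h | h
    · exact absurd (conj_eq_one_iff.mp h) ht21
    · refine absurd (hfpf t ht ?_) ht1
      have h2 : Commute (y ^ 2) t := mul_inv_eq_iff_eq_mul.mp (e.trans h)
      have hy4 : y = (y ^ 2) ^ 2 := by
        rw [← pow_mul, show 2 * 2 = orderOf y + 1 by omega, pow_succ, pow_orderOf_eq_one, one_mul]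
      rw [hy4]
      exact h2.pow_left 2
    · exact absurd (hfpf t2 ht2S (mul_inv_eq_iff_eq_mul.mp h)) ht21
    · exact e.trans h
  have hinv2 := inverts_of_fpf (c.exp_two t2 ht2S) (hP.prop.2 ht2S) (hmove y hyN hyP)
  have hinv3 := inverts_of_fpf (c.exp_two _ (mul_mem ht ht2S)) (hP.prop.2 (mul_mem ht ht2S))
    (ht3eq ▸ hmove (y ^ 2) (pow_mem hyN 2) hy2P)
  have hcomm : ∀ x ∈ P, Commute x t := by
    intro x hx
    refine (mul_inv_eq_iff_eq_mul.mp ?_ : Commute t x).symm
    calc t * x * t⁻¹ = (t * t2) * (t2⁻¹ * x * t2⁻¹⁻¹) * (t * t2)⁻¹ := by group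
      _ = (t * t2) * x⁻¹ * (t * t2)⁻¹ := by
        rw [inv_eq_of_mul_eq_one_right (c.exp_two t2 ht2S), hinv2 x hx]
      _ = x := by rw [hinv3 _ (inv_mem hx), inv_inv]
  have hPU : P = U := le_antisymm
    (fun x hx => c.mem_invol_core ht ht1 (hcomm x hx) (c.odd_of_mem_pGroup hP.prop.1 hx)) hUP
  rw [hPU] at hP hinv2 hinv3 hcomm
  have hUab : ∀ a ∈ U, ∀ b ∈ U, Commute a b := fun a ha b hb => by
    have h := hinv2 _ (mul_mem ha hb)
    have h' : t2 * (a * b) * t2⁻¹ = (t2 * a * t2⁻¹) * (t2 * b * t2⁻¹) := by group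
    rw [h', hinv2 a ha, hinv2 b hb, ← mul_inv_rev, inv_inj] at h
    exact h.symm
  have hne_inv : ∀ x ∈ U, x ≠ 1 → ∀ s, s * x * s⁻¹ = x⁻¹ → ¬ Commute s x := by
    intro x hx hx1 s hs hc
    refine hx1 (eq_one_of_sq (odd_of_mem (core_odd _) hx) ?_)
    rw [hc.eq, mul_inv_cancel_right] at hs
    exact mul_eq_one_iff_eq_inv.mpr hs
  have hcases : ∀ s ∈ (S : Subgroup G), (∀ x ∈ U, Commute s x) ∧ (s = 1 ∨ s = t) ∨
      ∀ x ∈ U, s * x * s⁻¹ = x⁻¹ := by
    intro s hs
    rcases c.four_elems ht ht2S ht1 ht21 htne s hs with rfl | rfl | rfl | rfl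
    · exact Or.inl ⟨fun x _ => Commute.one_left x, Or.inl rfl⟩
    · exact Or.inl ⟨fun x hx => (hcomm x hx).symm, Or.inr rfl⟩
    · exact Or.inr hinv2
    · exact Or.inr hinv3
  obtain ⟨u, hu, hu1⟩ := U.bot_or_exists_ne_one.resolve_left hUne
  have hSC : (S : Subgroup G) ⊓ centralizer (U : Set G) = zpowers t := by
    refine le_antisymm ?_ (zpowers_le.mpr
      ⟨ht, mem_centralizer_iff.mpr fun x hx => (hcomm x hx).eq⟩)
    rintro s ⟨hs, hsC⟩
    rcases hcases s hs with ⟨-, rfl | rfl⟩ | h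
    · exact one_mem _
    · exact mem_zpowers _
    · exact absurd (mem_centralizer_iff.mp hsC u hu).symm (hne_inv u hu hu1 s (h u hu))
  have hcard2 : Nat.card (zpowers t) = 2 := by rw [Nat.card_zpowers, c.orderOf_eq_two ht ht1]
  haveI : IsKleinFour (S : Subgroup G) := by
    haveI : Nontrivial (S : Subgroup G) :=
      (Subgroup.nontrivial_iff_ne_bot _).mpr fun he => ht1 (mem_bot.mp (he ▸ ht))
    exact ⟨c.card_four, Monoid.exponent_eq_prime_iff Nat.prime_two |>.mpr fun g hg =>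
      CfsgLib.Invol.orderOf_eq_two hg (Subtype.ext (c.exp_two g g.2))⟩
  refine Cfsg.Agent.S0508.result S 2 le_rfl IsKleinFour.nonempty_mulEquiv t
    (c.orderOf_eq_two ht ht1) ht (fun s hs => (c.comm_mem hs ht).eq) U rfl (fun _ => ⟨?_, ?_⟩)
    (fun s hs hsC x hx => ?_) fun Y hYU hY g hg => ?_
  · rw [hSC]; infer_instance
  · rw [hSC]
    have h := relIndex_mul_relIndex ⊥ (zpowers t) (S : Subgroup G) bot_le (zpowers_le.mpr ht)
    rw [relIndex_bot_left, relIndex_bot_left, hcard2, c.card_four] at h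
    omega
  · rcases hcases s hs with ⟨h, -⟩ | h
    · exact absurd (mem_centralizer_iff.mpr fun z hz => (h z hz).eq.symm) hsC
    · exact h x hx
  obtain ⟨z, hz, hz1⟩ := Y.bot_or_exists_ne_one.resolve_left hY
  set K := centralizer (Y : Set G) with hK
  have hUp : IsPGroup r U := c.isPGroup_invol_core ht ht1
  have hKpow : ∀ w ∈ K, w ^ (2 * r) = 1 := fun w hw =>
    c.hyp.pow_two_r_of_commute_relem (c.hyp.pow_r_of_isPGroup hUp (hYU hz)) hz1
      (mem_centralizer_iff.mp hw z hz).symm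
  have hUK : U ≤ K := fun a ha => mem_centralizer_iff.mpr fun b hb => (hUab b (hYU hb) a ha).eq
  have htK : t ∈ K := mem_centralizer_iff.mpr fun b hb => (hcomm b (hYU hb)).eq
  obtain ⟨T, hT⟩ := (IsPGroup.of_card (p := 2) (n := 1)
    (by rw [Nat.card_congr (subgroupOfEquivOfLe (zpowers_le.mpr htK)).toEquiv, hcard2, pow_one]) :
    IsPGroup 2 ((zpowers t).subgroupOf K)).exists_le_sylow
  set T' := (T : Subgroup K).map K.subtype with hT'
  have htT : t ∈ T' := ⟨⟨t, htK⟩, hT (mem_zpowers t), rfl⟩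
  have hT2 : ∀ e ∈ T', e * e = 1 := fun e he => by
    obtain ⟨k, hk⟩ := (T.2.map K.subtype) ⟨e, he⟩
    exact c.hyp.two_pow_sq (k := k) (congrArg Subtype.val hk)
  have hTt : T' = zpowers t := by
    refine le_antisymm (fun e he => ?_) (zpowers_le.mpr htT)
    have het : Commute e t := by
      calc e * t = (e * t)⁻¹ := (inv_eq_of_mul_eq_one_right (hT2 _ (mul_mem he htT))).symm
        _ = t * e := by
          rw [mul_inv_rev, inv_eq_of_mul_eq_one_right (hT2 e he),
            inv_eq_of_mul_eq_one_right (hT2 t htT)]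
    obtain ⟨v, hv, hev⟩ := c.invol_dec ht ht1 e (mem_centralizer_singleton_iff.mpr het.eq)
    have hvK : v ∈ K := by
      have := mul_mem (inv_mem (hUK hev)) (map_subtype_le _ he : e ∈ K)
      rwa [mul_inv_rev, inv_inv, mul_assoc, inv_mul_cancel, mul_one] at this
    rcases hcases v hv with ⟨hvU, hv2⟩ | h
    · have hsq : (e * v⁻¹) * (e * v⁻¹) = 1 := by
        have hc1 : Commute v (e * v⁻¹) := hvU _ hev
        have h1 : ((e * v⁻¹) * v) ^ 2 = (e * v⁻¹) ^ 2 * v ^ 2 := hc1.symm.mul_pow 2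
        rwa [inv_mul_cancel_right, pow_two, pow_two, pow_two, hT2 e he, c.exp_two v hv, mul_one,
          eq_comm] at h1
      have he1 := eq_one_of_sq (odd_of_mem (core_odd _) hev) hsq
      rw [mul_inv_eq_one] at he1
      subst he1
      rcases hv2 with rfl | rfl
      · exact one_mem _
      · exact mem_zpowers _
    · exact absurd (mem_centralizer_iff.mp hvK z hz).symm
        (hne_inv z (hYU hz) hz1 v (h z (hYU hz)))
  have hdec : ∀ w ∈ K, ∃ v ∈ zpowers t, w * v⁻¹ ∈ coreP 2 K := by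
    intro w hw
    have hN' : normalizer (T : Set K) ≤ centralizer (T : Set K) := fun n hn => by
      have hn' : (n : G) ∈ normalizer (T' : Set G) := le_normalizer_map K.subtype ⟨n, hn, rfl⟩
      have hnt : Commute (n : G) t := by
        have h1 : (n : G) * t * (n : G)⁻¹ ∈ zpowers t :=
          hTt ▸ (mem_normalizer_iff.mp hn' t).mp htT
        obtain ⟨i, hi⟩ := mem_zpowers_iff.mp h1
        have ht' : t ^ (2 : ℤ) = 1 := by rw [zpow_two, c.exp_two t ht]
        rcases Int.even_or_odd i with ⟨j, rfl⟩ | ⟨j, rfl⟩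
        · rw [← two_mul, zpow_mul, ht', one_zpow] at hi
          exact absurd (conj_eq_one_iff.mp hi.symm) ht1
        · rw [zpow_add, zpow_one, zpow_mul, ht', one_zpow, one_mul] at hi
          exact mul_inv_eq_iff_eq_mul.mp hi.symm
      refine mem_centralizer_iff.mpr fun a ha => Subtype.ext ?_
      obtain ⟨i, hi⟩ := mem_zpowers_iff.mp (hTt ▸ mem_map_of_mem K.subtype ha :
        K.subtype a ∈ zpowers t)
      show (a : G) * n = n * a
      rw [show (a : G) = t ^ i from hi.symm]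
      exact (hnt.zpow_right i).eq.symm
    obtain ⟨v, hv, hwv⟩ := core_mul K T hN' w hw
    exact ⟨v, hTt ▸ hv, hwv⟩
  have hSY : (S : Subgroup G) ≤ normalizer (Y : Set G) := by
    rw [le_normalizer_iff]
    intro s hs b hb
    rcases hcases s hs with ⟨h, -⟩ | h
    · rw [(h b (hYU hb)).eq, mul_inv_cancel_right]; exact hb
    · rw [h b (hYU hb)]; exact inv_mem hb
  have hSK : (S : Subgroup G) ≤ normalizer (K : Set G) := by
    rw [le_normalizer_iff]
    intro s hs w hw
    rw [hK, mem_centralizer_iff] at hw ⊢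
    intro b hb
    have hb' : s⁻¹ * b * s ∈ Y := by
      simpa using le_normalizer_iff.mp hSY s⁻¹ (inv_mem hs) b hb
    calc b * (s * w * s⁻¹) = s * ((s⁻¹ * b * s) * w) * s⁻¹ := by group
      _ = s * w * s⁻¹ * b := by rw [hw _ hb']; group
  have hUR : U = coreP 2 K := by
    have hle : U ≤ coreP 2 K := fun a ha =>
      mem_core_of_odd (zpowers_le.mpr htK) (fun v hv => c.exp_two v (zpowers_le.mpr ht hv)) hdec
        (hUK ha) (odd_of_mem (core_odd _) ha)
    exact le_antisymm hle (hP.2 ⟨c.hyp.isPGroup_of_pow _ (core_odd K)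
      (fun w hw => hKpow w (coreP_le _ _ hw)),
      hSK.trans (normalizer_le_normalizer_coreP 2 K)⟩ hle)
  have hgK : g * t * g⁻¹ ∈ K := by
    rw [hK, mem_centralizer_iff]
    intro b hb
    have hb' : g⁻¹ * b * g ∈ Y := by
      simpa using (mem_normalizer_iff.mp (inv_mem hg) b).mp hb
    calc b * (g * t * g⁻¹) = g * ((g⁻¹ * b * g) * t) * g⁻¹ := by group
      _ = g * t * g⁻¹ * b := by rw [(hcomm _ (hYU hb')).eq]; group
  obtain ⟨v, hv, hgv⟩ := hdec _ hgK
  rw [← hUR] at hgv
  have hvS : v ∈ (S : Subgroup G) := zpowers_le.mpr ht hv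
  have hcv : Commute (g * t * g⁻¹ * v⁻¹) v := by
    obtain ⟨i, rfl⟩ := mem_zpowers_iff.mp hv
    exact (hcomm _ hgv).zpow_right i
  have hgt2 : (g * t * g⁻¹) * (g * t * g⁻¹) = 1 := by
    rw [show g * t * g⁻¹ * (g * t * g⁻¹) = g * (t * t) * g⁻¹ by group, c.exp_two t ht, mul_one,
      mul_inv_cancel]
  have hsq : (g * t * g⁻¹ * v⁻¹) * (g * t * g⁻¹ * v⁻¹) = 1 := by
    have h1 : ((g * t * g⁻¹ * v⁻¹) * v) ^ 2 = (g * t * g⁻¹ * v⁻¹) ^ 2 * v ^ 2 := hcv.mul_pow 2
    rwa [inv_mul_cancel_right, pow_two, pow_two, pow_two, hgt2, c.exp_two v hvS, mul_one,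
      eq_comm] at h1
  have hgtv : g * t * g⁻¹ = v := mul_inv_eq_one.mp (eq_one_of_sq (odd_of_mem (core_odd _) hgv) hsq)
  rw [mem_centralizer_singleton_iff]
  obtain ⟨i, hi⟩ := mem_zpowers_iff.mp hv
  have ht' : t ^ (2 : ℤ) = 1 := by rw [zpow_two, c.exp_two t ht]
  rcases Int.even_or_odd i with ⟨j, rfl⟩ | ⟨j, rfl⟩
  · rw [← two_mul, zpow_mul, ht', one_zpow] at hi
    exact absurd (conj_eq_one_iff.mp (hgtv.trans hi.symm)) ht1
  · rw [zpow_add, zpow_one, zpow_mul, ht', one_zpow, one_mul] at hi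
    exact mul_inv_eq_iff_eq_mul.mp (hgtv.trans hi.symm)

end Ctx

/-- In a nonabelian simple group a Sylow subgroup is not central in its normaliser. -/
theorem exists_normalizer_not_centralizer [IsSimpleGroup G] (hab : ∃ a b : G, a * b ≠ b * a)
    {r : ℕ} {S : Sylow 2 G} (c : Ctx G r S) :
    ∃ g ∈ normalizer ((S : Subgroup G) : Set G),
      g ∉ centralizer ((S : Subgroup G) : Set G) := by
  haveI := Fact.mk Nat.prime_two
  by_contra hh
  push Not at hh
  have hc := MonoidHom.ker_transferSylow_isComplement' S hh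
  rcases (inferInstance : (MonoidHom.transferSylow S hh).ker.Normal).eq_bot_or_eq_top with he | he
  · rw [he, isComplement'_bot_left] at hc
    obtain ⟨a, b, hne⟩ := hab
    exact hne (c.comm_mem (hc.symm ▸ mem_top a) (hc.symm ▸ mem_top b)).eq
  · rw [he, isComplement'_top_left] at hc
    have := c.card_four
    rw [hc, card_bot] at this
    omega

end CfsgLib.TwoR.Four

namespace CfsgLib.TwoR

/-- A four-group Sylow 2-subgroup gives TI centralisers or `PSL(2,q)`, `q` odd. -/
theorem four_case {G : Type*} [Group G] [Finite G] [IsSimpleGroup G]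
    (hab : ∃ a b : G, a * b ≠ b * a) {r : ℕ} (h : Hyp G r) (S : Sylow 2 G)
    (hexp : ∀ e ∈ (S : Subgroup G), e * e = 1) (h4 : Nat.card (S : Subgroup G) = 4) :
    (∀ t ∈ (S : Subgroup G), t ≠ 1 → ∀ g, Commute g t →
      g ∈ Subgroup.normalizer ((S : Subgroup G) : Set G)) ∨
    ∃ (F : Type) (_ : Field F) (_ : Fintype F), Odd (Fintype.card F) ∧
      Nonempty (G ≃* Matrix.ProjectiveSpecialLinearGroup (Fin 2) F) := by
  have c : Four.Ctx G r S := ⟨h, hexp, h4⟩
  obtain ⟨g, hg, hgC⟩ := Four.exists_normalizer_not_centralizer hab c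
  obtain ⟨y, -, hy3, hyN, hfpf⟩ := c.exists_three hg hgC
  have hyC : y ∉ centralizer ((S : Subgroup G) : Set G) := fun hh => by
    obtain ⟨u, hu, hu1, -⟩ := c.exists_ne 1
    exact hu1 (hfpf u hu (mem_centralizer_iff.mp hh u hu).symm)
  by_cases hA : coreP 2 (centralizer ((S : Subgroup G) : Set G)) = ⊥
  · by_cases hU : ∀ t ∈ (S : Subgroup G), t ≠ 1 → coreP 2 (centralizer ({t} : Set G)) = ⊥
    · exact Or.inl (c.left_of_core_le fun t ht ht1 => by rw [hU t ht ht1]; exact bot_le)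
    · push Not at hU
      obtain ⟨t, ht, ht1, hU⟩ := hU
      exact Or.inr (c.case_trivial hy3 hyN hyC hfpf hA ht ht1 hU)
  · exact Or.inl (c.case_nontrivial hyN hyC hA)

end CfsgLib.TwoR
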