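import Cfsg.Agent.Lib.TwoR.RegularTwist

/-!
# The class equation in the regular case
-/

set_option autoImplicit false
set_option linter.unusedSectionVars false

open scoped ComplexConjugate

namespace CfsgLib.TwoR.Reg

universe u

open Subgroup CfsgLib

variable {G : Type u} [Group G] [Fintype G] {r : ℕ} {S : Sylow 2 G} (h : Reg G r S)
include h

/-- Two good characters, one nontrivial on `S` and one trivial, bound the index of `N(S)`. -/
theorem index_bound (ψ ψ' : GC S) (hψ : ∃ b : CS S, (b : G) ∈ (S : Subgroup G) ∧ ψ.1 b ≠ 1)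
    (hψ' : ∀ b : CS S, (b : G) ∈ (S : Subgroup G) → ψ'.1 b = 1) :
    Nat.card (GC S) * (NS S).index <
      (Nat.card (S : Subgroup G) - 1) * (Nat.card (S : Subgroup G) - 1) * Nat.card (CS S) := by
  classical
  haveI : Nonempty (GC S) := ⟨ψ⟩
  haveI : Finite (GC S) := Finite.of_injective irr irr_injective
  haveI : Fintype (GC S) := Fintype.ofFinite _
  haveI : Fintype (Orb S) := Fintype.ofFinite _
  set a := Nat.card (CS S) with ha
  set k := Nat.card (S : Subgroup G) - 1 with hk
  set n := (NS S).index with hn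
  set m := Fintype.card (Orb S) with hm
  have hk3 : 3 ≤ k := by have := h.setting.four_le; omega
  have hapos : 0 < a := Nat.card_pos
  have hnpos : 0 < n := Nat.pos_of_ne_zero Subgroup.index_ne_zero_of_finite
  have hcardN : Nat.card (NS S) = k * a := h.card_N
  have hGcard : Nat.card G = n * (a * k) := by
    rw [← card_mul_index (NS S), hcardN, hn]
    ring
  -- orbits have `k` elements
  have hfib : ∀ o : Orb S, (Finset.univ.filter fun l : GC S => orb l = o).card = k := by
    intro o
    obtain ⟨l, rfl⟩ := Quotient.exists_rep o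
    have e : ∑ l' : GC S, (a : ℂ) * (if orb l = orb l' then 1 else 0) =
        (Nat.card (NS S) : ℂ) := by
      simp only [ha, card_mul_orb_eq]
      rw [Finset.sum_comm]
      simp [Nat.card_eq_fintype_card]
    rw [← Finset.mul_sum, Finset.sum_boole, hcardN, Nat.cast_mul, mul_comm (k : ℂ),
      mul_right_inj' (Nat.cast_ne_zero.mpr hapos.ne'), Nat.cast_inj] at e
    rw [← e]
    congr 1
    ext l'
    simp [eq_comm]
  have hGC : Nat.card (GC S) = m * k := by
    rw [Nat.card_eq_fintype_card, ← Finset.card_univ,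
      Finset.card_eq_sum_card_fiberwise (f := orb) (t := Finset.univ)
        (fun _ _ => Finset.mem_univ _), Finset.sum_congr rfl (fun o _ => hfib o),
      Finset.sum_const, Finset.card_univ, smul_eq_mul]
  -- the involutions of `S`
  let Kf : Finset (CS S) := Finset.univ.filter fun b => (b : G) ∈ (S : Subgroup G)
  let Sh : Finset (CS S) := Kf.erase 1
  have hmemK : ∀ b : CS S, b ∈ Kf ↔ (b : G) ∈ (S : Subgroup G) := fun b => by simp [Kf]
  have hone : (1 : CS S) ∈ Kf := (hmemK 1).mpr (one_mem _)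
  have hmemS : ∀ b : CS S, b ∈ Sh ↔ (b : G) ∈ (S : Subgroup G) ∧ b ≠ 1 := fun b => by
    simp [Sh, hmemK, and_comm]
  have hShcard : Sh.card = k := by
    have e : Kf.card = Nat.card (S : Subgroup G) := by
      rw [← Fintype.card_subtype, ← Nat.card_eq_fintype_card]
      exact Nat.card_congr
        { toFun := fun b => ⟨b.1, b.2⟩
          invFun := fun b => ⟨⟨b.1, h.S_le_K b.2⟩, b.2⟩
          left_inv := fun _ => rfl
          right_inv := fun _ => rfl }
    rw [Finset.card_erase_of_mem hone, e]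
  obtain ⟨t₀, htS, ht1⟩ := h.exists_invol_S
  let t : CS S := ⟨t₀, h.S_le_K htS⟩
  have ht : (t : G) ∈ (S : Subgroup G) := htS
  have htne : t ≠ 1 := fun e => ht1 (congrArg Subtype.val e)
  have htG : orderOf (t : G) = 2 := h.orderOf_S htS ht1
  have hsum : ∀ f : CS S → ℂ, ∑ x : NS S, f (conjK S x t) = (a : ℂ) * ∑ y ∈ Sh, f y := by
    intro f
    rw [Finset.mul_sum, ← Finset.sum_fiberwise_of_maps_to (t := Sh)
      (g := fun x => conjK S x t) (fun x _ => (hmemS _).mpr
        ⟨(mem_normalizer_iff.mp x.2 _).mp ht,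
          fun e => htne ((conjK S x).injective (e.trans (map_one _).symm))⟩)]
    refine Finset.sum_congr rfl fun y hy => ?_
    obtain ⟨hyS, hy1⟩ := (hmemS y).mp hy
    obtain ⟨g, hgN, hg⟩ := h.exists_conj_N ht ht1 hyS (fun e => hy1 (Subtype.ext e))
    have hcard : (Finset.univ.filter fun x : NS S => conjK S x t = y).card = a := by
      rw [← Fintype.card_subtype, ← Nat.card_eq_fintype_card]
      refine Nat.card_congr
        { toFun := fun x => ⟨g⁻¹ * (x.1 : G), h.mem_K_of_fix ht ht1 ?_⟩
          invFun := fun b => ⟨⟨g * b, mul_mem hgN (K_le_N b.2)⟩, Subtype.ext ?_⟩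
          left_inv := fun x => Subtype.ext (Subtype.ext (by simp))
          right_inv := fun b => Subtype.ext (by simp) }
      · have hx : (x.1 : G) * t * (x.1 : G)⁻¹ = g * t * g⁻¹ :=
          (congrArg Subtype.val x.2).trans hg.symm
        calc g⁻¹ * (x.1 : G) * t * (g⁻¹ * (x.1 : G))⁻¹
            = g⁻¹ * ((x.1 : G) * t * (x.1 : G)⁻¹) * g := by group
          _ = g⁻¹ * (g * t * g⁻¹) * g := by rw [hx]
          _ = t := by group
      · show g * b * t * (g * b)⁻¹ = y
        rw [← hg, mul_inv_rev, mul_assoc g, (commute_of_mem b.2 ht).eq]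
        group
    rw [Finset.sum_congr rfl (g := fun _ => f y) (fun x hx => by rw [(Finset.mem_filter.mp hx).2]),
      Finset.sum_const, hcard, nsmul_eq_mul]
  -- the two sums over `S`
  set S₀ : ℂ := ∑ y ∈ Sh, (val ψ y - val ψ' y) with hS₀def
  have hS₀ : S₀ = -((k : ℂ) + 1) := by
    have h1 : ∑ y ∈ Kf, val ψ y = 0 := by
      obtain ⟨b, hb, hb1⟩ := hψ
      have e : ∑ y ∈ Kf, val ψ y = val ψ b * ∑ y ∈ Kf, val ψ y := by
        rw [Finset.mul_sum]
        symm
        refine Finset.sum_bij (fun y _ => b * y) ?_ ?_ ?_ ?_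
        · intro y hy
          exact (hmemK _).mpr (mul_mem hb ((hmemK y).mp hy))
        · intro y _ z _ e
          exact mul_left_cancel e
        · intro y hy
          exact ⟨b⁻¹ * y, (hmemK _).mpr (mul_mem (inv_mem hb) ((hmemK y).mp hy)),
            mul_inv_cancel_left _ _⟩
        · intro y _
          simp [val]
      by_contra h0
      exact hb1 (Units.ext ((mul_eq_right₀ h0).mp e.symm))
    rw [hS₀def, Finset.sum_sub_distrib, Finset.sum_erase_eq_sub hone, h1, val_one,
      Finset.sum_congr rfl (g := fun _ => (1 : ℂ)) (fun y hy => by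
        simp [val, hψ' y ((hmemS y).mp hy).1]), Finset.sum_const, hShcard, nsmul_eq_mul]
    ring
  have hS : S₀ ≠ 0 := by
    rw [hS₀, neg_ne_zero]
    exact_mod_cast Nat.succ_ne_zero k
  -- exceptional characters
  obtain ⟨ε, μ, hε, hinj, hdiff⟩ := h.exists_exceptional
  have hε0 : ε ≠ 0 := by rcases hε with h | h <;> simp [h]
  have hε2 : ε * ε = 1 := by rcases hε with h | h <;> simp [h]
  obtain ⟨X, hXpos, hX⟩ := Char.IsIrrCharacter.exists_degree (μ (orb ψ)).2
  have hdeg : ∀ l : GC S, (μ (orb l) : G → ℂ) 1 = (X : ℂ) := by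
    intro l
    have h := congrFun (hdiff l ψ) 1
    simp only [Pi.sub_apply, Pi.smul_apply, smul_eq_mul, Char.indFun_apply_one, val_one,
      sub_self] at h
    rw [← hX]
    exact sub_eq_zero.mp ((mul_eq_zero.mp h.symm).resolve_left hε0)
  have hsq : m * X ^ 2 ≤ Nat.card G := by
    choose d _ hd using fun φ : Cfsg.IrrCharacter G => Char.IsIrrCharacter.exists_degree φ.2
    have hdX : ∀ o, d (μ o) = X := by
      intro o
      obtain ⟨l, rfl⟩ := Quotient.exists_rep o
      have h := hd (μ (orb l))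
      rw [hdeg] at h
      exact_mod_cast h.symm
    have hall : ∑ φ, d φ ^ 2 = Nat.card G := by
      have h := Char.sum_mul_conj (1 : G) 1
      rw [if_pos (IsConj.refl _)] at h
      have hc1 : Subgroup.centralizer ({1} : Set G) = ⊤ := by
        ext z
        simp [Subgroup.mem_centralizer_singleton_iff]
      rw [hc1, Subgroup.card_top] at h
      simp only [hd, map_natCast, ← sq] at h
      exact_mod_cast h
    calc m * X ^ 2 = ∑ φ ∈ Finset.univ.image μ, d φ ^ 2 := by
          rw [Finset.sum_image fun x _ y _ h => hinj h]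
          simp [hdX, hm]
      _ ≤ ∑ φ, d φ ^ 2 := Finset.sum_le_sum_of_subset (Finset.subset_univ _)
      _ = _ := hall
  set D := (μ (orb ψ) : G → ℂ) t with hD
  set D' := (μ (orb ψ') : G → ℂ) t with hD'
  have hane : (a : ℂ) ≠ 0 := Nat.cast_ne_zero.mpr hapos.ne'
  have hDD : D - D' = ε * S₀ := by
    have e := congrFun (hdiff ψ ψ') (t : G)
    simp only [Pi.sub_apply, Pi.smul_apply, smul_eq_mul] at e
    rw [h.indFun_apply_of_mem _ htne, h.indFun_apply_of_mem _ htne, hsum, hsum,
      inv_mul_cancel_left₀ hane, inv_mul_cancel_left₀ hane, ← Finset.sum_sub_distrib] at e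
    rw [hS₀def, e, ← mul_assoc, hε2, one_mul]
  -- the class multiplication formula
  set I := (Finset.univ.filter (IsConj (t : G))).card with hI
  have hIa : I * a = Nat.card G := by
    have e := Char.card_isConj_mul_card_centralizer (t : G)
    have hcent : Subgroup.centralizer ({(t : G)} : Set G) = CS S := le_antisymm
      (fun x hx => h.cent _ ht ht1 x (mem_centralizer_singleton_iff.mp hx))
      (fun x hx => mem_centralizer_singleton_iff.mpr (commute_of_mem hx ht).eq)
    rw [hcent, Nat.card_eq_fintype_card (α := {x : G // IsConj (t : G) x}),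
      Fintype.card_subtype] at e
    exact e
  let P : CS S → ℕ := fun x =>
    ((Finset.univ.filter (IsConj (t : G)) ×ˢ Finset.univ.filter (IsConj (t : G))).filter
      (fun p => p.1 * p.2 = (x : G))).card
  have hinv : ∀ {v : G}, IsConj (t : G) v → orderOf v = 2 := by
    intro v hv
    obtain ⟨g, rfl⟩ := isConj_iff.mp hv
    rw [Invol.orderOf_conj, htG]
  have hpair : ∀ {v w : G} (x : CS S), x ≠ 1 → IsConj (t : G) v → IsConj (t : G) w →
      v * w = (x : G) → v ∈ (S : Subgroup G) ∧ (x : G) ∈ (S : Subgroup G) := by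
    intro v w x hx hv hw e
    have hi : v * (x : G) * v⁻¹ = (x : G)⁻¹ := by
      rw [← e]
      exact Invol.conj_prod (Invol.mul_self_eq_one (hinv hv)) (Invol.mul_self_eq_one (hinv hw))
    have hvS : v ∈ (S : Subgroup G) := AbInvCent.Hyp.mem_P_of_invol
      (h.mem_N_of_conj x.2 (fun e => hx (Subtype.ext e)) (hi ▸ inv_mem x.2)) (hinv hv)
    have hwK : w ∈ CS S := by
      have e' : w = v⁻¹ * (x : G) := by rw [← e, inv_mul_cancel_left]
      exact e' ▸ mul_mem (inv_mem (h.S_le_K hvS)) x.2
    exact ⟨hvS, e ▸ mul_mem hvS (AbInvCent.Hyp.mem_P_of_invol (K_le_N hwK) (hinv hw))⟩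
  have hP : ∀ x : CS S, x ≠ 1 → P x = if x ∈ Sh then k - 1 else 0 := by
    intro x hx
    have hconj : ∀ z : CS S, z ∈ Sh → IsConj (t : G) (z : G) := fun z hz =>
      h.isConj_invol htG (h.orderOf_S ((hmemS z).mp hz).1
        fun e => ((hmemS z).mp hz).2 (Subtype.ext e))
    split_ifs with hxT
    · rw [← hShcard, ← Finset.card_erase_of_mem hxT]
      refine (Finset.card_bij (fun (y : CS S) _ => ((y : G), ((y * x : CS S) : G))) ?_ ?_ ?_).symm
      · intro y hy
        obtain ⟨hne, hy⟩ := Finset.mem_erase.mp hy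
        have hyy := h.sq_eq_one ((hmemS y).mp hy).1
        have hyx : y * x ∈ Sh := by
          refine (hmemS _).mpr ⟨mul_mem ((hmemS y).mp hy).1 ((hmemS x).mp hxT).1, fun e => hne ?_⟩
          rw [mul_eq_one_iff_inv_eq] at e
          rw [← e]
          exact Subtype.ext (eq_inv_of_mul_eq_one_left hyy)
        simp only [Finset.mem_filter, Finset.mem_product, Finset.mem_univ, true_and]
        refine ⟨⟨hconj y hy, hconj _ hyx⟩, ?_⟩
        rw [Subgroup.coe_mul, ← mul_assoc, hyy, one_mul]
      · intro y _ z _ e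
        exact Subtype.ext (congrArg Prod.fst e)
      · rintro ⟨v, w⟩ hp
        simp only [Finset.mem_filter, Finset.mem_product, Finset.mem_univ, true_and] at hp
        obtain ⟨⟨hv, hw⟩, hvw⟩ := hp
        have hvS := (hpair x hx hv hw hvw).1
        refine ⟨⟨v, h.S_le_K hvS⟩, Finset.mem_erase.mpr ⟨fun e => ?_,
          (hmemS _).mpr ⟨hvS, fun e => Invol.ne_one_of_invol (hinv hv) (congrArg Subtype.val e)⟩⟩, ?_⟩
        · have : v * w = v * 1 := by rw [hvw, mul_one, ← e]
          exact Invol.ne_one_of_invol (hinv hw) (mul_left_cancel this)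
        · rw [Subgroup.coe_mul, ← hvw, ← mul_assoc, Invol.mul_self_eq_one (hinv hv), one_mul]
    · rw [Finset.card_eq_zero, Finset.filter_eq_empty_iff]
      rintro ⟨v, w⟩ hp e
      simp only [Finset.mem_product, Finset.mem_filter, Finset.mem_univ, true_and] at hp
      exact hxT ((hmemS x).mpr ⟨(hpair x hx hp.1 hp.2 e).2, hx⟩)
  let g : CS S → ℂ := fun x => val ψ x - val ψ' x
  have hg1 : g 1 = 0 := by simp [g, val_one]
  have hL : ∑ x : CS S, (P x : ℂ) * g x = ((k : ℂ) - 1) * S₀ := by
    rw [hS₀def, Finset.mul_sum,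
      ← Finset.sum_subset (Finset.subset_univ Sh) (fun x _ hx => ?_)]
    · refine Finset.sum_congr rfl fun x hx => ?_
      rw [hP x ((hmemS x).mp hx).2, if_pos hx, Nat.cast_sub (by omega), Nat.cast_one]
    · by_cases hx1 : x = 1
      · rw [hx1, hg1, mul_zero]
      · rw [hP x hx1, if_neg hx, Nat.cast_zero, zero_mul]
  have hcol : ∀ φ : Cfsg.IrrCharacter G, ∑ x : CS S, g x * conj ((φ : G → ℂ) x) =
      (a : ℂ) * (ε * ((if μ (orb ψ) = φ then 1 else 0) - if μ (orb ψ') = φ then 1 else 0)) := by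
    intro φ
    have h1 : Cfsg.classInner g (fun x : CS S => (φ : G → ℂ) x) =
        ε * ((if μ (orb ψ) = φ then 1 else 0) - if μ (orb ψ') = φ then 1 else 0) := by
      show Cfsg.classInner (val ψ - val ψ') _ = _
      rw [← Char.classInner_indFun _ _ _ (Char.IsIrrCharacter.isClassFunction φ.2),
        Char.indFun_sub, hdiff, Char.classInner_smul_left, Char.classInner_sub_left,
        Char.classInner_irrCharacter, Char.classInner_irrCharacter]
    rw [← h1, Cfsg.classInner, ← ha, mul_inv_cancel_left₀ hane]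
  have hR : ∑ x : CS S, (P x : ℂ) * g x = (I : ℂ) * I / (Nat.card G : ℂ) *
      ((a : ℂ) * ε * (D * D / (X : ℂ) - D' * D' / (X : ℂ))) := by
    have hPc : ∀ x : CS S, (P x : ℂ) = (I : ℂ) * I / (Nat.card G : ℂ) *
        ∑ φ : Cfsg.IrrCharacter G,
          (φ : G → ℂ) t * (φ : G → ℂ) t * conj ((φ : G → ℂ) x) / (φ : G → ℂ) 1 := fun x => by
      convert CharDeep.ClassSum.card_pairs (t : G) t (x : G)
    simp only [hPc]
    simp only [mul_assoc ((I : ℂ) * I / (Nat.card G : ℂ)), ← Finset.mul_sum, Finset.sum_mul]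
    congr 1
    rw [Finset.sum_comm]
    have : ∀ φ : Cfsg.IrrCharacter G, ∑ x : CS S,
        (φ : G → ℂ) t * (φ : G → ℂ) t * conj ((φ : G → ℂ) x) / (φ : G → ℂ) 1 * g x =
        ((a : ℂ) * ε * (if μ (orb ψ) = φ then
          (φ : G → ℂ) t * (φ : G → ℂ) t / (φ : G → ℂ) 1 else 0)) -
        ((a : ℂ) * ε * (if μ (orb ψ') = φ then
          (φ : G → ℂ) t * (φ : G → ℂ) t / (φ : G → ℂ) 1 else 0)) := by
      intro φ
      calc _ = (φ : G → ℂ) t * (φ : G → ℂ) t / (φ : G → ℂ) 1 *
            ∑ x : CS S, g x * conj ((φ : G → ℂ) x) := by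
            rw [Finset.mul_sum]
            exact Finset.sum_congr rfl fun x _ => by ring
        _ = _ := by
            rw [hcol]
            split_ifs <;> ring
    rw [Finset.sum_congr rfl fun φ _ => this φ, Finset.sum_sub_distrib, ← Finset.mul_sum,
      ← Finset.mul_sum, Finset.sum_ite_eq, Finset.sum_ite_eq, if_pos (Finset.mem_univ _),
      if_pos (Finset.mem_univ _), hdeg, hdeg, ← hD, ← hD', mul_sub]
  have hXne : (X : ℂ) ≠ 0 := Nat.cast_ne_zero.mpr hXpos.ne'
  have hGne : (Nat.card G : ℂ) ≠ 0 := Nat.cast_ne_zero.mpr Nat.card_pos.ne'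
  have hIne : (I : ℂ) ≠ 0 := by
    refine Nat.cast_ne_zero.mpr fun h => ?_
    rw [h, zero_mul] at hIa
    exact Nat.card_pos.ne hIa
  have hIaC : (I : ℂ) * a = (Nat.card G : ℂ) := by exact_mod_cast hIa
  have hJ : (D + D') * (Nat.card G : ℂ) = ((k : ℂ) - 1) * a * X := by
    have h := hL.symm.trans hR
    field_simp at h
    refine mul_left_cancel₀ (mul_ne_zero hS hIne) ?_
    rw [← hIaC] at h ⊢
    linear_combination (-1 : ℂ) * h - (D + D') * (I : ℂ) * I * a * ε * hDD -
      (D + D') * (I : ℂ) * I * a * S₀ * hε2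
  obtain ⟨z, hz⟩ : ∃ z : ℤ, ((((k - 1) * a * X : ℕ) : ℚ) / (Nat.card G : ℚ)) = z := by
    suffices h : IsIntegral ℤ ((((((k - 1) * a * X : ℕ) : ℚ) / (Nat.card G : ℚ)) : ℚ) : ℂ) from
      (Char.exists_int_of_isIntegral_ratCast h).imp fun z hz => hz.symm
    have : (((((k - 1) * a * X : ℕ) : ℚ) / (Nat.card G : ℚ) : ℚ) : ℂ) = D + D' := by
      push_cast [Nat.cast_sub (show 1 ≤ k by omega)]
      rw [div_eq_iff hGne, hJ]
    rw [this]
    exact IsIntegral.add
      (Char.IsGeneralizedCharacter.isIntegral_apply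
        (Char.IsIrrCharacter.isGeneralizedCharacter (μ (orb ψ)).2) _)
      (Char.IsGeneralizedCharacter.isIntegral_apply
        (Char.IsIrrCharacter.isGeneralizedCharacter (μ (orb ψ')).2) _)
  have hle : Nat.card G ≤ (k - 1) * a * X := by
    by_contra hlt
    push Not at hlt
    have hposQ : (0 : ℚ) < (((k - 1) * a * X : ℕ) : ℚ) := by
      exact_mod_cast Nat.mul_pos (Nat.mul_pos (by omega) hapos) hXpos
    have hGQ : (0 : ℚ) < (Nat.card G : ℚ) := by exact_mod_cast Nat.card_pos
    have hlt' : (((k - 1) * a * X : ℕ) : ℚ) < (Nat.card G : ℚ) := by exact_mod_cast hlt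
    have h0 : (0 : ℚ) < z := hz ▸ div_pos hposQ hGQ
    have h1 : (z : ℚ) < 1 := hz ▸ (div_lt_one hGQ).mpr hlt'
    norm_cast at h0 h1
    omega
  have hnX : n < X := by
    rw [hGcard] at hle
    obtain ⟨p, hp⟩ : ∃ p, k = p + 1 := ⟨k - 1, by omega⟩
    rw [hp, Nat.add_sub_cancel] at hle
    by_contra hXn
    push Not at hXn
    have h1 := Nat.mul_le_mul_left (p * a) hXn
    have h2 : n * (a * (p + 1)) = p * a * n + n * a := by ring
    have h3 : 0 < n * a := Nat.mul_pos hnpos hapos
    omega
  have hmpos : 0 < m := Fintype.card_pos_iff.mpr ⟨orb ψ⟩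
  have hfin : m * n < a * k := by
    rw [hGcard] at hsq
    by_contra h
    push Not at h
    have h1 : m * n ^ 2 < m * X ^ 2 :=
      Nat.mul_lt_mul_of_pos_left (Nat.pow_lt_pow_left hnX (by norm_num)) hmpos
    have h2 := Nat.mul_le_mul_left n h
    have h3 : n * (m * n) = m * n ^ 2 := by ring
    omega
  rw [hGC]
  calc m * k * n = k * (m * n) := by ring
    _ < k * (a * k) := Nat.mul_lt_mul_of_pos_left hfin (by omega)
    _ = k * k * a := by ring

end CfsgLib.TwoR.Reg
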