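import Cfsg.Agent.Lib.TwoR.RegularFix
import Cfsg.Agent.Lib.TwoR.RegularClass
import Mathlib.GroupTheory.FiniteAbelian.Duality
import Mathlib.Analysis.Complex.Polynomial.Basic

/-!
# No `r`-element centralises a TI Sylow `2`-subgroup in the regular case
-/

set_option autoImplicit false
set_option linter.style.haveILetI false
set_option linter.unusedSectionVars false

namespace CfsgLib.TwoR

open Subgroup CfsgLib

universe u

variable {G : Type u} [Group G]

/-- Homomorphisms to `ℂˣ` are counted by the abelianisation. -/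
theorem card_hom_units (H : Type*) [Group H] [Finite H] :
    Nat.card (H →* ℂˣ) = Nat.card (Abelianization H) := by
  haveI : Finite (Abelianization H) := inferInstanceAs (Finite (H ⧸ commutator H))
  have : NeZero (Monoid.exponent (Abelianization H) : ℂ) :=
    ⟨Nat.cast_ne_zero.mpr Monoid.exponent_ne_zero_of_finite⟩
  exact (Nat.card_congr Abelianization.lift).trans
    (CommGroup.card_monoidHom_of_hasEnoughRootsOfUnity _ _)

namespace Reg

variable [Finite G] {r : ℕ} {S : Sylow 2 G} (h : Reg G r S)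
include h

local notation "S'" => (S : Subgroup G)
local notation "K" => centralizer ((S : Subgroup G) : Set G)
local notation "N" => normalizer ((S : Subgroup G) : Set G)
local notation "A₀" => oddPart r S
local notation "ρ" => normalizerMonoidHom (S : Subgroup G)

theorem mul_pow_succ {b c : G} (hb : b ∈ K) (hc : c ∈ K) :
    (b * c) ^ (r + 1) = b ^ (r + 1) * c ^ (r + 1) := by
  rw [pow_succ, h.mul_pow_r hb hc, pow_succ, pow_succ]
  have := (commute_of_mem hb (h.pow_r_mem_S hc)).eq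
  rw [mul_assoc, ← mul_assoc (c ^ r) b c, ← this]
  group

/-- The linear character of `C(S) = S × A` with components `σ` and `α`. -/
noncomputable def mkChar (σ : S' →* ℂˣ) (α : oddPart r S →* ℂˣ) : CS S →* ℂˣ :=
  MonoidHom.mk' (fun b => σ ⟨(b : G) ^ r, h.pow_r_mem_S b.2⟩ * α ⟨(b : G) ^ (r + 1), h.proj_A b.2⟩)
    fun b c => by
      show σ _ * α _ = _
      rw [mul_mul_mul_comm, ← map_mul, ← map_mul]
      congr 2
      · exact Subtype.ext (h.mul_pow_r b.2 c.2)
      · exact Subtype.ext (h.mul_pow_succ b.2 c.2)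

theorem mkChar_S (σ : S' →* ℂˣ) (α : oddPart r S →* ℂˣ) (s : S') :
    h.mkChar σ α ⟨s, h.S_le_K s.2⟩ = σ s := by
  show σ _ * α _ = _
  rw [show (⟨(s : G) ^ r, _⟩ : S') = s from Subtype.ext (h.pow_r_S s.2),
    show (⟨(s : G) ^ (r + 1), h.proj_A (h.S_le_K s.2)⟩ : oddPart r S) = 1 from Subtype.ext (show (s : G) ^ (r + 1) = 1 by
      rw [pow_succ, h.pow_r_S s.2, h.sq_eq_one s.2]), map_one, mul_one]

theorem mkChar_A (σ : S' →* ℂˣ) (α : oddPart r S →* ℂˣ) (c : oddPart r S) :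
    h.mkChar σ α ⟨c, h.A_le_K c.2⟩ = α c := by
  show σ _ * α _ = _
  rw [show (⟨(c : G) ^ r, h.pow_r_mem_S (h.A_le_K c.2)⟩ : S') = 1 from
      Subtype.ext (h.pow_r_A c.2),
    show (⟨(c : G) ^ (r + 1), h.proj_A (h.A_le_K c.2)⟩ : oddPart r S) = c from Subtype.ext (show (c : G) ^ (r + 1) = c by
      rw [pow_succ, h.pow_r_A c.2, one_mul]), map_one, one_mul]

/-- A character nontrivial on `S` is fixed by no element outside `C(S)`. -/
theorem isGood_of_ne_one {σ : S' →* ℂˣ} (hσ : σ ≠ 1) (α : oddPart r S →* ℂˣ) :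
    IsGood S (h.mkChar σ α) := by
  intro x hx
  by_contra hxK
  let f : S' → S' := fun s =>
    ⟨(x : G) * s * (x : G)⁻¹ * (s : G)⁻¹,
      mul_mem ((mem_normalizer_iff.mp x.2 _).mp s.2) (inv_mem s.2)⟩
  have hf : Function.Surjective f := by
    refine Finite.injective_iff_surjective.mp fun s s' e => ?_
    by_contra hne
    refine hxK (h.mem_K_of_fix (mul_mem (inv_mem s'.2) s.2)
      (fun e' => hne (Subtype.ext (inv_mul_eq_one.mp e').symm)) ?_)
    have e' : (x : G) * s * (x : G)⁻¹ * (s : G)⁻¹ = (x : G) * s' * (x : G)⁻¹ * (s' : G)⁻¹ :=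
      congrArg Subtype.val e
    calc (x : G) * ((s' : G)⁻¹ * s) * (x : G)⁻¹
        = ((x : G) * s' * (x : G)⁻¹)⁻¹ * ((x : G) * s * (x : G)⁻¹ * (s : G)⁻¹) * s := by group
      _ = ((x : G) * s' * (x : G)⁻¹)⁻¹ * ((x : G) * s' * (x : G)⁻¹ * (s' : G)⁻¹) * s := by rw [e']
      _ = (s' : G)⁻¹ * s := by group
  refine hσ (MonoidHom.ext fun v => ?_)
  obtain ⟨s, rfl⟩ := hf v
  have hs : (x : G) * s * (x : G)⁻¹ ∈ S' := (mem_normalizer_iff.mp x.2 _).mp s.2
  have e := hx ⟨s, h.S_le_K s.2⟩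
  rw [show conjK S x ⟨s, h.S_le_K s.2⟩ = ⟨((⟨_, hs⟩ : S') : G), h.S_le_K hs⟩ from rfl,
    h.mkChar_S, h.mkChar_S] at e
  rw [show f s = ⟨_, hs⟩ * s⁻¹ from rfl, map_mul, map_inv, e, mul_inv_cancel, MonoidHom.one_apply]

/-- The stabiliser in `N(S)` of a character of `A`. -/
def fixA (α : oddPart r S →* ℂˣ) : Subgroup N where
  carrier := {n | ∀ c : oddPart r S, α ⟨(n : G) * c * (n : G)⁻¹, h.conj_mem_A n.2 c.2⟩ = α c}
  one_mem' c := congrArg α (Subtype.ext (by simp))
  mul_mem' {n n'} hn hn' c := by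
    rw [← hn' c, ← hn ⟨_, h.conj_mem_A n'.2 c.2⟩]
    exact congrArg α (Subtype.ext (by simp [mul_assoc]))
  inv_mem' {n} hn c := by
    rw [← hn ⟨_, h.conj_mem_A (n⁻¹).2 c.2⟩]
    exact congrArg α (Subtype.ext (by simp [mul_assoc]))

theorem mem_fixA {α : oddPart r S →* ℂˣ} {n : N} : n ∈ h.fixA α ↔
    ∀ c : oddPart r S, α ⟨(n : G) * c * (n : G)⁻¹, h.conj_mem_A n.2 c.2⟩ = α c := Iff.rfl

theorem K_le_fixA (α : oddPart r S →* ℂˣ) {n : N} (hn : (n : G) ∈ K) : n ∈ h.fixA α := fun c => by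
  have e : (⟨(n : G) * c * (n : G)⁻¹, h.conj_mem_A n.2 c.2⟩ : oddPart r S) =
      ⟨_, h.proj_A hn⟩ * c * (⟨_, h.proj_A hn⟩ : oddPart r S)⁻¹ := by
    refine Subtype.ext ?_
    show (n : G) * c * (n : G)⁻¹ = (n : G) ^ (r + 1) * c * ((n : G) ^ (r + 1))⁻¹
    have hc := commute_of_mem (h.A_le_K c.2) (h.pow_r_mem_S hn)
    have hn' := (Commute.refl (n : G)).pow_left r
    conv_rhs => rw [pow_succ', mul_inv_rev]
    calc (n : G) * c * (n : G)⁻¹
        = (n : G) * ((c : G) * (n : G) ^ r) * ((n : G) ^ r)⁻¹ * (n : G)⁻¹ := by group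
      _ = (n : G) * ((n : G) ^ r * c) * ((n : G) ^ r)⁻¹ * (n : G)⁻¹ := by rw [hc.eq]
      _ = (n : G) * (n : G) ^ r * c * (((n : G) ^ r)⁻¹ * (n : G)⁻¹) := by group
  rw [e, map_mul, map_mul, map_inv, mul_comm, ← mul_assoc, inv_mul_cancel, one_mul]

theorem isGood_one {α : oddPart r S →* ℂˣ} (hα : ∀ n ∈ h.fixA α, (n : G) ∈ K) :
    IsGood S (h.mkChar 1 α) := fun x hx => hα x fun c => by
  have e := hx ⟨c, h.A_le_K c.2⟩
  rw [show conjK S x ⟨c, h.A_le_K c.2⟩ =
      ⟨((⟨_, h.conj_mem_A x.2 c.2⟩ : oddPart r S) : G), h.A_le_K (h.conj_mem_A x.2 c.2)⟩ from rfl,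
    h.mkChar_A, h.mkChar_A] at e
  exact e

/-- When `r` does not divide `|S| - 1`, only `C(S)` fixes a nontrivial character of `A`. -/
theorem fixA_a (hr : ¬ r ∣ Nat.card S' - 1) {α : oddPart r S →* ℂˣ} (hα : α ≠ 1) :
    ∀ n ∈ h.fixA α, (n : G) ∈ K := by
  intro n hn
  by_contra hnK
  have hne : orderOf (ρ n) ≠ 1 := fun e => hnK ((rho_eq_one_iff n).mp (orderOf_eq_one_iff.mp e))
  obtain ⟨q, hq, hqd⟩ := Nat.exists_prime_and_dvd hne
  have hy : orderOf (ρ (n ^ (orderOf (ρ n) / q))) = q := by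
    rw [map_pow, orderOf_pow_of_dvd ((Nat.div_ne_zero_iff_of_dvd hqd).mpr
      ⟨(orderOf_pos (ρ n)).ne', hq.ne_zero⟩) (Nat.div_dvd_of_dvd hqd),
      Nat.div_div_self hqd (orderOf_pos (ρ n)).ne']
  set y := n ^ (orderOf (ρ n) / q)
  have hyfix : y ∈ h.fixA α := pow_mem hn _
  have hqX : q ∣ Nat.card (autX S) := by
    rw [← hy]
    exact Subgroup.orderOf_dvd_natCard _ ⟨y, rfl⟩
  have hfpf : ∀ c ∈ A₀, Commute (y : G) c → c = 1 := by
    intro c hc hcy
    by_contra hc1
    have e : y ^ (2 * r) = 1 := Subtype.ext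
      (h.setting.hyp.pow_two_r_of_commute_relem (h.pow_r_A hc) hc1 hcy)
    have hd : q ∣ 2 * r := hy ▸ orderOf_dvd_of_pow_eq_one (by rw [← map_pow, e, map_one])
    rcases hq.dvd_mul.mp hd with h1 | h1
    · rw [(Nat.prime_dvd_prime_iff_eq hq Nat.prime_two).mp h1] at hqX
      exact (Nat.not_even_iff_odd.mpr h.card_X_odd) (even_iff_two_dvd.mpr hqX)
    · rw [(Nat.prime_dvd_prime_iff_eq hq h.setting.hyp.prime).mp h1, h.card_X] at hqX
      exact hr hqX
  let f : oddPart r S → oddPart r S := fun c =>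
    c⁻¹ * ⟨(y : G) * c * (y : G)⁻¹, h.conj_mem_A y.2 c.2⟩
  have hf : Function.Surjective f := by
    refine Finite.injective_iff_surjective.mp fun c c' e => ?_
    have e' : (c : G)⁻¹ * ((y : G) * c * (y : G)⁻¹) =
        (c' : G)⁻¹ * ((y : G) * c' * (y : G)⁻¹) := congrArg Subtype.val e
    have hcomm : Commute (y : G) ((c' : G) * (c : G)⁻¹) := by
      refine mul_inv_eq_iff_eq_mul.mp ?_
      calc (y : G) * ((c' : G) * (c : G)⁻¹) * (y : G)⁻¹
          = ((c' : G) * ((c' : G)⁻¹ * ((y : G) * c' * (y : G)⁻¹))) *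
            ((c : G) * ((c : G)⁻¹ * ((y : G) * c * (y : G)⁻¹)))⁻¹ := by group
        _ = ((c' : G) * ((c : G)⁻¹ * ((y : G) * c * (y : G)⁻¹))) *
            ((c : G) * ((c : G)⁻¹ * ((y : G) * c * (y : G)⁻¹)))⁻¹ := by rw [e']
        _ = (c' : G) * (c : G)⁻¹ := by group
    exact Subtype.ext (mul_inv_eq_one.mp (hfpf _ (mul_mem c'.2 (inv_mem c.2)) hcomm)).symm
  refine hα (MonoidHom.ext fun v => ?_)
  obtain ⟨c, rfl⟩ := hf v
  rw [show f c = c⁻¹ * _ from rfl, map_mul, map_inv, hyfix c, inv_mul_cancel, MonoidHom.one_apply]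

/-- When `|S| - 1 = r`, a moved character of `A` is fixed by `C(S)` only. -/
theorem fixA_b (hk : Nat.card S' - 1 = r) {α : oddPart r S →* ℂˣ} {n : N} (hn : n ∉ h.fixA α) :
    ∀ x ∈ h.fixA α, (x : G) ∈ K := by
  intro x hx
  by_contra hxK
  haveI := Fact.mk h.setting.hyp.prime
  have hX : Nat.card (autX S) = r := h.card_X.trans hk
  have hne : (⟨ρ x, x, rfl⟩ : autX S) ≠ 1 := fun e =>
    hxK ((rho_eq_one_iff x).mp (congrArg Subtype.val e))
  obtain ⟨i, hi⟩ := mem_zpowers_iff.mp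
    (mem_zpowers_of_prime_card hX hne (g' := (⟨ρ n, n, rfl⟩ : autX S)))
  have e : ρ x ^ i = ρ n := congrArg Subtype.val hi
  have hK : ((x ^ i)⁻¹ * n : N) ∈ h.fixA α := h.K_le_fixA α ((rho_eq_one_iff _).mp (by
    rw [map_mul, map_inv, map_zpow, e, inv_mul_cancel]))
  have := mul_mem (zpow_mem hx i) hK
  rw [mul_inv_cancel_left] at this
  exact hn this

/-- With `r` not dividing `|S| - 1` there are more characters of `A` than elements of `S`. -/
theorem lt_card_ab (hr : ¬ r ∣ Nat.card S' - 1) {α : oddPart r S →* ℂˣ} (hα : α ≠ 1) :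
    Nat.card S' - 1 < Nat.card (Abelianization (oddPart r S)) := by
  classical
  haveI : Finite (oddPart r S →* ℂˣ) := Nat.finite_of_card_ne_zero (by
    rw [card_hom_units]
    haveI : Finite (Abelianization (oddPart r S)) :=
      inferInstanceAs (Finite (oddPart r S ⧸ commutator (oddPart r S)))
    exact Nat.card_pos.ne')
  haveI := Fintype.ofFinite (oddPart r S →* ℂˣ)
  let w : autX S → N := fun x => x.2.choose
  have hw : ∀ x : autX S, ρ (w x) = x := fun x => x.2.choose_spec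
  let tr : N → (oddPart r S →* ℂˣ) := fun n => MonoidHom.mk'
    (fun c => α ⟨(n : G) * c * (n : G)⁻¹, h.conj_mem_A n.2 c.2⟩) fun c d => by
      rw [← map_mul]
      exact congrArg α (Subtype.ext (by simp [mul_assoc]))
  rw [← h.card_X, ← card_hom_units]
  rw [Nat.card_eq_fintype_card (α := oddPart r S →* ℂˣ)]
  haveI := Fintype.ofFinite (autX S)
  rw [Nat.card_eq_fintype_card]
  refine Fintype.card_lt_of_injective_of_notMem (fun x => tr (w x)) (fun x x' e => ?_)
    (b := 1) ?_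
  · have hfix : w x * (w x')⁻¹ ∈ h.fixA α := fun c => by
      have e' : α ⟨(w x : G) * ((⟨_, h.conj_mem_A ((w x')⁻¹).2 c.2⟩ : oddPart r S) : G) *
            (w x : G)⁻¹, _⟩ = α ⟨(w x' : G) * ((⟨_, h.conj_mem_A ((w x')⁻¹).2 c.2⟩ :
              oddPart r S) : G) * (w x' : G)⁻¹, _⟩ :=
        DFunLike.congr_fun e (⟨_, h.conj_mem_A ((w x')⁻¹).2 c.2⟩ : oddPart r S)
      refine Eq.trans ?_ (e'.trans (congrArg α (Subtype.ext ?_)))
      · exact congrArg α (Subtype.ext (by simp [mul_assoc]))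
      · simp [mul_assoc]
    have := (rho_eq_one_iff _).mpr (h.fixA_a hr hα _ hfix)
    rw [map_mul, map_inv, hw, hw, mul_inv_eq_one] at this
    exact Subtype.ext this
  · rintro ⟨x, hx⟩
    refine hα (MonoidHom.ext fun c => ?_)
    have e := DFunLike.congr_fun hx
      (⟨_, h.conj_mem_A ((w x)⁻¹).2 c.2⟩ : oddPart r S)
    rw [MonoidHom.one_apply] at e ⊢
    rw [← e]
    exact congrArg α (Subtype.ext (by simp [mul_assoc]))

/-- The good characters are numerous, so the index of `N(S)` is small. -/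
theorem index_small {α : oddPart r S →* ℂˣ} (hα : ∀ n ∈ h.fixA α, (n : G) ∈ K) :
    ((Nat.card S' - 1) * Nat.card (Abelianization (oddPart r S)) + 1) * (N).index <
      (Nat.card S' - 1) * (Nat.card S' - 1) * Nat.card K := by
  classical
  cases nonempty_fintype G
  haveI : Finite (Abelianization (oddPart r S)) :=
    inferInstanceAs (Finite (oddPart r S ⧸ commutator (oddPart r S)))
  haveI : IsMulCommutative S' := ⟨⟨fun x y => Subtype.ext (h.comm_S x.2 y.2)⟩⟩
  have hcardS : Nat.card (S' →* ℂˣ) = Nat.card S' := by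
    let _ : CommGroup S' := { (inferInstance : Group S') with
      mul_comm := fun a b => Subtype.ext (h.comm_S a.2 b.2) }
    have : NeZero (Monoid.exponent S' : ℂ) :=
      ⟨Nat.cast_ne_zero.mpr Monoid.exponent_ne_zero_of_finite⟩
    exact CommGroup.card_monoidHom_of_hasEnoughRootsOfUnity S' ℂ
  haveI : Finite (S' →* ℂˣ) := Nat.finite_of_card_ne_zero (by rw [hcardS]; exact Nat.card_pos.ne')
  haveI : Finite (oddPart r S →* ℂˣ) := Nat.finite_of_card_ne_zero (by
    rw [card_hom_units]; exact Nat.card_pos.ne')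
  have hne : ∃ σ : S' →* ℂˣ, σ ≠ 1 := by
    by_contra hc
    push Not at hc
    haveI : Subsingleton (S' →* ℂˣ) := ⟨fun a b => (hc a).trans (hc b).symm⟩
    have := Nat.card_eq_one_iff_unique.mpr
      ⟨(inferInstance : Subsingleton (S' →* ℂˣ)), ⟨1⟩⟩
    have := h.setting.four_le
    omega
  obtain ⟨σ₀, hσ₀⟩ := hne
  let ψ : GC S := ⟨h.mkChar σ₀ α, h.isGood_of_ne_one hσ₀ α⟩
  let ψ' : GC S := ⟨h.mkChar 1 α, h.isGood_one hα⟩
  have hb := h.index_bound ψ ψ' (by
    by_contra hc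
    push Not at hc
    exact hσ₀ (MonoidHom.ext fun s => (h.mkChar_S σ₀ α s).symm.trans (hc _ s.2)))
    (fun b hb => h.mkChar_S 1 α ⟨b, hb⟩)
  refine lt_of_le_of_lt (Nat.mul_le_mul_right _ ?_) hb
  haveI : Finite (GC S) := Finite.of_injective irr irr_injective
  let F : Option ({σ : S' →* ℂˣ // σ ≠ 1} × (oddPart r S →* ℂˣ)) → GC S := fun o =>
    o.elim ψ' fun p => ⟨h.mkChar p.1.1 p.2, h.isGood_of_ne_one p.1.2 p.2⟩
  have hFS : ∀ (σ σ' : S' →* ℂˣ) (β β' : oddPart r S →* ℂˣ),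
      h.mkChar σ β = h.mkChar σ' β' → σ = σ' ∧ β = β' := fun σ σ' β β' e =>
    ⟨MonoidHom.ext fun s => by rw [← h.mkChar_S σ β s, e, h.mkChar_S],
      MonoidHom.ext fun c => by rw [← h.mkChar_A σ β c, e, h.mkChar_A]⟩
  have hF : Function.Injective F := by
    rintro (_ | ⟨σ, β⟩) (_ | ⟨σ', β'⟩) e
    · rfl
    · exact absurd (hFS _ _ _ _ (congrArg Subtype.val e)).1.symm σ'.2
    · exact absurd (hFS _ _ _ _ (congrArg Subtype.val e)).1 σ.2
    · obtain ⟨e1, e2⟩ := hFS _ _ _ _ (congrArg Subtype.val e)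
      rw [show σ = σ' from Subtype.ext e1, show β = β' from e2]
  have hle := Nat.card_le_card_of_injective F hF
  rw [Finite.card_option, Nat.card_prod, card_hom_units] at hle
  have e : Nat.card {σ : S' →* ℂˣ // σ ≠ 1} = Nat.card S' - 1 := by
    haveI := Fintype.ofFinite (S' →* ℂˣ)
    rw [← hcardS, Nat.card_eq_fintype_card, Nat.card_eq_fintype_card, Fintype.card_subtype_compl,
      Fintype.card_subtype_eq]
  rwa [e] at hle

theorem false_of_nontrivial_A [IsSimpleGroup G] (hab : ∃ a b : G, a * b ≠ b * a) {a : G}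
    (haA : a ∈ A₀) (ha : a ≠ 1) : False := by
  classical
  haveI := Fact.mk h.setting.hyp.prime
  by_cases hA : ∀ x ∈ A₀, ∀ y ∈ A₀, Commute x y
  · exact h.false_of_comm hab haA ha hA
  haveI : Finite (Abelianization (oddPart r S)) :=
    inferInstanceAs (Finite (oddPart r S ⧸ commutator (oddPart r S)))
  have hsq := h.sq_le_card_ab hA
  have h4 := h.setting.four_le
  have hr2 := h.setting.hyp.prime.two_le
  set a₀ := Nat.card (Abelianization (oddPart r S)) with ha₀
  set k := Nat.card S' - 1 with hk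
  set n := (N).index with hn
  by_cases hr : r ∣ k
  · have hkr : k = r := h.k_eq_r hr
    by_cases hfix : ∀ m : N, ∀ c : oddPart r S,
      (⟨(m : G) * c * (m : G)⁻¹, h.conj_mem_A m.2 c.2⟩ : oddPart r S) * c⁻¹ ∈
        commutator (oddPart r S)
    · exact h.false_of_fix hab hkr haA ha hA hfix
    push Not at hfix
    obtain ⟨m, c, hmc⟩ := hfix
    have : NeZero (Monoid.exponent (Abelianization (oddPart r S)) : ℂ) :=
      ⟨Nat.cast_ne_zero.mpr Monoid.exponent_ne_zero_of_finite⟩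
    obtain ⟨φ, hφ⟩ := CommGroup.exists_apply_ne_one_of_hasEnoughRootsOfUnity
      (Abelianization (oddPart r S)) ℂ (a := Abelianization.of _)
      (fun e => hmc ((QuotientGroup.eq_one_iff _).mp e))
    have hm : m ∉ h.fixA (φ.comp Abelianization.of) := fun hm => hφ (by
      rw [map_mul, map_mul, map_inv, map_inv]
      exact mul_inv_eq_one.mpr (hm c))
    have hb := h.index_small (h.fixA_b hkr hm)
    have hl := h.index_lower_b hkr
    rw [← hk, hkr] at hb
    rw [← hn] at hl hb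
    rw [← ha₀] at hb
    have h1 : r * (r ^ 2) * n ≤ (r * a₀ + 1) * n :=
      Nat.mul_le_mul_right _ ((Nat.mul_le_mul_left _ hsq).trans (Nat.le_succ _))
    have h2 : r * r * Nat.card K < r * r * (n * r) :=
      Nat.mul_lt_mul_of_pos_left hl (by positivity)
    rw [pow_two] at h1
    have h3 : r * (r * r) * n = r * r * (n * r) := by ring
    omega
  · have hα : ∃ α : oddPart r S →* ℂˣ, α ≠ 1 := by
      by_contra hc
      push Not at hc
      haveI : Subsingleton (oddPart r S →* ℂˣ) := ⟨fun x y => (hc x).trans (hc y).symm⟩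
      have e := Nat.card_eq_one_iff_unique.mpr
        ⟨(inferInstance : Subsingleton (oddPart r S →* ℂˣ)), ⟨1⟩⟩
      rw [card_hom_units, ← ha₀] at e
      rw [e, pow_two] at hsq
      nlinarith
    obtain ⟨α, hα⟩ := hα
    have hb := h.index_small (h.fixA_a hr hα)
    have hl := h.index_lower_a hr
    have hgt := h.lt_card_ab hr hα
    rw [← hk] at hb hgt
    rw [← hn] at hl hb
    rw [← ha₀] at hb hgt
    have h1 : k * k * (Nat.card K + 1) ≤ (k * a₀ + 1) * n :=
      Nat.mul_le_mul ((Nat.mul_le_mul_left k hgt.le).trans (Nat.le_succ _)) hl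
    have h2 : k * k * Nat.card K ≤ k * k * (Nat.card K + 1) := Nat.mul_le_mul_left _ (by omega)
    omega

end Reg

/-- In the regular case a TI Sylow `2`-subgroup of a simple group is self-centralising. -/
theorem false_of_regular [Finite G] [IsSimpleGroup G] (hab : ∃ a b : G, a * b ≠ b * a) {r : ℕ}
    {S : Sylow 2 G} (hT : TISetting G r S)
    (hcent : ∀ t ∈ (S : Subgroup G), t ≠ 1 → ∀ g : G, Commute g t →
      g ∈ centralizer ((S : Subgroup G) : Set G))
    {a : G} (haS : a ∈ centralizer ((S : Subgroup G) : Set G)) (har : a ^ r = 1) (ha : a ≠ 1) :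
    False := by
  have h : Reg G r S := ⟨hT, hcent⟩
  exact h.false_of_nontrivial_A hab (h.mem_A.mpr ⟨haS, har⟩) ha

end CfsgLib.TwoR
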