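import Cfsg.Agent.Lib.TwoR.Assemble
import Cfsg.Agent.Lib.TwoR.Four
import Cfsg.Agent.Lib.TwoR.Regular
import Cfsg.Agent.Lib.TwoR.CITList

/-!
# Simple groups with even element orders `2` and `2r`, up to the field-automiser branch
-/

set_option autoImplicit false

open Subgroup

namespace CfsgLib.TwoR

universe u

/-- The field-automiser branch, as a proposition. -/
def FieldBranch (G : Type u) [Group G] (r : ℕ) : Prop :=
  ∀ S : Sylow 2 G, TISetting G r S → ∀ t g : G, t ∈ (S : Subgroup G) → t ≠ 1 →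
    Commute g t → g ∉ centralizer ((S : Subgroup G) : Set G) → False

variable {G : Type u} [Group G] [Finite G] [IsSimpleGroup G]

theorem isCIT_or_psl_of_field (hab : ∃ a b : G, a * b ≠ b * a) {r : ℕ} (h : Hyp G r)
    (hfield : FieldBranch G r) : CfsgLib.CIT.IsCIT G ∨ OddPSL G :=
  isCIT_or_psl_of hab h (fun S hexp h4 => four_case hab h S hexp h4)
    (fun _ hT hcent _ haS har ha => false_of_regular hab hT hcent haS har ha) hfield

/-- The `S3718` conclusion, up to the field-automiser branch. -/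
theorem oneComposite_of_field (h1 : CfsgLib.CITFilter.OneComposite G)
    (hfield : (∃ a b : G, a * b ≠ b * a) → ∀ r : ℕ, Hyp G r → FieldBranch G r) :
    (Nat.card G).Prime ∨
    (∃ (F : Type) (_ : Field F) (_ : Fintype F), (Fintype.card F = 5 ∨ Fintype.card F = 7 ∨
        Fintype.card F = 8 ∨ Fintype.card F = 9 ∨ Fintype.card F = 11 ∨ Fintype.card F = 13 ∨
        Fintype.card F = 16) ∧ Nonempty (G ≃* Matrix.ProjectiveSpecialLinearGroup (Fin 2) F)) ∨
    (∃ (F : Type) (_ : Field F) (_ : Fintype F), Fintype.card F = 4 ∧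
        Nonempty (G ≃* Matrix.ProjectiveSpecialLinearGroup (Fin 3) F)) ∨
    (∃ (F : Type) (_ : Field F) (_ : Fintype F), Fintype.card F = 8 ∧
        Nonempty (G ≃* ↥(Cfsg.Lie.Sz F 4))) ∨
    (∃ (F : Type) (_ : Field F) (_ : Fintype F), ∃ n r s : ℕ, r.Prime ∧ s.Prime ∧
        3 ^ n - 1 = 2 * r ∧ 3 ^ n + 1 = 4 * s ∧
        Fintype.card F = 3 ^ n ∧ Nonempty (G ≃* Matrix.ProjectiveSpecialLinearGroup (Fin 2) F)) ∨
    (∃ (F : Type) (_ : Field F) (_ : Fintype F), ∃ n r : ℕ, (2 ^ n - 1).Prime ∧ r.Prime ∧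
        2 ^ n + 1 = 3 * r ∧
        Fintype.card F = 2 ^ n ∧ Nonempty (G ≃* Matrix.ProjectiveSpecialLinearGroup (Fin 2) F)) :=
  CfsgLib.CITFilter.simple_oneComposite h1 (fun hab hC => candidate_of_isCIT hab hC)
    fun hab r hr hr2 h2 hrd =>
      isCIT_or_psl_of_field hab ⟨hr, hr2, h2, hrd⟩ (hfield hab r ⟨hr, hr2, h2, hrd⟩)

end CfsgLib.TwoR
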