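import Cfsg.Agent.Lib.TwoR.Defs
import Cfsg.Agent.Lib.AbInvCent.Main
import Cfsg.Agent.Lib.Solvable.CoprimeGeneration
import Mathlib.GroupTheory.SchurZassenhaus

/-!
# Groups in which every centraliser of an involution is the centraliser of its Sylow subgroup
-/

set_option autoImplicit false
set_option linter.style.haveILetI false
set_option linter.unusedSectionVars false

namespace CfsgLib.TwoR

open Subgroup CfsgLib

variable {G : Type*} [Group G]

/-- Every involution centraliser is the centraliser of the Sylow `2`-subgroup containing it. -/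
structure Reg (G : Type*) [Group G] (r : ℕ) (S : Sylow 2 G) : Prop where
  setting : TISetting G r S
  cent : ∀ t ∈ (S : Subgroup G), t ≠ 1 → ∀ g : G, Commute g t →
    g ∈ centralizer ((S : Subgroup G) : Set G)

/-- The elements of `C(S)` killed by `r`, as a subgroup. -/
def oddPart (r : ℕ) (S : Sylow 2 G) : Subgroup G :=
  closure {g | g ∈ centralizer ((S : Subgroup G) : Set G) ∧ g ^ r = 1}

namespace Reg

variable [Finite G] {r : ℕ} {S : Sylow 2 G} (h : Reg G r S)
include h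

local notation "S'" => (S : Subgroup G)
local notation "K" => centralizer ((S : Subgroup G) : Set G)
local notation "N" => normalizer ((S : Subgroup G) : Set G)
local notation "A₀" => oddPart r S

theorem sq_eq_one {x : G} (hx : x ∈ S') : x * x = 1 := h.setting.exp_two x hx

theorem comm_S {x y : G} (hx : x ∈ S') (hy : y ∈ S') : Commute x y := by
  have hxy := h.sq_eq_one (mul_mem hx hy)
  rw [mul_eq_one_iff_eq_inv, mul_inv_rev, ← eq_inv_of_mul_eq_one_left (h.sq_eq_one hx),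
    ← eq_inv_of_mul_eq_one_left (h.sq_eq_one hy)] at hxy
  exact hxy

theorem S_le_K : S' ≤ K := fun x hx => mem_centralizer_iff.mpr fun y hy => (h.comm_S hy hx).eq

omit h in
theorem K_le_N : K ≤ N := centralizer_le_normalizer _

omit h in
theorem commute_of_mem {g x : G} (hg : g ∈ K) (hx : x ∈ S') : Commute g x :=
  (mem_centralizer_iff.mp hg x hx).symm

theorem orderOf_S {t : G} (ht : t ∈ S') (ht1 : t ≠ 1) : orderOf t = 2 :=
  Invol.orderOf_eq_two ht1 (h.sq_eq_one ht)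

theorem exists_pair : ∃ a ∈ S', ∃ b ∈ S', a ≠ 1 ∧ b ≠ 1 ∧ a ≠ b := by
  classical
  haveI := Fintype.ofFinite (S : Subgroup G)
  have h4 := h.setting.four_le
  rw [Nat.card_eq_fintype_card, ← Finset.card_univ] at h4
  obtain ⟨a, ha, b, hb, hab⟩ := Finset.one_lt_card.mp
    (show 1 < ((Finset.univ : Finset (S : Subgroup G)).erase 1).card by
      rw [Finset.card_erase_of_mem (Finset.mem_univ _)]; omega)
  exact ⟨a, a.2, b, b.2, fun e => Finset.ne_of_mem_erase ha (Subtype.ext e),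
    fun e => Finset.ne_of_mem_erase hb (Subtype.ext e), fun e => hab (Subtype.ext e)⟩

theorem exists_invol_S : ∃ t ∈ S', t ≠ 1 := by
  obtain ⟨a, ha, -, -, ha1, -⟩ := h.exists_pair
  exact ⟨a, ha, ha1⟩

theorem pow_two_r {g : G} (hg : g ∈ K) : g ^ (2 * r) = 1 := by
  obtain ⟨t, ht, ht1⟩ := h.exists_invol_S
  exact h.setting.hyp.pow_two_r_of_commute_invol (h.orderOf_S ht ht1) (commute_of_mem hg ht)

theorem pow_r_mem_S {g : G} (hg : g ∈ K) : g ^ r ∈ S' :=
  AbInvCent.Hyp.mem_P_of_two_elem (k := 1) (K_le_N (pow_mem hg r))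
    (by rw [pow_one, ← pow_mul, mul_comm, h.pow_two_r hg])

theorem pow_r_one {g : G} (hg : g ∈ K) (ho : Odd (orderOf g)) : g ^ r = 1 :=
  orderOf_dvd_iff_pow_eq_one.mp ((Nat.coprime_two_right.mpr ho).dvd_of_dvd_mul_left
    (orderOf_dvd_of_pow_eq_one (h.pow_two_r hg)))

theorem eq_one_of_S_of_pow {g : G} (hg : g ∈ S') (hr : g ^ r = 1) : g = 1 := by
  obtain ⟨m, rfl⟩ := h.setting.hyp.odd_r
  rw [pow_succ, pow_mul, pow_two, h.sq_eq_one hg, one_pow, one_mul] at hr
  exact hr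

theorem pow_r_S {g : G} (hg : g ∈ S') : g ^ r = g := by
  obtain ⟨m, rfl⟩ := h.setting.hyp.odd_r
  rw [pow_succ, pow_mul, pow_two, h.sq_eq_one hg, one_pow, one_mul]

/-- `g ↦ g ^ r` is multiplicative on `C(S)`. -/
theorem mul_pow_r {g g' : G} (hg : g ∈ K) (hg' : g' ∈ K) : (g * g') ^ r = g ^ r * g' ^ r := by
  set Sk := (S : Subgroup G).subgroupOf K
  haveI : Sk.Normal := by
    refine ⟨fun x hx c => ?_⟩
    rw [mem_subgroupOf] at hx ⊢
    have e : (c : G) * x * (c : G)⁻¹ = x := by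
      rw [(commute_of_mem c.2 hx).eq, mul_inv_cancel_right]
    push_cast
    rwa [e]
  haveI := Fact.mk Nat.prime_two
  have hcop : Nat.Coprime (Nat.card Sk) Sk.index := (S.subtype h.S_le_K).card_coprime_index
  obtain ⟨C, hC⟩ := exists_right_complement'_of_coprime hcop
  have hodd : ∀ c ∈ C, ((c : K) : G) ^ r = 1 := by
    intro c hc
    refine h.pow_r_one c.2 ?_
    rw [orderOf_coe]
    have hd : orderOf c ∣ Nat.card C := orderOf_dvd_natCard C hc |> fun x => x
    refine Odd.of_dvd_nat ?_ hd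
    rw [← hC.symm.index_eq_card]
    exact Nat.odd_iff.mpr (Nat.two_dvd_ne_zero.mp (S.subtype h.S_le_K).not_dvd_index)
  have hdec : ∀ x : G, x ∈ K → ∃ s ∈ S', ∃ c : K, c ∈ C ∧ x = s * c := by
    intro x hx
    obtain ⟨⟨s, c⟩, e⟩ := hC.2 ⟨x, hx⟩
    exact ⟨((s : K) : G), s.2, c, c.2, congrArg Subtype.val e.symm⟩
  have hpow : ∀ s ∈ S', ∀ c : K, c ∈ C → (s * (c : G)) ^ r = s := fun s hs c hc => by
    rw [(commute_of_mem c.2 hs).symm.mul_pow, h.pow_r_S hs, hodd c hc, mul_one]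
  obtain ⟨s, hs, c, hc, rfl⟩ := hdec g hg
  obtain ⟨s', hs', c', hc', rfl⟩ := hdec g' hg'
  have e : s * (c : G) * (s' * (c' : G)) = (s * s') * ((c * c' : K) : G) := by
    push_cast
    rw [mul_assoc, ← mul_assoc (c : G), (commute_of_mem c.2 hs').eq]
    group
  rw [e, hpow _ (mul_mem hs hs') _ (mul_mem hc hc'), hpow _ hs _ hc, hpow _ hs' _ hc']

theorem mem_A {g : G} : g ∈ A₀ ↔ g ∈ K ∧ g ^ r = 1 := by
  refine ⟨fun hg => ?_, fun hg => subset_closure hg⟩
  induction hg using closure_induction with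
  | mem x hx => exact hx
  | one => exact ⟨one_mem _, one_pow r⟩
  | mul x y _ _ hx hy => exact ⟨mul_mem hx.1 hy.1, by rw [h.mul_pow_r hx.1 hy.1, hx.2, hy.2, one_mul]⟩
  | inv x _ hx => exact ⟨inv_mem hx.1, by rw [inv_pow, hx.2, inv_one]⟩

theorem A_le_K : A₀ ≤ K := fun _ hg => (h.mem_A.mp hg).1

theorem pow_r_A {g : G} (hg : g ∈ A₀) : g ^ r = 1 := (h.mem_A.mp hg).2

theorem inf_S_A {g : G} (hS : g ∈ S') (hA : g ∈ A₀) : g = 1 :=
  h.eq_one_of_S_of_pow hS (h.pow_r_A hA)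

theorem proj_A {g : G} (hg : g ∈ K) : g ^ (r + 1) ∈ A₀ := by
  refine h.mem_A.mpr ⟨pow_mem hg _, ?_⟩
  obtain ⟨m, hm⟩ := h.setting.hyp.odd_r
  rw [← pow_mul, show (r + 1) * r = 2 * r * (m + 1) by rw [hm]; ring, pow_mul, h.pow_two_r hg,
    one_pow]

theorem proj_mul {g : G} (hg : g ∈ K) : g ^ r * g ^ (r + 1) = g := by
  rw [← pow_add, show r + (r + 1) = 2 * r + 1 by ring, pow_succ, h.pow_two_r hg, one_mul]

theorem A_isPGroup : IsPGroup r A₀ := fun g =>
  ⟨1, Subtype.ext (by rw [SubmonoidClass.coe_pow, pow_one, h.pow_r_A g.2, coe_one])⟩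

theorem card_K : Nat.card K = Nat.card S' * Nat.card A₀ := by
  rw [← Nat.card_prod]
  refine Nat.card_congr
    { toFun := fun g => (⟨(g : G) ^ r, h.pow_r_mem_S g.2⟩, ⟨(g : G) ^ (r + 1), h.proj_A g.2⟩)
      invFun := fun p => ⟨(p.1 : G) * p.2, mul_mem (h.S_le_K p.1.2) (h.A_le_K p.2.2)⟩
      left_inv := fun g => Subtype.ext (h.proj_mul g.2)
      right_inv := fun p => ?_ }
  obtain ⟨⟨s, hs⟩, ⟨a, ha⟩⟩ := p
  have e : (s * a) ^ r = s := by
    rw [h.mul_pow_r (h.S_le_K hs) (h.A_le_K ha), h.pow_r_S hs, h.pow_r_A ha, mul_one]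
  refine Prod.ext (Subtype.ext e) (Subtype.ext ?_)
  show (s * a) ^ (r + 1) = a
  rw [pow_succ, e, ← mul_assoc, h.sq_eq_one hs, one_mul]

omit h in
theorem conj_mem_K {n g : G} (hn : n ∈ N) (hg : g ∈ K) : n * g * n⁻¹ ∈ K :=
  AbInvCent.Hyp.conj_mem_A hn hg

theorem conj_mem_A {n g : G} (hn : n ∈ N) (hg : g ∈ A₀) : n * g * n⁻¹ ∈ A₀ :=
  h.mem_A.mpr ⟨conj_mem_K hn (h.A_le_K hg),
    by rw [conj_pow, h.pow_r_A hg, mul_one, mul_inv_cancel]⟩

/-! ### `N` is strongly embedded -/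

theorem mem_N_of_conj_S {t g : G} (ht : t ∈ S') (ht1 : t ≠ 1) (hg : g * t * g⁻¹ ∈ S') :
    g ∈ N := by
  have hS : ∀ y ∈ S', g * y * g⁻¹ ∈ S' := fun y hy => by
    have hK : g * y * g⁻¹ ∈ K := h.cent _ hg (fun e => ht1 (conj_eq_one_iff.mp e)) _
      (by rw [commute_iff_eq, conj_mul, conj_mul, (h.comm_S hy ht).eq])
    exact AbInvCent.Hyp.mem_P_of_two_elem (k := 1) (K_le_N hK)
      (by rw [conj_pow, pow_one, pow_two, h.sq_eq_one hy, mul_one, mul_inv_cancel])
  rw [mem_normalizer_iff_map_conj_eq]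
  exact eq_of_le_of_card_ge (fun _ ⟨y, hy, e⟩ => e ▸ hS y hy)
    (card_map_of_injective (MulAut.conj g).injective).ge

theorem stronglyEmbedded : Cfsg.IsStronglyEmbedded N := by
  obtain ⟨t, ht, ht1⟩ := h.exists_invol_S
  refine (Invol.isStronglyEmbedded_iff_fusion h.setting.ne_top
    (Invol.even_card_of_orderOf_two_mem (h.orderOf_S ht ht1) (le_normalizer ht))).2
      fun u hu hu2 g hg => ?_
  exact h.mem_N_of_conj_S (AbInvCent.Hyp.mem_P_of_invol hu hu2) (Invol.ne_one_of_invol hu2)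
    (AbInvCent.Hyp.mem_P_of_invol hg (by rw [Invol.orderOf_conj, hu2]))

theorem isConj_invol {u v : G} (hu : orderOf u = 2) (hv : orderOf v = 2) : IsConj u v :=
  SEmb.isConj_invol h.stronglyEmbedded hu hv

theorem exists_conj_N {t s : G} (ht : t ∈ S') (ht1 : t ≠ 1) (hs : s ∈ S') (hs1 : s ≠ 1) :
    ∃ n ∈ N, n * t * n⁻¹ = s := by
  obtain ⟨g, hg⟩ := isConj_iff.mp (h.isConj_invol (h.orderOf_S ht ht1) (h.orderOf_S hs hs1))
  exact ⟨g, h.mem_N_of_conj_S ht ht1 (hg.symm ▸ hs), hg⟩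

/-- An element of `N` fixing an involution of `S` centralises `S`. -/
theorem mem_K_of_fix {n t : G} (ht : t ∈ S') (ht1 : t ≠ 1) (hc : n * t * n⁻¹ = t) : n ∈ K :=
  h.cent t ht ht1 n (mul_inv_eq_iff_eq_mul.mp hc)

theorem card_N : Nat.card N = (Nat.card S' - 1) * Nat.card K := by
  classical
  obtain ⟨t, ht, ht1⟩ := h.exists_invol_S
  have e : Nat.card {s : (S' : Subgroup G) // s ≠ 1} = Nat.card S' - 1 := by
    haveI := Fintype.ofFinite (S : Subgroup G)
    rw [Nat.card_eq_fintype_card, Nat.card_eq_fintype_card, Fintype.card_subtype_compl,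
      Fintype.card_subtype_eq]
  rw [← e, ← Nat.card_prod]
  choose w hw hwe using fun s : {s : (S' : Subgroup G) // s ≠ 1} =>
    h.exists_conj_N ht ht1 s.1.2 (fun e => s.2 (Subtype.ext e))
  refine (Nat.card_congr (Equiv.ofBijective
    (fun p : {s : (S' : Subgroup G) // s ≠ 1} × K =>
      (⟨w p.1 * p.2, mul_mem (hw p.1) (K_le_N p.2.2)⟩ : N)) ⟨?_, ?_⟩)).symm
  · rintro ⟨s, c⟩ ⟨s', c'⟩ e
    have e' : w s * (c : G) = w s' * c' := congrArg Subtype.val e
    have hval : ∀ (s : {s : (S' : Subgroup G) // s ≠ 1}) (c : K),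
        (w s * (c : G)) * t * (w s * (c : G))⁻¹ = ((s.1 : S') : G) := fun s c => by
      rw [← hwe s, mul_inv_rev]
      conv_lhs => rw [mul_assoc (w s), (commute_of_mem c.2 ht).eq]
      group
    obtain rfl : s = s' :=
      Subtype.ext (Subtype.ext (by rw [← hval s c, e', hval s' c']))
    rw [Subtype.ext (mul_left_cancel e')]
  · intro n
    have hsS : (n : G) * t * (n : G)⁻¹ ∈ S' := (mem_normalizer_iff.mp n.2 t).mp ht
    let s : {s : (S' : Subgroup G) // s ≠ 1} :=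
      ⟨⟨_, hsS⟩, fun e => ht1 (conj_eq_one_iff.mp (congrArg Subtype.val e))⟩
    have hc : (w s)⁻¹ * n ∈ K := h.mem_K_of_fix ht ht1 (by
      calc (w s)⁻¹ * n * t * ((w s)⁻¹ * n)⁻¹ = (w s)⁻¹ * ((n : G) * t * (n : G)⁻¹) * w s := by group
        _ = (w s)⁻¹ * (w s * t * (w s)⁻¹) * w s := by rw [hwe s]
        _ = t := by group)
    exact ⟨⟨s, ⟨_, hc⟩⟩, Subtype.ext (mul_inv_cancel_left _ _)⟩

/-! ### Centralisers of `r`-elements of `C(S)` and the TI property -/

theorem centralizer_A_le {a : G} (ha : a ∈ A₀) (ha1 : a ≠ 1) : centralizer ({a} : Set G) ≤ N := by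
  classical
  set H := centralizer ({a} : Set G) with hH
  have hpow : ∀ g ∈ H, g ^ (2 * r) = 1 := fun g hg =>
    h.setting.hyp.pow_two_r_of_commute_relem (h.pow_r_A ha) ha1
      (mem_centralizer_singleton_iff.mp hg)
  haveI : Group.IsSolvable H := h.setting.hyp.isSolvable_of_pow H hpow
  haveI := Fact.mk Nat.prime_two
  have hSH : S' ≤ H := fun x hx =>
    mem_centralizer_singleton_iff.mpr (commute_of_mem (h.A_le_K ha) hx).symm.eq
  haveI : IsMulCommutative S' := ⟨⟨fun x y => Subtype.ext (h.comm_S x.2 y.2)⟩⟩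
  have hPc : IsMulCommutative (S.subtype hSH : Subgroup H) :=
    ⟨⟨fun x y => Subtype.ext (Subtype.ext (h.comm_S x.2 y.2))⟩⟩
  have hnorm := Cfsg.Agent.S0018.result (G := H) 2 (S.subtype hSH) hPc
  set O := Balance.coreP 2 H with hO
  have hSO : S' ≤ normalizer (O : Set G) := hSH.trans (Balance.le_normalizer_coreP 2 H)
  have hcopO : (Nat.card O).Coprime 2 := Balance.coreP_coprime 2 H
  have hOK : O ≤ K := by
    refine Solvable.le_of_centralizer_le (A := S') ?_ hSO ?_ ?_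
    · intro hcyc
      obtain ⟨g, hg⟩ := hcyc.exists_generator
      have h2 : Nat.card S' ≤ 2 := by
        have e : Subgroup.zpowers g = ⊤ := eq_top_iff.mpr fun x _ => hg x
        rw [← card_top (G := S'), ← e, Nat.card_zpowers]
        refine Nat.le_of_dvd two_pos (orderOf_dvd_of_pow_eq_one (Subtype.ext ?_))
        rw [SubmonoidClass.coe_pow, pow_two, h.sq_eq_one g.2, coe_one]
      have := h.setting.four_le
      omega
    · obtain ⟨j, hj⟩ := S.2.exists_card_eq
      rw [hj]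
      exact (hcopO.pow_right j).symm
    · exact fun x hx hx1 y hy =>
        h.cent x hx hx1 y (mem_centralizer_singleton_iff.mp hy.2)
  intro g hg
  rw [mem_normalizer_iff_map_conj_eq]
  refine eq_of_le_of_card_ge ?_ (card_map_of_injective (MulAut.conj g).injective).ge
  rintro _ ⟨s, hs, rfl⟩
  have hmem := hnorm.conj_mem ⟨s, hSH hs⟩ (mem_sup_left (show (⟨s, hSH hs⟩ : H) ∈
    (S.subtype hSH : Subgroup H) from hs)) ⟨g, hg⟩
  haveI : (Cfsg.pPrimeCore 2 H).Normal := inferInstance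
  obtain ⟨s', hs', o, ho, e⟩ := mem_sup_of_normal_right.mp hmem
  have e' : (s' : G) * (o : G) = g * s * g⁻¹ := congrArg Subtype.val e
  have hoO : (o : G) ∈ O := mem_map_of_mem H.subtype ho
  have hsq : (g * s * g⁻¹) * (g * s * g⁻¹) = 1 := by
    rw [conj_mul, h.sq_eq_one hs, mul_one, mul_inv_cancel]
  have hc : Commute (o : G) (s' : G) := commute_of_mem (hOK hoO) hs'
  have ho2 : (o : G) ^ 2 = 1 := by
    rw [← e', ← pow_two, hc.symm.mul_pow, pow_two (s' : G), show (s' : G) * (s' : G) = 1 from h.sq_eq_one hs', one_mul] at hsq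
    exact hsq
  have ho1 : (o : G) = 1 := orderOf_eq_one_iff.mp (Nat.eq_one_of_dvd_coprimes hcopO
    (orderOf_dvd_natCard O hoO |> fun x => x) (orderOf_dvd_of_pow_eq_one ho2))
  show g * s * g⁻¹ ∈ S'
  rw [← e', ho1, mul_one]
  exact hs'

theorem centralizer_K_le {z : G} (hz : z ∈ K) (hz1 : z ≠ 1) {g : G} (hg : Commute g z) :
    g ∈ N := by
  by_cases hp : z ^ (r + 1) = 1
  · have hzS : z ∈ S' := by
      have e := h.proj_mul hz
      rw [hp, mul_one] at e
      exact e ▸ h.pow_r_mem_S hz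
    exact K_le_N (h.cent z hzS hz1 g hg)
  · exact h.centralizer_A_le (h.proj_A hz) hp
      (mem_centralizer_singleton_iff.mpr (hg.pow_right _).eq)

/-- `C(S)` is TI with normaliser `N(S)`. -/
theorem mem_N_of_conj {z g : G} (hz : z ∈ K) (hz1 : z ≠ 1) (hg : g * z * g⁻¹ ∈ K) : g ∈ N := by
  obtain ⟨t, ht, ht1⟩ := h.exists_invol_S
  refine h.mem_N_of_conj_S ht ht1 (AbInvCent.Hyp.mem_P_of_two_elem (k := 1) ?_ ?_)
  · refine h.centralizer_K_le hg (fun e => hz1 (conj_eq_one_iff.mp e)) ?_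
    rw [commute_iff_eq, conj_mul, conj_mul, (commute_of_mem hz ht).eq]
  · rw [conj_pow, pow_one, pow_two, h.sq_eq_one ht, mul_one, mul_inv_cancel]

/-- If `A₀` is abelian, all centralisers of involutions are abelian. -/
theorem false_of_comm [IsSimpleGroup G] (hab : ∃ a b : G, a * b ≠ b * a) {a : G} (ha : a ∈ A₀)
    (ha1 : a ≠ 1) (hc : ∀ x ∈ A₀, ∀ y ∈ A₀, Commute x y) : False := by
  have hK : ∀ x ∈ K, ∀ y ∈ K, Commute x y := fun x hx y hy => by
    rw [← h.proj_mul hx, ← h.proj_mul hy]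
    have c1 := h.comm_S (h.pow_r_mem_S hx) (h.pow_r_mem_S hy)
    have c2 := (commute_of_mem (h.A_le_K (h.proj_A hy)) (h.pow_r_mem_S hx)).symm
    have c3 := commute_of_mem (h.A_le_K (h.proj_A hx)) (h.pow_r_mem_S hy)
    exact (c1.mul_right c2).mul_left (c3.mul_right (hc _ (h.proj_A hx) _ (h.proj_A hy)))
  obtain ⟨t, ht, ht1⟩ := h.exists_invol_S
  have hP : AbInvCent.Hyp S := by
    refine ⟨fun u hu => ⟨⟨fun x y => Subtype.ext ?_⟩⟩, fun hcyc => ?_, fun hn => ?_⟩
    · obtain ⟨g, hg⟩ := isConj_iff.mp (h.isConj_invol hu (h.orderOf_S ht ht1))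
      have hm : ∀ z : centralizer ({u} : Set G), g * z * g⁻¹ ∈ K := fun z =>
        h.cent t ht ht1 _ (by
          rw [← hg, commute_iff_eq, conj_mul, conj_mul, mem_centralizer_singleton_iff.mp z.2])
      have := (hK _ (hm x) _ (hm y)).eq
      rw [conj_mul, conj_mul] at this
      exact mul_left_cancel (mul_right_cancel this)
    · obtain ⟨g, hg⟩ := hcyc.exists_generator
      have e : Subgroup.zpowers g = ⊤ := eq_top_iff.mpr fun x _ => hg x
      have h2 : Nat.card S' ≤ 2 := by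
        rw [← card_top (G := S'), ← e, Nat.card_zpowers]
        refine Nat.le_of_dvd two_pos (orderOf_dvd_of_pow_eq_one (Subtype.ext ?_))
        rw [SubmonoidClass.coe_pow, pow_two, h.sq_eq_one g.2, coe_one]
      have := h.setting.four_le
      omega
    · exact h.setting.ne_top (normalizer_eq_top_iff.mpr hn)
  have hcen := (AbInvCent.claim hP).2 a (h.A_le_K ha)
  have hbot : center G = ⊥ := (Subgroup.Normal.eq_bot_or_eq_top inferInstance).resolve_right
    fun e => by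
      obtain ⟨x, y, hxy⟩ := hab
      exact hxy ((mem_center_iff.mp (e ▸ mem_top x) y).symm)
  rw [hbot, mem_bot, ← pow_two] at hcen
  exact ha1 (orderOf_eq_one_iff.mp (Nat.eq_one_of_dvd_coprimes h.setting.hyp.coprime_two
    (orderOf_dvd_of_pow_eq_one (h.pow_r_A ha)) (orderOf_dvd_of_pow_eq_one hcen)))

end Reg

end CfsgLib.TwoR
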