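import Cfsg.Agent.Lib.TwoR.RegularQuot
import Cfsg.Agent.Lib.BlockPrincipal.AbelianizationPSq
import Mathlib.GroupTheory.Transfer

/-!
# The action of `C(S)` on the cosets of `N(S)`, and transfer
-/

set_option autoImplicit false
set_option linter.style.haveILetI false
set_option linter.unusedSectionVars false

namespace CfsgLib.TwoR

open Subgroup MulAction CfsgLib

variable {G : Type*} [Group G]

namespace Reg

variable [Finite G] {r : ℕ} {S : Sylow 2 G} (h : Reg G r S)
include h

local notation "S'" => (S : Subgroup G)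
local notation "K" => centralizer ((S : Subgroup G) : Set G)
local notation "N" => normalizer ((S : Subgroup G) : Set G)
local notation "A₀" => oddPart r S
local notation "ρ" => normalizerMonoidHom (S : Subgroup G)

/-- An element of `C(S)` fixing a second point has order dividing `r` and induces a nontrivial
automorphism of `S`. -/
theorem stab_prop {c g : G} (hc : c ∈ K) (hc1 : c ≠ 1) (hg : g ∉ N) (hcg : g⁻¹ * c * g ∈ N) :
    c ^ r = 1 ∧ g⁻¹ * c * g ∉ K := by
  refine ⟨?_, fun hK => hg ?_⟩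
  · by_contra hr
    have hS := h.pow_r_mem_S hc
    refine hg ((inv_mem_iff (H := N)).mp (h.mem_N_of_conj_S hS hr ?_))
    refine AbInvCent.Hyp.mem_P_of_invol ?_ (by rw [Invol.orderOf_conj, h.orderOf_S hS hr])
    rw [← conj_pow, inv_inv]
    exact pow_mem hcg r
  · exact (inv_mem_iff (H := N)).mp (h.mem_N_of_conj hc hc1 (by rwa [inv_inv]))

theorem stab_A {c g : G} (hc : c ∈ K) (hg : g ∉ N) (hcg : g⁻¹ * c * g ∈ N) : c ∈ A₀ := by
  rcases eq_or_ne c 1 with rfl | hc1
  · exact one_mem _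
  · exact h.mem_A.mpr ⟨hc, (h.stab_prop hc hc1 hg hcg).1⟩

omit h in
theorem mem_stab_iff {g : G} {c : K} :
    c ∈ stabilizer K (QuotientGroup.mk g : G ⧸ N) ↔ g⁻¹ * (c : G) * g ∈ N := by
  rw [mem_stabilizer_iff]
  exact SEmb.smul_mk_eq_iff (c : G) g

/-- The stabiliser in `C(S)` of a second point embeds in the automorphisms induced on `S`. -/
theorem card_stab_dvd {g : G} (hg : g ∉ N) :
    Nat.card (stabilizer K (QuotientGroup.mk g : G ⧸ N)) ∣ Nat.card (autX S) := by
  let f : stabilizer K (QuotientGroup.mk g : G ⧸ N) →* autX S :=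
    MonoidHom.mk' (fun c => ⟨ρ ⟨_, mem_stab_iff.mp c.2⟩, _, rfl⟩) fun c c' => Subtype.ext (by
      show ρ _ = ρ _ * ρ _
      rw [← map_mul]
      refine congrArg ρ (Subtype.ext ?_)
      simp [mul_assoc])
  refine Subgroup.card_dvd_of_injective f ((injective_iff_map_eq_one f).mpr fun c hc => ?_)
  by_contra hne
  exact (h.stab_prop c.1.2 (fun e => hne (Subtype.ext (Subtype.ext e))) hg (mem_stab_iff.mp c.2)).2
    ((rho_eq_one_iff _).mp (congrArg Subtype.val hc))

theorem stab_eq_bot (hr : ¬ r ∣ Nat.card S' - 1) {g : G} (hg : g ∉ N) :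
    stabilizer K (QuotientGroup.mk g : G ⧸ N) = ⊥ := by
  refine (eq_bot_iff_forall _).mpr fun c hc => ?_
  by_contra hne
  haveI := Fact.mk h.setting.hyp.prime
  have hcr : c ^ r = 1 := Subtype.ext
    (h.stab_prop c.2 (fun e => hne (Subtype.ext e)) hg (mem_stab_iff.mp hc)).1
  have h1 := orderOf_dvd_natCard _ hc
  rw [orderOf_eq_prime hcr hne] at h1
  exact hr (h.card_X ▸ h1.trans (h.card_stab_dvd hg))

omit h in
theorem card_K_eq_orbit {g : G} :
    Nat.card K = Nat.card (orbit K (QuotientGroup.mk g : G ⧸ N)) *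
      Nat.card (stabilizer K (QuotientGroup.mk g : G ⧸ N)) := by
  rw [← card_mul_index (stabilizer K (QuotientGroup.mk g : G ⧸ N)), index_stabilizer, mul_comm,
    Nat.card_coe_set_eq]

theorem card_orbit_lt {g : G} (hg : g ∉ N) :
    Nat.card (orbit K (QuotientGroup.mk g : G ⧸ N)) < (N).index := by
  have ho : (QuotientGroup.mk 1 : G ⧸ N) ∉ orbit K (QuotientGroup.mk g : G ⧸ N) := by
    rintro ⟨c, hc⟩
    refine hg ?_
    have e : ((c : G) * g : G) ∈ N := by
      have := QuotientGroup.eq.mp (hc : (((c : G) * g : G) : G ⧸ N) = QuotientGroup.mk 1)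
      simpa using (inv_mem this)
    have := mul_mem (inv_mem (K_le_N c.2)) e
    rwa [inv_mul_cancel_left] at this
  rw [index_eq_card, Nat.card_coe_set_eq, ← Set.ncard_univ]
  exact Set.ncard_lt_ncard ((Set.ssubset_univ_iff).mpr fun e => ho (e ▸ Set.mem_univ _))

theorem exists_notMem_N : ∃ g : G, g ∉ N := by
  by_contra hc
  push Not at hc
  exact h.setting.ne_top (eq_top_iff.mpr fun g _ => hc g)

theorem index_lower_a (hr : ¬ r ∣ Nat.card S' - 1) : Nat.card K < (N).index := by
  obtain ⟨g, hg⟩ := h.exists_notMem_N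
  have e := card_K_eq_orbit (S := S) (g := g)
  rw [h.stab_eq_bot hr hg, card_bot, mul_one] at e
  exact e ▸ h.card_orbit_lt hg

theorem index_lower_b (hk : Nat.card S' - 1 = r) : Nat.card K < (N).index * r := by
  obtain ⟨g, hg⟩ := h.exists_notMem_N
  rw [card_K_eq_orbit (S := S) (g := g)]
  have h1 := Nat.le_of_dvd Nat.card_pos (h.card_stab_dvd hg)
  rw [h.card_X, hk] at h1
  exact lt_of_le_of_lt (Nat.mul_le_mul_left _ h1)
    ((Nat.mul_lt_mul_right h.setting.hyp.prime.pos).mpr (h.card_orbit_lt hg))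

/-- The abelianisation of a nonabelian `A` has order at least `r ^ 2`. -/
theorem sq_le_card_ab (hA : ¬ ∀ x ∈ A₀, ∀ y ∈ A₀, Commute x y) :
    r ^ 2 ≤ Nat.card (Abelianization (oddPart r S)) := by
  haveI := Fact.mk h.setting.hyp.prime
  obtain ⟨e, he⟩ := (h.A_isPGroup.to_quotient (commutator (oddPart r S))).exists_card_eq
  show r ^ 2 ≤ Nat.card ((oddPart r S) ⧸ commutator (oddPart r S))
  rw [he]
  refine Nat.pow_le_pow_right h.setting.hyp.prime.pos ?_
  by_contra hlt
  push Not at hlt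
  refine hA fun x hx y hy => ?_
  haveI : IsCyclic (oddPart r S) := AbPSq.isCyclic_of_index_le h.A_isPGroup (by
    rw [index_eq_card, he]
    calc r ^ e ≤ r ^ 1 := Nat.pow_le_pow_right h.setting.hyp.prime.pos (by omega)
      _ = r := pow_one r)
  obtain ⟨z, hz⟩ := IsCyclic.exists_generator (α := oddPart r S)
  obtain ⟨i, hi⟩ := mem_zpowers_iff.mp (hz ⟨x, hx⟩)
  obtain ⟨j, hj⟩ := mem_zpowers_iff.mp (hz ⟨y, hy⟩)
  have := ((Commute.refl z).zpow_zpow i j).map (oddPart r S).subtype
  rwa [hi, hj] at this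

/-- If `N(S)` is trivial on `A/A'` then `C(S)` is semiregular off its fixed point. -/
theorem semiregular_of_fix (hk : Nat.card S' - 1 = r)
    (hA : ¬ ∀ x ∈ A₀, ∀ y ∈ A₀, Commute x y)
    (hfix : ∀ n : N, ∀ c : oddPart r S,
      (⟨(n : G) * c * (n : G)⁻¹, h.conj_mem_A n.2 c.2⟩ : oddPart r S) * c⁻¹ ∈
        commutator (oddPart r S))
    {c g : G} (hc : c ∈ K) (hg : g ∉ N) (hcg : g⁻¹ * c * g ∈ N) : c = 1 := by
  classical
  by_contra hc1
  haveI := Fact.mk h.setting.hyp.prime
  set y : N := ⟨g⁻¹ * c * g, hcg⟩ with hy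
  let Cy : Subgroup (oddPart r S) := (centralizer ({(y : G)} : Set G)).subgroupOf (oddPart r S)
  have hsub : ∀ e : oddPart r S, e ∈ Cy → g * (e : G) * g⁻¹ ∈ N := fun e he => by
    refine h.centralizer_K_le hc hc1 ?_
    have hcy : (e : G) * (g⁻¹ * c * g) = g⁻¹ * c * g * e :=
      mem_centralizer_singleton_iff.mp (mem_subgroupOf.mp he)
    show g * (e : G) * g⁻¹ * c = c * (g * (e : G) * g⁻¹)
    calc g * (e : G) * g⁻¹ * c = g * ((e : G) * (g⁻¹ * c * g)) * g⁻¹ := by group
      _ = g * (g⁻¹ * c * g * e) * g⁻¹ := by rw [hcy]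
      _ = c * (g * (e : G) * g⁻¹) := by group
  have hg' : g⁻¹ ∉ N := fun e => hg (by simpa using inv_mem e)
  have hle : Nat.card Cy ≤ r := by
    have h1 := Nat.le_of_dvd Nat.card_pos (h.card_stab_dvd hg')
    rw [h.card_X, hk] at h1
    refine le_trans (Nat.card_le_card_of_injective (fun e : Cy =>
      (⟨⟨((e : oddPart r S) : G), h.A_le_K e.1.2⟩, mem_stab_iff.mpr (by
        rw [inv_inv]; exact hsub e e.2)⟩ : stabilizer K (QuotientGroup.mk g⁻¹ : G ⧸ N)))
      fun e e' hee => ?_) h1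
    exact Subtype.ext (Subtype.ext (congrArg (fun z => ((z.1 : K) : G)) hee))
  let v : oddPart r S → commutator (oddPart r S) := fun e => ⟨_, hfix y e⟩
  let w : commutator (oddPart r S) → oddPart r S := fun z =>
    if hz : ∃ e, v e = z then hz.choose else 1
  have hw : ∀ e, v (w (v e)) = v e := fun e => by
    have hz : ∃ e', v e' = v e := ⟨e, rfl⟩
    simp only [w, dif_pos hz]
    exact hz.choose_spec
  have hmem : ∀ e e' : oddPart r S, v e = v e' → e'⁻¹ * e ∈ Cy := fun e e' hee => by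
    have h1 : (y : G) * e * (y : G)⁻¹ * (e : G)⁻¹ = (y : G) * e' * (y : G)⁻¹ * (e' : G)⁻¹ :=
      congrArg (fun z : commutator (oddPart r S) => ((z : oddPart r S) : G)) hee
    rw [mem_subgroupOf, mem_centralizer_singleton_iff]
    push_cast
    calc (e' : G)⁻¹ * e * (y : G)
        = (e' : G)⁻¹ * ((y : G) * e * (y : G)⁻¹ * (e : G)⁻¹)⁻¹ * (y : G) * e := by group
      _ = (e' : G)⁻¹ * ((y : G) * e' * (y : G)⁻¹ * (e' : G)⁻¹)⁻¹ * (y : G) * e := by rw [h1]
      _ = (y : G) * ((e' : G)⁻¹ * e) := by group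
  have hcard : Nat.card (oddPart r S) ≤ Nat.card (commutator (oddPart r S)) * Nat.card Cy := by
    rw [← Nat.card_prod]
    refine Nat.card_le_card_of_injective
      (fun e => (v e, (⟨(w (v e))⁻¹ * e, hmem e (w (v e)) (hw e).symm⟩ : Cy))) fun e e' hee => ?_
    obtain ⟨h1, h2⟩ := Prod.ext_iff.mp hee
    have h3 : (w (v e))⁻¹ * e = (w (v e'))⁻¹ * e' := congrArg Subtype.val h2
    rw [show v e = v e' from h1] at h3
    exact mul_left_cancel h3
  have hsq := h.sq_le_card_ab hA
  have htot : Nat.card (oddPart r S) =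
      Nat.card (Abelianization (oddPart r S)) * Nat.card (commutator (oddPart r S)) :=
    card_eq_card_quotient_mul_card_subgroup _
  have hpos : 0 < Nat.card (commutator (oddPart r S)) := Nat.card_pos
  have h2r : r < r ^ 2 := by
    have := h.setting.hyp.prime.two_le
    nlinarith
  have : Nat.card (Abelianization (oddPart r S)) ≤ r := by
    refine Nat.le_of_mul_le_mul_right ?_ hpos
    rw [← htot]
    exact hcard.trans (by rw [mul_comm]; exact Nat.mul_le_mul_right _ hle)
  omega

theorem card_swap_eq (x y : G ⧸ N) : Nat.card (SEmb.Swap x y) = Nat.card S' - 1 := by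
  rw [SEmb.card_swap h.stronglyEmbedded, SEmb.card_swap_self_eq h.stronglyEmbedded x
    (QuotientGroup.mk 1)]
  classical
  haveI := Fintype.ofFinite (S : Subgroup G)
  rw [show Nat.card S' - 1 = Nat.card {s : (S' : Subgroup G) // s ≠ 1} by
    rw [Nat.card_eq_fintype_card, Nat.card_eq_fintype_card, Fintype.card_subtype_compl,
      Fintype.card_subtype_eq]]
  refine Nat.card_congr
    { toFun := fun i => ⟨⟨i.1, (AbInvCent.Hyp.invol_fix_o_iff i.2.1).mp i.2.2⟩,
        fun e => Invol.ne_one_of_invol i.2.1 (congrArg Subtype.val e)⟩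
      invFun := fun s => ⟨s.1, h.orderOf_S s.1.2 (fun e => s.2 (Subtype.ext e)),
        AbInvCent.Hyp.fix_o_iff.mpr (le_normalizer s.1.2)⟩
      left_inv := fun i => rfl
      right_inv := fun s => rfl }

/-- With `|S| - 1 = r`, `N(S)` cannot be trivial on `A/A'`. -/
theorem false_of_fix [IsSimpleGroup G] (hab : ∃ a b : G, a * b ≠ b * a)
    (hk : Nat.card S' - 1 = r) {a : G} (haA : a ∈ A₀) (ha : a ≠ 1)
    (hA : ¬ ∀ x ∈ A₀, ∀ y ∈ A₀, Commute x y)
    (hfix : ∀ n : N, ∀ c : oddPart r S,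
      (⟨(n : G) * c * (n : G)⁻¹, h.conj_mem_A n.2 c.2⟩ : oddPart r S) * c⁻¹ ∈
        commutator (oddPart r S)) : False := by
  classical
  haveI := Fact.mk h.setting.hyp.prime
  have hsemi : ∀ {c g : G}, c ∈ K → g ∉ N → g⁻¹ * c * g ∈ N → c = 1 := fun hc hg hcg =>
    h.semiregular_of_fix hk hA hfix hc hg hcg
  have hX : Nat.card (autX S) = r := h.card_X.trans hk
  haveI : IsCyclic (autX S) := isCyclic_of_prime_card hX
  letI : CommGroup (autX S) := IsCyclic.commGroup
  let φ : N →* autX S := (ρ).rangeRestrict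
  have hφ : ∀ n : N, φ n = 1 ↔ (n : G) ∈ K := fun n => by
    rw [← rho_eq_one_iff n]
    exact Subtype.ext_iff
  -- an element of order `r` outside `C(S)`
  haveI : Nontrivial (autX S) := Finite.one_lt_card_iff_nontrivial.mp h.one_lt_card_X
  obtain ⟨z, hz⟩ := exists_ne (1 : autX S)
  obtain ⟨x, hxz⟩ := (ρ).rangeRestrict_surjective z
  have hxK : (x : G) ∉ K := fun e => hz (hxz ▸ (hφ x).mpr e)
  have hzr : z ^ r = 1 := hX ▸ pow_card_eq_one'
  have hxr : (x : G) ^ r = 1 := by
    have hd : r ∣ orderOf (x : G) := by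
      rw [orderOf_coe x, ← orderOf_eq_prime hzr hz, ← hxz]
      exact orderOf_map_dvd _ x
    rcases h.setting.hyp.div _ hd with e | e
    · exact orderOf_dvd_iff_pow_eq_one.mp e.dvd
    · exfalso
      have ho : orderOf ((x : G) ^ r) = 2 := by
        rw [orderOf_pow_of_dvd h.setting.hyp.prime.ne_zero hd, e,
          Nat.mul_div_cancel _ h.setting.hyp.prime.pos]
      exact hxK (h.cent _ (AbInvCent.Hyp.mem_P_of_invol (pow_mem x.2 r) ho)
        (Invol.ne_one_of_invol ho) _ ((Commute.refl _).pow_right r))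
  -- the number of cosets
  have hn : (N).index ≡ 1 [MOD r] := by
    have hp : IsPGroup r (zpowers a) := IsPGroup.of_card (n := 1) (by
      rw [Nat.card_zpowers, orderOf_eq_prime (h.pow_r_A haA) ha, pow_one])
    rw [index_eq_card]
    refine (hp.card_modEq_card_fixedPoints (G ⧸ N)).trans ?_
    rw [show Nat.card (fixedPoints (zpowers a) (G ⧸ N)) = 1 from ?_]
    refine Nat.card_eq_one_iff_unique.mpr ⟨⟨?_⟩, ⟨⟨QuotientGroup.mk 1, fun c => ?_⟩⟩⟩
    · suffices hs : ∀ p : fixedPoints (zpowers a) (G ⧸ N), (p : G ⧸ N) = QuotientGroup.mk 1 from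
        fun p q => Subtype.ext ((hs p).trans (hs q).symm)
      rintro ⟨p, hp⟩
      induction p using QuotientGroup.induction_on with
      | _ g =>
        by_contra hne
        have hg : g ∉ N := fun hgN => hne (QuotientGroup.eq.mpr (by simpa using inv_mem hgN))
        exact ha (hsemi (h.A_le_K haA) hg
          ((SEmb.smul_mk_eq_iff a g).mp (hp ⟨a, mem_zpowers a⟩)))
    · exact AbInvCent.Hyp.fix_o_iff.mpr (K_le_N (zpowers_le.mpr (h.A_le_K haA) c.2))
  -- the elements of `N` fixing a second point are inverted by a swap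
  have hconj : ∀ g : G, g ∉ N → ∀ hg : g⁻¹ * (x : G) * g ∈ N, φ ⟨_, hg⟩ = (φ x)⁻¹ := by
    intro g hgN hg
    have hp : (QuotientGroup.mk g : G ⧸ N) ≠ QuotientGroup.mk 1 := fun e =>
      hgN (by simpa using QuotientGroup.eq.mp e.symm)
    obtain ⟨u, hu, huo⟩ := AbInvCent.Hyp.invol_exists_swap h.stronglyEmbedded hp
    let D : Subgroup G := stabilizer G (QuotientGroup.mk 1 : G ⧸ N) ⊓
      stabilizer G (QuotientGroup.mk g : G ⧸ N)
    have hDN : ∀ d : D, (d : G) ∈ N := fun d => AbInvCent.Hyp.fix_o_iff.mp d.2.1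
    have hDle : Nat.card D ≤ r := by
      refine le_of_le_of_eq (Nat.card_le_card_of_injective (fun d : D => φ ⟨d, hDN d⟩)
        fun d d' e => ?_) hX
      have h1 : φ (⟨(d : G), hDN d⟩⁻¹ * ⟨(d' : G), hDN d'⟩) = 1 := by
        rw [map_mul, map_inv]
        exact inv_mul_eq_one.mpr e
      have h2 : ((d⁻¹ * d' : D) : G) ∈ K := (hφ _).mp h1
      have h3 := hsemi h2 hgN ((SEmb.smul_mk_eq_iff _ g).mp (d⁻¹ * d').2.2)
      exact inv_mul_eq_one.mp (Subtype.ext h3)
    let f : SEmb.Swap (QuotientGroup.mk 1 : G ⧸ N) (QuotientGroup.mk g) → D := fun i =>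
      ⟨u * i.1, mem_inf.mpr ⟨mem_stabilizer_iff.mpr (by
          rw [mul_smul, i.2.2, (SEmb.smul_invol_eq_iff hu _ _).mp huo]),
        mem_stabilizer_iff.mpr (by
          rw [mul_smul, (SEmb.smul_invol_eq_iff i.2.1 _ _).mp i.2.2, huo])⟩⟩
    have hfi : Function.Injective f := fun i j e =>
      Subtype.ext (mul_left_cancel (congrArg Subtype.val e))
    have hbij := hfi.bijective_of_nat_card_le (by rw [h.card_swap_eq, hk]; exact hDle)
    obtain ⟨i, hi⟩ := hbij.2 ⟨(x : G), mem_inf.mpr ⟨mem_stabilizer_iff.mpr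
      (AbInvCent.Hyp.fix_o_iff.mpr x.2), mem_stabilizer_iff.mpr ((SEmb.smul_mk_eq_iff _ g).mpr hg)⟩⟩
    have hi' : u * i.1 = x := congrArg Subtype.val hi
    have hinv : u * (x : G) * u = (x : G)⁻¹ := by
      rw [← hi', mul_inv_rev, Invol.inv_eq_self i.2.1, Invol.inv_eq_self hu, ← mul_assoc u u,
        Invol.mul_self_eq_one hu, one_mul]
    have hm : u * g ∈ N := by
      have := QuotientGroup.eq.mp
        ((MulAction.Quotient.smul_mk N u 1).symm.trans huo : ((u • (1 : G)) : G ⧸ N) = g)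
      rw [smul_eq_mul, mul_one, Invol.inv_eq_self hu] at this
      exact this
    have e : (⟨_, hg⟩ : N) = ⟨u * g, hm⟩⁻¹ * x⁻¹ * ⟨u * g, hm⟩ := by
      refine Subtype.ext ?_
      show g⁻¹ * (x : G) * g = (u * g)⁻¹ * (x : G)⁻¹ * (u * g)
      rw [← hinv, mul_inv_rev, Invol.inv_eq_self hu]
      simp only [mul_assoc]
      rw [← mul_assoc u u, Invol.mul_self_eq_one hu, one_mul, ← mul_assoc u u,
        Invol.mul_self_eq_one hu, one_mul]
    rw [e, map_mul, map_mul, map_inv, map_inv, mul_comm, ← mul_assoc, mul_inv_cancel, one_mul]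
  -- transfer
  have hφr : φ x ^ r = 1 := by rw [hxz, hzr]
  let := (N).fintypeQuotientOfFiniteIndex
  have hval : MonoidHom.transfer φ (x : G) = φ x := by
    rw [MonoidHom.transfer_eq_prod_quotient_orbitRel_zpowers_quot]
    have hterm : ∀ q : Quotient (orbitRel (zpowers (x : G)) (G ⧸ N)),
        φ ⟨q.out.out⁻¹ * (x : G) ^ Function.minimalPeriod ((x : G) • ·) q.out * q.out.out,
            QuotientGroup.out_conj_pow_minimalPeriod_mem N (x : G) q.out⟩ =
          ((φ x)⁻¹) ^ Function.minimalPeriod ((x : G) • ·) q.out *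
            (if q = (⟦(QuotientGroup.mk 1 : G ⧸ N)⟧ :
              Quotient (orbitRel (zpowers (x : G)) (G ⧸ N))) then φ x ^ 2 else 1) := by
      intro q
      generalize hper : QuotientGroup.out_conj_pow_minimalPeriod_mem N (x : G) q.out = hmem
      clear hper
      have hperiod : Function.IsPeriodicPt ((x : G) • ·) r q.out := by
        show ((x : G) • ·)^[r] q.out = q.out
        rw [smul_iterate]
        simp [hxr]
      by_cases hq : q = (⟦(QuotientGroup.mk 1 : G ⧸ N)⟧ :
          Quotient (orbitRel (zpowers (x : G)) (G ⧸ N)))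
      · have hout : q.out = QuotientGroup.mk 1 := by
          obtain ⟨c, hc⟩ := Quotient.exact ((Quotient.out_eq q).trans hq)
          exact hc.symm.trans (AbInvCent.Hyp.fix_o_iff.mpr (zpowers_le.mpr x.2 c.2))
        have hp1 : Function.minimalPeriod ((x : G) • ·) q.out = 1 :=
          Function.minimalPeriod_eq_one_iff_isFixedPt.mpr
            (hout ▸ AbInvCent.Hyp.fix_o_iff.mpr x.2)
        have hoN : q.out.out ∈ N := by
          have := QuotientGroup.eq.mp ((QuotientGroup.out_eq' q.out).trans hout)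
          simpa using inv_mem this
        rw [if_pos hq]
        have e : (⟨_, hmem⟩ : N) = ⟨_, hoN⟩⁻¹ * x * ⟨_, hoN⟩ := by
          refine Subtype.ext ?_
          show q.out.out⁻¹ * (x : G) ^ _ * q.out.out = q.out.out⁻¹ * (x : G) * q.out.out
          erw [hp1, pow_one]
        rw [e, map_mul, map_mul, map_inv, hp1, pow_one, pow_two, inv_mul_cancel_left,
          mul_comm, ← mul_assoc, mul_inv_cancel, one_mul]
      · rw [if_neg hq, mul_one]
        rcases (Nat.dvd_prime h.setting.hyp.prime).1 hperiod.minimalPeriod_dvd with hp | hp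
        · have hoN : q.out.out ∉ N := fun e => hq (by
            rw [← Quotient.out_eq q]
            refine congrArg _ ((QuotientGroup.out_eq' q.out).symm.trans ?_)
            exact QuotientGroup.eq.mpr (by simpa using inv_mem e))
          have hm2 : q.out.out⁻¹ * (x : G) * q.out.out ∈ N := by
            have := hmem; rwa [hp, pow_one] at this
          rw [show (⟨_, hmem⟩ : N) = ⟨_, hm2⟩ from Subtype.ext (show q.out.out⁻¹ * (x : G) ^ _ * q.out.out = q.out.out⁻¹ * (x : G) * q.out.out by erw [hp, pow_one]), hconj _ hoN hm2,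
            hp, pow_one]
        · rw [show (⟨_, hmem⟩ : N) = 1 from Subtype.ext (show q.out.out⁻¹ * (x : G) ^ _ * q.out.out = 1 by erw [hp, hxr, mul_one, inv_mul_cancel]), map_one, hp,
            inv_pow, hφr, inv_one]
    rw [Finset.prod_congr rfl (fun q _ => hterm q), Finset.prod_mul_distrib,
      Finset.prod_pow_eq_pow_sum, ← index_eq_sum_minimalPeriod N (x : G), Finset.prod_ite_eq',
      if_pos (Finset.mem_univ _), pow_eq_pow_mod (N).index (show (φ x)⁻¹ ^ r = 1 by
        rw [inv_pow, hφr, inv_one]), hn, Nat.mod_eq_of_lt h.setting.hyp.prime.one_lt, pow_one,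
      pow_two, inv_mul_cancel_left]
  have hbot := (Subgroup.Normal.eq_bot_or_eq_top
    (MonoidHom.normal_ker (MonoidHom.transfer φ))).resolve_right fun e => hz (by
      rw [← hxz]
      show φ x = 1
      rw [← hval]
      exact e.ge (mem_top (x : G)))
  obtain ⟨p, q, hpq⟩ := hab
  refine hpq ((MonoidHom.ker_eq_bot_iff _).mp hbot ?_)
  rw [map_mul, map_mul, mul_comm]

end Reg

end CfsgLib.TwoR
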