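import Cfsg.Agent.Lib.TwoR.RegularBasic
import Cfsg.Agent.Lib.Solvable.Core
import Mathlib.GroupTheory.SemidirectProduct
import Mathlib.Algebra.Ring.GeomSum

/-!
# The automorphism group induced on `S` by its normaliser
-/

set_option autoImplicit false
set_option linter.style.haveILetI false
set_option linter.unusedSectionVars false

namespace CfsgLib.TwoR

open Subgroup CfsgLib

variable {G : Type*} [Group G]

/-- The automorphisms of `S` induced by `N(S)`. -/
abbrev autX (S : Sylow 2 G) : Subgroup (MulAut (S : Subgroup G)) :=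
  (normalizerMonoidHom (S : Subgroup G)).range

/-- If `r ^ j + 1` is a power of two with `j` odd then `r ^ j = r`. -/
theorem pow_eq_self_of_two_pow {r j m : ℕ} (hr : 2 ≤ r) (hj : Odd j) (he : r ^ j + 1 = 2 ^ m) :
    r ^ j = r := by
  have hrodd : Odd r := by
    rcases Nat.even_or_odd r with hev | ho
    · exfalso
      have h1 : Even (r ^ j) := Nat.even_pow.mpr ⟨hev, by rintro rfl; simp at hj⟩
      rcases Nat.eq_zero_or_pos m with rfl | hm
      · rw [pow_zero] at he
        have := Nat.one_le_pow j r (by omega)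
        omega
      · have h2 : Even (2 ^ m) := Nat.even_pow.mpr ⟨even_two, hm.ne'⟩
        rw [← he, Nat.even_add_one] at h2
        exact h2 h1
    · exact ho
  set c : ℤ := ∑ l ∈ Finset.range j, (-(r : ℤ)) ^ l with hc
  have hm : c * ((r : ℤ) + 1) = ((r ^ j + 1 : ℕ) : ℤ) := by
    have e := geom_sum_mul (-(r : ℤ)) j
    rw [← hc, hj.neg_pow] at e
    push_cast
    linear_combination -e
  have hcodd : Odd c := by
    rw [← Int.not_even_iff_odd, even_iff_two_dvd]
    intro hdvd
    have h0 : ((c : ℤ) : ZMod 2) = 0 := (ZMod.intCast_zmod_eq_zero_iff_dvd c 2).mpr (by exact_mod_cast hdvd)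
    revert h0
    rw [hc]
    push_cast
    have hr1 : (r : ZMod 2) = 1 := ZMod.natCast_eq_one_iff_odd.mpr hrodd
    simp [hr1, ZMod.neg_eq_self_mod_two, ZMod.natCast_eq_one_iff_odd.mpr hj]
  have hcu : c.natAbs = 1 := by
    refine Nat.eq_one_of_dvd_coprimes (b := 2 ^ m) ((Nat.coprime_two_right.mpr
      (Int.natAbs_odd.mpr hcodd)).pow_right m) dvd_rfl ?_
    have hd : c ∣ ((2 ^ m : ℕ) : ℤ) := ⟨_, he ▸ hm.symm⟩
    exact Int.natCast_dvd_natCast.mp (Int.natAbs_dvd.mpr hd)
  rcases Int.natAbs_eq c with h1 | h1 <;> rw [hcu] at h1 <;> rw [h1] at hm <;> push_cast at hm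
  · exact_mod_cast (by linarith : (r : ℤ) ^ j = r)
  · have : (0 : ℤ) ≤ (r : ℤ) ^ j := by positivity
    linarith

namespace Reg

variable [Finite G] {r : ℕ} {S : Sylow 2 G} (h : Reg G r S)
include h

local notation "S'" => (S : Subgroup G)
local notation "K" => centralizer ((S : Subgroup G) : Set G)
local notation "N" => normalizer ((S : Subgroup G) : Set G)
local notation "A₀" => oddPart r S
local notation "ρ" => normalizerMonoidHom (S : Subgroup G)

omit h in
theorem rho_eq_one_iff (n : N) : ρ n = 1 ↔ (n : G) ∈ K := by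
  rw [← MonoidHom.mem_ker, normalizerMonoidHom_ker, mem_subgroupOf]

theorem semireg {x : MulAut S'} (hx : x ∈ autX S) {v : S'} (hv : v ≠ 1) (hxv : x v = v) :
    x = 1 := by
  obtain ⟨n, rfl⟩ := hx
  exact (rho_eq_one_iff n).mpr (h.mem_K_of_fix v.2 (fun e => hv (Subtype.ext e))
    (congrArg Subtype.val hxv))

theorem card_X : Nat.card (autX S) = Nat.card S' - 1 := by
  have e := (card_eq_card_quotient_mul_card_subgroup (ρ).ker)
  rw [Nat.card_congr (QuotientGroup.quotientKerEquivRange ρ).toEquiv, normalizerMonoidHom_ker,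
    Nat.card_congr (subgroupOfEquivOfLe (K_le_N (S := S))).toEquiv, h.card_N] at e
  exact (Nat.eq_of_mul_eq_mul_right Nat.card_pos e).symm

theorem card_S_even : Even (Nat.card S') := by
  obtain ⟨t, ht, ht1⟩ := h.exists_invol_S
  exact Invol.even_card_of_orderOf_two_mem (h.orderOf_S ht ht1) ht

theorem card_X_odd : Odd (Nat.card (autX S)) := by
  rw [h.card_X]
  have := h.setting.four_le
  exact Nat.Even.sub_odd (by omega) h.card_S_even odd_one

theorem one_lt_card_X : 1 < Nat.card (autX S) := by
  rw [h.card_X]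
  have := h.setting.four_le
  omega

/-- No element of `X` has order `r s` for another prime `s`. -/
theorem no_rs {s : ℕ} (hs : s.Prime) (hsr : s ≠ r) (x : autX S) : orderOf x ≠ r * s := by
  intro e
  obtain ⟨n, hn⟩ := x.2
  have hd : r * s ∣ orderOf (n : G) := by
    rw [← e, orderOf_coe n, ← orderOf_coe x, ← hn]
    exact orderOf_map_dvd ρ n
  have hs2 : s ≠ 2 := by
    rintro rfl
    exact (Nat.not_even_iff_odd.mpr h.card_X_odd) (even_iff_two_dvd.mpr
      (((dvd_mul_left 2 r).trans e.symm.dvd).trans (orderOf_dvd_natCard x)))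
  have hsd : s ∣ orderOf (n : G) := (dvd_mul_left s r).trans hd
  rcases h.setting.hyp.div _ ((dvd_mul_right r s).trans hd) with e' | e' <;> rw [e'] at hsd
  · exact hsr ((Nat.prime_dvd_prime_iff_eq hs h.setting.hyp.prime).mp hsd)
  · rcases hs.dvd_mul.mp hsd with h1 | h1
    · exact hs2 ((Nat.prime_dvd_prime_iff_eq hs Nat.prime_two).mp h1)
    · exact hsr ((Nat.prime_dvd_prime_iff_eq hs h.setting.hyp.prime).mp h1)

/-- A subgroup of prime exponent `q` of `X` is not normalised by an element of prime order `p` when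
`{p, q}` is `{r, s}` with `s ≠ r`. -/
theorem not_normalises {T : Subgroup (autX S)} [IsMulCommutative T] {q p s : ℕ} (hq : q.Prime)
    (hp : p.Prime) (hs : s.Prime) (hsr : s ≠ r) (hpq : p * q = r * s) (hne : p ≠ q)
    (hT : ∀ t ∈ T, t ^ q = 1) (hT1 : T ≠ ⊥) {w : autX S} (hw : orderOf w = p)
    (hwT : w ∈ normalizer (T : Set (autX S))) : False := by
  haveI := Fact.mk hq
  haveI := Fact.mk hp
  have hwp : w ^ p = 1 := hw ▸ pow_orderOf_eq_one w
  have hw1 : w ≠ 1 := fun e => hp.ne_one (by rw [← hw, e, orderOf_one])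
  have hfp : ∀ t ∈ T, Commute w t → t = 1 := by
    intro t ht hc
    by_contra ht1
    refine h.no_rs hs hsr (w * t) ?_
    rw [hc.orderOf_mul_eq_mul_orderOf_of_coprime, hw, orderOf_eq_prime (hT t ht) ht1, hpq]
    rw [hw, orderOf_eq_prime (hT t ht) ht1]
    exact (Nat.coprime_primes hp hq).mpr hne
  haveI : IsMulCommutative S' := ⟨⟨fun x y => Subtype.ext (h.comm_S x.2 y.2)⟩⟩
  let φ : autX S →* MulAut S' := (autX S).subtype
  haveI : Finite (SemidirectProduct S' (autX S) φ) :=
    Finite.of_equiv _ SemidirectProduct.equivProd.symm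
  let il : S' →* SemidirectProduct S' (autX S) φ := SemidirectProduct.inl
  let ir : autX S →* SemidirectProduct S' (autX S) φ := SemidirectProduct.inr
  have hir : Function.Injective ir := SemidirectProduct.inr_injective
  have hconj : ∀ (g : autX S) (v : S'), ir g * il v * (ir g)⁻¹ = il (φ g v) := fun g v => by
    rw [SemidirectProduct.inl_aut, map_inv]
  have hsol : Group.IsSolvable il.range := by
    refine Group.isSolvable_of_comm ?_
    rintro ⟨_, v, rfl⟩ ⟨_, v', rfl⟩
    refine Subtype.ext ?_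
    show il v * il v' = il v' * il v
    rw [← map_mul, ← map_mul]
    exact congrArg il (Subtype.ext (h.comm_S v.2 v'.2).eq)
  haveI : il.range.Normal := by
    show (SemidirectProduct.inl : S' →* SemidirectProduct S' (autX S) φ).range.Normal
    rw [SemidirectProduct.range_inl_eq_ker_rightHom]
    infer_instance
  have key := commute_of_norm hp (E := T.map ir) (D := il.range) (y := ir w)
    (by rw [← map_pow, hwp, map_one]) ?_ ?_ hsol ?_ le_normalizer_of_normal
    ((normalizer_eq_top_iff.mpr inferInstance).ge (mem_top _)) ?_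
  · obtain ⟨t, ht, ht1⟩ := (bot_or_exists_ne_one T).resolve_left hT1
    obtain ⟨v, hv, hv1⟩ := h.exists_invol_S
    have hc := (key (ir t) (mem_map_of_mem ir ht) (il ⟨v, hv⟩) ⟨_, rfl⟩).eq
    have e : φ t ⟨v, hv⟩ = ⟨v, hv⟩ := SemidirectProduct.inl_injective (φ := φ) (by
      show il (φ t ⟨v, hv⟩) = il ⟨v, hv⟩
      rw [← hconj, hc, mul_inv_cancel_right])
    exact ht1 (Subtype.ext (h.semireg t.2 (fun e' => hv1 (congrArg Subtype.val e')) e))
  · exact le_normalizer_map ir (mem_map_of_mem ir hwT)
  · refine pow_fpf hp (by rw [← map_pow, hwp, map_one]) ?_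
    rintro _ ⟨t, ht, rfl⟩ hc
    rw [hfp t ht (hir (by rw [map_mul, map_mul]; exact hc.eq)), map_one]
  · rw [Subgroup.card_map_of_injective hir,
      Nat.card_congr (MonoidHom.ofInjective (f := il) SemidirectProduct.inl_injective).toEquiv.symm]
    obtain ⟨j, hj⟩ := S.2.exists_card_eq
    rw [hj]
    exact ((Nat.coprime_two_left.mpr
      (h.card_X_odd.of_dvd_nat (card_subgroup_dvd_card T)))).pow_left j
  · rintro _ ⟨d, rfl⟩
    have hright : (SemidirectProduct.rightHom (φ := φ)) ((il d * ir w) ^ p) = 1 := by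
      rw [map_pow, map_mul]
      simp [il, ir, hwp]
    obtain ⟨v, hv⟩ : (il d * ir w) ^ p ∈ il.range := by
      show _ ∈ (SemidirectProduct.inl : S' →* SemidirectProduct S' (autX S) φ).range
      rw [SemidirectProduct.range_inl_eq_ker_rightHom]
      exact hright
    rw [← hv]
    have hc1 : Commute (il v) (il d * ir w) := hv ▸ (Commute.refl _).pow_left p
    have hc2 : Commute (il v) (il d) := by
      show il v * il d = il d * il v
      rw [← map_mul, ← map_mul]
      exact congrArg il (Subtype.ext (h.comm_S v.2 d.2).eq)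
    have hc3 : Commute (il v) (ir w) := by
      have := hc2.inv_right.mul_right hc1
      rwa [inv_mul_cancel_left] at this
    have e : φ w v = v := SemidirectProduct.inl_injective (φ := φ) (by
      show il (φ w v) = il v
      rw [← hconj, ← hc3.eq, mul_inv_cancel_right])
    by_contra hne
    have hv1 : v ≠ 1 := fun e' => hne (by rw [e', map_one])
    exact hw1 (Subtype.ext (h.semireg w.2 hv1 e))

/-- `|S| - 1` is `r` or prime to `r`. -/
theorem k_eq_r (hr : r ∣ Nat.card S' - 1) : Nat.card S' - 1 = r := by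
  rw [← h.card_X] at hr ⊢
  haveI := Fact.mk h.setting.hyp.prime
  by_cases hs : ∃ s, s.Prime ∧ s ≠ r ∧ s ∣ Nat.card (autX S)
  · exfalso
    obtain ⟨s, hs, hsr, hsd⟩ := hs
    haveI := Fact.mk hs
    haveI : Group.IsSolvable (autX S) := Cfsg.Agent.S0205.result h.card_X_odd
    haveI : Nontrivial (autX S) := Finite.one_lt_card_iff_nontrivial.mp h.one_lt_card_X
    obtain ⟨T, hTn, hT1, -, hTmin⟩ :=
      Solvable.exists_minimal_normal_le (⊤ : Subgroup (autX S)) top_ne_bot
    obtain ⟨hTc, q, hq, hTq⟩ := Solvable.minimal_normal_elementary_abelian T hT1 hTmin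
    haveI := Fact.mk hq
    by_cases hqr : q = r
    · obtain ⟨w, hw⟩ := exists_prime_orderOf_dvd_card' s hsd
      exact h.not_normalises hq hs hs hsr (by rw [hqr, mul_comm]) (hqr.symm ▸ hsr) hTq hT1 hw
        ((normalizer_eq_top_iff.mpr hTn).ge (mem_top w))
    · obtain ⟨w, hw⟩ := exists_prime_orderOf_dvd_card' r hr
      exact h.not_normalises hq h.setting.hyp.prime hq hqr rfl (Ne.symm hqr) hTq hT1 hw
        ((normalizer_eq_top_iff.mpr hTn).ge (mem_top w))
  · push Not at hs
    obtain ⟨j, hj⟩ : ∃ j, Nat.card (autX S) = r ^ j :=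
      ⟨_, Nat.eq_prime_pow_of_unique_prime_dvd Nat.card_pos.ne' fun hd hd' => by
        by_contra hne
        exact hs _ hd hne hd'⟩
    obtain ⟨m, hm⟩ := S.2.exists_card_eq
    have he : r ^ j + 1 = 2 ^ m := by
      rw [← hj, h.card_X, ← hm]
      have := h.setting.four_le
      omega
    rw [hj]
    refine pow_eq_self_of_two_pow h.setting.hyp.prime.two_le ?_ he
    by_contra hev
    rw [Nat.not_odd_iff_even] at hev
    obtain ⟨i, rfl⟩ := hev
    have h4 : (r ^ (i + i) + 1) % 4 = 2 := by
      obtain ⟨l, hl⟩ := h.setting.hyp.odd_r.pow (n := i)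
      rw [pow_add, hl, show (2 * l + 1) * (2 * l + 1) + 1 = 4 * (l * l + l) + 2 by ring]
      omega
    have h2 : 4 ∣ 2 ^ m := by
      have h4le := h.setting.four_le
      rw [hm] at h4le
      rcases m with _ | _ | m
      · simp at h4le
      · simp at h4le
      · exact ⟨2 ^ m, by rw [pow_succ, pow_succ]; ring⟩
    omega

end Reg

end CfsgLib.TwoR
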