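import Cfsg.Agent.Lib.TwoR.RegularBasic
import Cfsg.Agent.Lib.CA.EvenOrder

/-!
# Linear characters of `C(S)` moved by every automorphism of `S` induced by `N(S)`
-/

set_option autoImplicit false
set_option linter.unusedSectionVars false

open scoped ComplexConjugate

namespace CfsgLib.TwoR

universe u

open Subgroup CfsgLib

variable {G : Type u} [Group G]

/-- The centraliser of a Sylow `2`-subgroup. -/
abbrev CS (S : Sylow 2 G) : Subgroup G := centralizer (((S : Subgroup G)) : Set G)

/-- The normaliser of a Sylow `2`-subgroup. -/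
abbrev NS (S : Sylow 2 G) : Subgroup G := normalizer (((S : Subgroup G)) : Set G)

theorem conj_mem_CS {S : Sylow 2 G} {n a : G} (hn : n ∈ NS S) (ha : a ∈ CS S) :
    n * a * n⁻¹ ∈ CS S := by
  refine mem_centralizer_iff.mpr fun y hy => ?_
  have e := mem_centralizer_iff.mp ha _ ((mem_normalizer_iff''.mp hn y).mp hy)
  simpa [mul_assoc] using congrArg (fun w => n * w * n⁻¹) e

/-- Conjugation of `C(S)` by an element of `N(S)`. -/
def conjK (S : Sylow 2 G) (x : (NS S)) : (CS S) ≃* (CS S) where
  toFun b := ⟨(x : G) * b * (x : G)⁻¹, conj_mem_CS x.2 b.2⟩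
  invFun b := ⟨(x : G)⁻¹ * b * (x : G), by
    have := conj_mem_CS (inv_mem x.2) b.2
    rwa [inv_inv] at this⟩
  left_inv b := Subtype.ext (by simp [mul_assoc])
  right_inv b := Subtype.ext (by simp [mul_assoc])
  map_mul' b c := Subtype.ext (by simp [mul_assoc])

variable {S : Sylow 2 G}

theorem conjK_coe (x : (NS S)) (b : (CS S)) : ((conjK S x b : (CS S)) : G) = (x : G) * b * (x : G)⁻¹ :=
  rfl

theorem conjK_mul (x y : (NS S)) (b : (CS S)) : conjK S (x * y) b = conjK S x (conjK S y b) :=
  Subtype.ext (by simp [conjK_coe, mul_assoc])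

/-- A linear character of `C(S)` fixed by no element of `N(S)` outside `C(S)`. -/
def IsGood (S : Sylow 2 G) (f : (CS S) →* ℂˣ) : Prop :=
  ∀ x : (NS S), (∀ b, f (conjK S x b) = f b) → (x : G) ∈ (CS S)

/-- The good linear characters. -/
abbrev GC (S : Sylow 2 G) : Type u := {f : (CS S) →* ℂˣ // IsGood S f}

/-- Twisting a good character. -/
def tw (x : (NS S)) (l : GC S) : GC S :=
  ⟨l.1.comp (conjK S x).toMonoidHom, fun y hy => by
    have hK : ((x * y * x⁻¹ : (NS S)) : G) ∈ (CS S) := l.2 _ fun b => by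
      have e := hy (conjK S x⁻¹ b)
      simp only [MonoidHom.comp_apply, MulEquiv.coe_toMonoidHom, ← conjK_mul,
        mul_inv_cancel] at e
      rw [mul_assoc]
      rw [show conjK S 1 b = b from Subtype.ext (by simp [conjK_coe])] at e
      exact e
    have := conj_mem_CS (inv_mem x.2) hK
    simpa [mul_assoc] using this⟩

theorem tw_apply (x : (NS S)) (l : GC S) (b : (CS S)) : (tw x l).1 b = l.1 (conjK S x b) := rfl

theorem tw_mul (x y : (NS S)) (l : GC S) : tw (x * y) l = tw y (tw x l) := by
  refine Subtype.ext (MonoidHom.ext fun b => ?_)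
  rw [tw_apply, tw_apply, tw_apply, conjK_mul]

theorem tw_one (l : GC S) : tw 1 l = l := by
  refine Subtype.ext (MonoidHom.ext fun b => ?_)
  rw [tw_apply]
  exact congrArg _ (Subtype.ext (by simp [conjK_coe]))

theorem tw_eq_self_iff (x : (NS S)) (l : GC S) : tw x l = l ↔ (x : G) ∈ (CS S) := by
  refine ⟨fun e => l.2 x fun b => DFunLike.congr_fun (congrArg Subtype.val e) b, fun hx => ?_⟩
  refine Subtype.ext (MonoidHom.ext fun b => ?_)
  have e : conjK S x b = ⟨(x : G), hx⟩ * b * ⟨(x : G), hx⟩⁻¹ := Subtype.ext (by simp [conjK_coe])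
  rw [tw_apply, e, map_mul, map_mul, map_inv, mul_comm, ← mul_assoc, inv_mul_cancel, one_mul]

variable (S) in
/-- Twist-equivalence of good characters. -/
def twSetoid : Setoid (GC S) where
  r l m := ∃ x, tw x l = m
  iseqv :=
    { refl := fun l => ⟨1, tw_one l⟩
      symm := fun {l m} ⟨x, h⟩ => ⟨x⁻¹, by rw [← h, ← tw_mul, mul_inv_cancel, tw_one]⟩
      trans := fun {l m k} ⟨x, h⟩ ⟨y, h'⟩ => ⟨x * y, by rw [tw_mul, h, h']⟩ }

/-- The orbits of good characters. -/
abbrev Orb (S : Sylow 2 G) : Type u := Quotient (twSetoid S)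

/-- The orbit of a good character. -/
abbrev orb (l : GC S) : Orb S := Quotient.mk (twSetoid S) l

/-- A good character as a complex function. -/
def val (l : GC S) : (CS S) → ℂ := fun b => (l.1 b : ℂ)

theorem val_one (l : GC S) : val l 1 = 1 := by simp [val]

theorem val_injective : Function.Injective (val (S := S)) := fun _ _ h =>
  Subtype.ext (MonoidHom.ext fun b => Units.ext (congrFun h b))

theorem val_tw (x : (NS S)) (l : GC S) (b : (CS S)) : val (tw x l) b = val l (conjK S x b) := rfl

/-- A good character as an irreducible character. -/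
def irr (l : GC S) : Cfsg.IrrCharacter (CS S) := ⟨val l, Char.isIrrCharacter_linear l.1⟩

theorem irr_injective : Function.Injective (irr (S := S)) := fun _ _ h =>
  val_injective (congrArg Subtype.val h)

variable [Fintype G]

theorem card_twisting [DecidableEq (GC S)] [Fintype (NS S)]
    {l m : GC S} [Decidable (∃ x, tw x l = m)] :
    (Finset.univ.filter fun x => tw x l = m).card =
      if ∃ x, tw x l = m then Nat.card (CS S) else 0 := by
  classical
  split_ifs with h
  · obtain ⟨x₀, hx₀⟩ := h
    rw [← Fintype.card_subtype, ← Nat.card_eq_fintype_card]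
    have hKN : ∀ b : (CS S), (b : G) ∈ (NS S) := fun b => centralizer_le_normalizer _ b.2
    refine Nat.card_congr
      { toFun := fun x => ⟨(x.1 * x₀⁻¹ : (NS S)),
          (tw_eq_self_iff _ l).mp (by
            rw [tw_mul, x.2, ← hx₀, ← tw_mul, mul_inv_cancel, tw_one])⟩
        invFun := fun b => ⟨⟨b, hKN b⟩ * x₀, by
          rw [tw_mul, (tw_eq_self_iff ⟨(b : G), hKN b⟩ l).mpr b.2, hx₀]⟩
        left_inv := fun x => Subtype.ext (by ext; simp)
        right_inv := fun b => Subtype.ext (by simp) }
  · rw [Finset.card_eq_zero, Finset.filter_eq_empty_iff]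
    exact fun x _ hx => h ⟨x, hx⟩

/-- `|K| [l ~ m] = #{x ∈ N | tw x l = m}`. -/
theorem card_mul_orb_eq [DecidableEq (GC S)] [Fintype (NS S)] [DecidableEq (Orb S)] (l m : GC S) :
    (Nat.card (CS S) : ℂ) * (if orb l = orb m then 1 else 0) =
      ∑ x : (NS S), if tw x l = m then (1 : ℂ) else 0 := by
  classical
  rw [Finset.sum_boole, card_twisting]
  have hiff : orb l = orb m ↔ ∃ x, tw x l = m :=
    ⟨fun h => Quotient.exact h, fun h => Quotient.sound h⟩
  by_cases h : ∃ x, tw x l = m
  · simp [h, hiff.mpr h]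
  · simp [h, mt hiff.mp h]

namespace Reg

variable {r : ℕ} (h : Reg G r S)
include h

/-- Values of an induced function on `C(S)`. -/
theorem indFun_apply_of_mem [Fintype (NS S)] (θ : (CS S) → ℂ) {b : (CS S)} (hb : b ≠ 1) :
    Cfsg.indFun (CS S) θ b = (Nat.card (CS S) : ℂ)⁻¹ * ∑ x : (NS S), θ (conjK S x b) := by
  classical
  rw [Char.indFun_apply]
  congr 1
  symm
  refine Finset.sum_of_injOn (fun x => ((x : G))⁻¹) ?_ (by simp) ?_ ?_
  · intro x _ y _ h
    exact Subtype.ext (inv_injective h)
  · intro y _ hy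
    by_cases hmem : y⁻¹ * (b : G) * y ∈ (CS S)
    · exfalso
      refine hy ⟨⟨y⁻¹, ?_⟩, by simp, by simp⟩
      refine h.mem_N_of_conj b.2 (fun e => hb (Subtype.ext e)) ?_
      simpa [CS] using hmem
    · exact Char.extendByZero_of_notMem _ θ hmem
  · intro x _
    have hmem : ((x : G)⁻¹)⁻¹ * (b : G) * (x : G)⁻¹ ∈ (CS S) := by
      rw [inv_inv]; exact (conjK S x b).2
    rw [Char.extendByZero_apply_mem _ θ hmem]
    exact congrArg θ (Subtype.ext (by simp [conjK_coe]))

omit h in
/-- Induction is constant on orbits. -/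
theorem indFun_tw (x : (NS S)) (l : GC S) :
    Cfsg.indFun (CS S) (val (tw x l)) = Cfsg.indFun (CS S) (val l) := by
  funext g
  rw [Char.indFun_apply, Char.indFun_apply]
  congr 1
  refine Fintype.sum_equiv (Equiv.mulRight (x : G)⁻¹) _ _ fun y => ?_
  have he : ((Equiv.mulRight (x : G)⁻¹) y)⁻¹ * g * (Equiv.mulRight (x : G)⁻¹) y =
      (x : G) * (y⁻¹ * g * y) * (x : G)⁻¹ := by simp [mul_assoc]
  rw [he]
  by_cases hy : y⁻¹ * g * y ∈ (CS S)
  · rw [Char.extendByZero_apply_mem _ _ hy,
      Char.extendByZero_apply_mem _ _ (conj_mem_CS x.2 hy), val_tw]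
    rfl
  · rw [Char.extendByZero_of_notMem _ _ hy, Char.extendByZero_of_notMem _ _ fun h' => hy (by
      have := conj_mem_CS (inv_mem x.2) h'
      simpa [mul_assoc] using this)]

/-- The Gram matrix of the differences of induced characters. -/
theorem gram [DecidableEq (Orb S)] (l l' m m' : GC S) :
    Cfsg.classInner (Cfsg.indFun (CS S) (val l) - Cfsg.indFun (CS S) (val l'))
      (Cfsg.indFun (CS S) (val m) - Cfsg.indFun (CS S) (val m')) =
      (if orb l = orb m then 1 else 0) - (if orb l = orb m' then 1 else 0) -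
        (if orb l' = orb m then 1 else 0) + (if orb l' = orb m' then 1 else 0) := by
  classical
  have hne : (Nat.card (CS S) : ℂ) ≠ 0 := Nat.cast_ne_zero.mpr Nat.card_pos.ne'
  rw [← Char.indFun_sub, ← Char.indFun_sub,
    Char.classInner_indFun _ _ _ (Char.isClassFunction_indFun _ _)]
  have hres : Cfsg.classInner (val l - val l')
        (fun b : (CS S) => Cfsg.indFun (CS S) (val m - val m') b) =
      Cfsg.classInner (val l - val l')
        ((Nat.card (CS S) : ℂ)⁻¹ • ∑ x : (NS S), (val (tw x m) - val (tw x m'))) := by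
    unfold Cfsg.classInner
    congr 1
    refine Finset.sum_congr rfl fun b _ => ?_
    by_cases hb : b = 1
    · subst hb
      simp [val_one]
    · dsimp only
      rw [h.indFun_apply_of_mem _ hb, Pi.smul_apply, Finset.sum_apply, smul_eq_mul]
      rfl
  rw [hres, Char.classInner_smul_right, map_inv₀, map_natCast]
  have hirr : ∀ p q : GC S, Cfsg.classInner (val p) (val q) = if p = q then 1 else 0 := fun p q => by
    show Cfsg.classInner (irr p : (CS S) → ℂ) (irr q : (CS S) → ℂ) = _
    rw [Char.classInner_irrCharacter]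
    exact if_congr irr_injective.eq_iff rfl rfl
  simp only [Char.classInner_sum_right, Char.classInner_sub_left, Char.classInner_sub_right,
    hirr, Finset.sum_sub_distrib]
  have key : ∀ p q : GC S,
      ∑ x : (NS S), (if p = tw x q then (1 : ℂ) else 0) =
        (Nat.card (CS S) : ℂ) * (if orb p = orb q then 1 else 0) := by
    intro p q
    rw [show (if orb p = orb q then (1 : ℂ) else 0) = if orb q = orb p then 1 else 0 from
      if_congr eq_comm rfl rfl, card_mul_orb_eq q p]
    exact Finset.sum_congr rfl fun x _ => if_congr eq_comm rfl rfl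
  rw [key, key, key, key]
  field_simp
  ring

/-- The exceptional characters. -/
theorem exists_exceptional [Nonempty (GC S)] :
    ∃ (ε : ℂ) (μ : Orb S → Cfsg.IrrCharacter G), (ε = 1 ∨ ε = -1) ∧ Function.Injective μ ∧
      ∀ l l' : GC S, Cfsg.indFun (CS S) (val l) - Cfsg.indFun (CS S) (val l') =
        ε • ((μ (orb l) : G → ℂ) - (μ (orb l') : G → ℂ)) := by
  classical
  obtain ⟨l₀⟩ := ‹Nonempty (GC S)›
  let i₀ : Orb S := orb l₀
  let τ : Orb S → G → ℂ := fun o =>
    Cfsg.indFun (CS S) (val (Quotient.out o)) - Cfsg.indFun (CS S) (val (Quotient.out i₀))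
  have hout : ∀ o : Orb S, orb (Quotient.out o) = o := fun o => Quotient.out_eq o
  have hgen : ∀ l : GC S, Cfsg.IsGeneralizedCharacter G (Cfsg.indFun (CS S) (val l)) := fun l =>
    Char.IsCharacter.isGeneralizedCharacter
      (Char.IsCharacter.indFun _ (Char.IsIrrCharacter.isCharacter (Char.isIrrCharacter_linear l.1)))
  obtain ⟨ε, hε, μ, hμ, hinj, hτ⟩ := CharExc.exists_base i₀ τ (sub_self _)
    (fun o => by exact Char.IsGeneralizedCharacter.sub (hgen _) (hgen _))
    (fun o => by
      show Cfsg.indFun (CS S) _ 1 - Cfsg.indFun (CS S) _ 1 = 0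
      rw [Char.indFun_apply_one, Char.indFun_apply_one, val_one, val_one, sub_self])
    (fun o ho => by
      simp only [τ]
      rw [h.gram, hout, hout, if_pos rfl, if_neg ho, if_neg (Ne.symm ho), if_pos rfl]
      norm_num)
    (fun o o' ho ho' hoo => by
      simp only [τ]
      rw [h.gram, hout, hout, hout, if_neg hoo, if_neg ho, if_neg (Ne.symm ho'), if_pos rfl]
      norm_num)
  have hind : ∀ l : GC S,
      Cfsg.indFun (CS S) (val l) = Cfsg.indFun (CS S) (val (Quotient.out (orb l))) := by
    intro l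
    obtain ⟨x, hx⟩ := Quotient.exact (hout (orb l))
    rw [← indFun_tw x (Quotient.out (orb l)), hx]
  refine ⟨ε, fun o => ⟨μ o, hμ o⟩, hε, fun o o' h => hinj (congrArg Subtype.val h), fun l l' => ?_⟩
  rw [hind l, hind l', show Cfsg.indFun (CS S) (val (Quotient.out (orb l))) -
    Cfsg.indFun (CS S) (val (Quotient.out (orb l'))) = τ (orb l) - τ (orb l') from
    (sub_sub_sub_cancel_right _ _ _).symm, hτ, hτ, ← smul_sub, sub_sub_sub_cancel_right]

end Reg

end CfsgLib.TwoR
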